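import Cfsg.Agent.Fusion.Product.Basic
import Cfsg.Agent.Fusion.NormalCentralizer.Realize
import Cfsg.Agent.Fusion.CentricMeet

/-!
Extending automorphisms of order prime to `p` from the part inside a subgroup containing the
hyperfocal subgroup.
-/

set_option autoImplicit false
set_option linter.unusedSectionVars false
set_option linter.style.haveILetI false

namespace Cfsg.Lib.Fusion.Product

open Cfsg Cfsg.FusionSystem Cfsg.Lib.Fusion

universe u

variable {Ω : Type u} [Group Ω] {R U : Subgroup Ω} {X : FusionSystem R} {p : ℕ}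

theorem autFun_conj {P : Subgroup Ω} (α : MulAut P) {x y : Ω} (hx : x ∈ P) (hy : y ∈ P) :
    autFun α (x * y * x⁻¹) = autFun α x * autFun α y * (autFun α x)⁻¹ := by
  rw [autFun_apply_mem α hx, autFun_apply_mem α hy,
    autFun_apply_mem α (P.mul_mem (P.mul_mem hx hy) (P.inv_mem hx)),
    show (⟨x * y * x⁻¹, P.mul_mem (P.mul_mem hx hy) (P.inv_mem hx)⟩ : P) =
      ⟨x, hx⟩ * ⟨y, hy⟩ * ⟨x, hx⟩⁻¹ from rfl, map_mul, map_mul, map_inv]
  rfl

variable [Finite R] [Fact p.Prime]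

/-- An automorphism of order prime to `p` shifts inside the hyperfocal subgroup. -/
theorem coprime_shift {P : Subgroup Ω} (hP : P ≤ R) {α : MulAut P} (hα : α ∈ X.autGroup P)
    (hcop : (orderOf α).Coprime p) {x : Ω} (hx : x ∈ P) :
    x⁻¹ * autFun α x ∈ X.hyperfocalSubgroup p :=
  mem_hyperfocalSubgroup (F := X) hP (α := ⟨α, hα⟩)
    (Cfsg.Lib.Transfer.mem_pResidual_of_coprime (by rwa [Subgroup.orderOf_mk])) hx

/-- The part of a centric radical subgroup inside an invariant subsystem is centric in it. -/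
theorem meet_centric (hR : IsPGroup p R) (hX : X.IsSaturated p) {E : FusionSystem U}
    (hE : E.IsInvariantIn X) {P : Subgroup Ω} (hP : X.IsCentric P) (hr : X.IsRadical p P) :
    E.IsCentric (P ⊓ U) := by
  by_contra h
  obtain ⟨f, hf, x, hx, hxR, hxP, hop⟩ := exists_radical_witness hR hX hE hP h
  exact not_radical_of_witness hP hf hx hxR hxP hop hr

/-- Extension when the part inside `U` is fully normalized. -/
theorem exists_coprime_extension_full (hR : IsPGroup p R) (hX : X.IsSaturated p)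
    (hU : X.hyperfocalSubgroup p ≤ U) (hn : ∀ r ∈ R, ∀ u ∈ U, r * u * r⁻¹ ∈ U) {P : Subgroup Ω}
    (hP : P ≤ R) (hQn : X.IsFullyNormalized (P ⊓ U)) (hC : centralizerIn U (P ⊓ U) ≤ P ⊓ U)
    {a : MulAut P} (hcop : (orderOf a).Coprime p) (hsh : ∀ x ∈ P, x⁻¹ * autFun a x ∈ U)
    (ha : IsMap X (P ⊓ U) (autFun a)) :
    ∃ b ∈ X.autGroup P, (orderOf b).Coprime p ∧ (∀ x ∈ P ⊓ U, autFun b x = autFun a x) ∧
      ∀ x ∈ P, x⁻¹ * autFun b x ∈ U := by
  set Q := P ⊓ U with hQ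
  have hQP : Q ≤ P := inf_le_left
  have hQR := hQP.trans hP
  haveI := finite_of_le hP
  haveI := finite_of_le hQR
  have haQ : ∀ x ∈ Q, autFun a x ∈ Q := fun x hx => by
    refine ⟨autFun_mem a hx.1, ?_⟩
    have := U.mul_mem hx.2 (hsh x hx.1)
    rwa [mul_inv_cancel_left] at this
  have hai : img Q (autFun a) = Q := img_eq_of_apply ha le_rfl haQ
  obtain ⟨g, hg, hge⟩ := receptive_extend (fullyNormalized_props hR hX hQn).2.2 ha hai
  have hQN : ∀ x ∈ P, ∀ q ∈ Q, x * q * x⁻¹ ∈ Q := fun x hx q hq =>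
    ⟨P.mul_mem (P.mul_mem hx hq.1) (P.inv_mem hx), hn x (hP hx) q hq.2⟩
  set C := centralizerIn R Q
  set B := P ⊔ C
  have hBe : B ≤ extSub R Q (autFun a) := sup_le (fun x hx => mem_extSub.mpr
    ⟨hP hx, mem_normalizer_of_maps_finite (hQN x hx), autFun a x, hP (autFun_mem a hx),
      fun q hq => autFun_conj a hx hq.1⟩) (centralizerIn_le_extSub Q _)
  have hBR : B ≤ R := sup_le hP inf_le_left
  haveI := finite_of_le hBR
  have hQB : Q ≤ B := hQP.trans le_sup_left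
  have hdiff : ∀ m : Ω → Ω, IsMap X B m → (∀ q ∈ Q, m q = autFun a q) →
      ∀ x ∈ P, (autFun a x)⁻¹ * m x ∈ C := by
    intro m hm he x hx
    refine Fusion.mem_centralizerIn.mpr
      ⟨R.mul_mem (R.inv_mem (hP (autFun_mem a hx))) (hm.mem_S (Subgroup.mem_sup_left hx)),
        fun z hz => ?_⟩
    obtain ⟨q, hq, rfl⟩ := ha.mem_img.mp (hai.ge hz)
    have h1 := hm.map_conj (Subgroup.mem_sup_left hx) (hQB hq)
    rw [he _ (hQN x hx q hq), he q hq, autFun_conj a hx hq.1] at h1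
    calc (autFun a x)⁻¹ * m x * autFun a q * ((autFun a x)⁻¹ * m x)⁻¹
        = (autFun a x)⁻¹ * (m x * autFun a q * (m x)⁻¹) * autFun a x := by group
      _ = autFun a q := by rw [← h1]; group
  have hgB := hg.mono hBe
  have hgQ : img Q g = Q := (img_congr hge).trans hai
  have hle : img B g ≤ B := by
    rw [hgB.img_sup]
    refine sup_le (IsMap.img_le_iff.mpr fun x hx => ?_) (IsMap.img_le_iff.mpr fun c hc =>
      Subgroup.mem_sup_right ?_)
    · have := B.mul_mem (Subgroup.mem_sup_left (autFun_mem a hx))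
        (Subgroup.mem_sup_right (hdiff g hgB hge x hx))
      rwa [mul_inv_cancel_left] at this
    · have := hgB.mem_centralizerIn (P := Q) hQB (Subgroup.mem_sup_right hc) hc
      rwa [hgQ] at this
  obtain ⟨μ, hμ, eμ⟩ := hgB.exists_aut (Subgroup.eq_of_le_of_card_ge hle hgB.card_img.ge)
  obtain ⟨β, -, eβ⟩ := ha.exists_aut hai
  have hβcop : (orderOf β).Coprime p := by
    refine Nat.Coprime.coprime_dvd_left (orderOf_dvd_of_pow_eq_one ?_) hcop
    refine eq_one_of_autFun fun x hx => ?_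
    rw [← autFun_pow_agree a β hQP (fun y hy => (eβ y hy).symm) _ x hx, pow_orderOf_eq_one,
      autFun_one (hQP hx)]
  obtain ⟨e, hecop, hee⟩ := NormCent.exists_coprime_agree hBR hQB (μ := μ) (α := β)
    (fun x hx => by rw [eμ x (hQB hx), hge x hx, eβ x hx]) hβcop
  have hm' := (isMap_autFun hBR).mpr (Subgroup.pow_mem _ hμ e)
  have heq : ∀ q ∈ Q, autFun (μ ^ e) q = autFun a q := fun q hq => (hee q hq).trans (eβ q hq)
  have hshift : ∀ x ∈ B, x⁻¹ * autFun (μ ^ e) x ∈ U := fun x hx =>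
    hU (coprime_shift hBR (Subgroup.pow_mem _ hμ e) hecop hx)
  have hst : ∀ x ∈ P, autFun (μ ^ e) x ∈ P := fun x hx => by
    have hc := hdiff _ hm' heq x hx
    have hcU : (autFun a x)⁻¹ * autFun (μ ^ e) x ∈ U := by
      have := U.mul_mem (U.inv_mem (hsh x hx)) (hshift x (Subgroup.mem_sup_left hx))
      rwa [show (x⁻¹ * autFun a x)⁻¹ * (x⁻¹ * autFun (μ ^ e) x) =
        (autFun a x)⁻¹ * autFun (μ ^ e) x by group] at this
    have hcQ := hC (Fusion.mem_centralizerIn.mpr ⟨hcU, (Fusion.mem_centralizerIn.mp hc).2⟩)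
    have := P.mul_mem (autFun_mem a hx) hcQ.1
    rwa [mul_inv_cancel_left] at this
  obtain ⟨b, hb, eb, hd⟩ := exists_restrict hBR (Subgroup.pow_mem _ hμ e) le_sup_left hst
  exact ⟨b, hb, hecop.coprime_dvd_left hd, fun x hx => (eb x (hQP hx)).trans (heq x hx),
    fun x hx => eb x hx ▸ hshift x (Subgroup.mem_sup_left hx)⟩

/-- Extension of an automorphism of order prime to `p`. -/
theorem exists_coprime_extension (hR : IsPGroup p R) (hX : X.IsSaturated p) (hUR : U ≤ R)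
    (hU : X.hyperfocalSubgroup p ≤ U) (hn : ∀ r ∈ R, ∀ u ∈ U, r * u * r⁻¹ ∈ U) {P : Subgroup Ω}
    (hP : P ≤ R) (hC : ∀ Q, X.IsConj (P ⊓ U) Q → centralizerIn U Q ≤ Q) {a : MulAut P}
    (hcop : (orderOf a).Coprime p) (hsh : ∀ x ∈ P, x⁻¹ * autFun a x ∈ U)
    (ha : IsMap X (P ⊓ U) (autFun a)) :
    ∃ b ∈ X.autGroup P, (orderOf b).Coprime p ∧ (∀ x ∈ P ⊓ U, autFun b x = autFun a x) ∧
      ∀ x ∈ P, x⁻¹ * autFun b x ∈ U := by
  have hsc := PPower.stronglyClosed_of_hyperfocal_le hR hX hUR hn hU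
  set Q := P ⊓ U with hQ
  have hQP : Q ≤ P := inf_le_left
  have hQR := hQP.trans hP
  haveI := finite_of_le hP
  haveI := finite_of_le hQR
  obtain ⟨Q₀, hQQ₀, hQ₀⟩ := exists_fullyNormalized (F := X) hQR
  obtain ⟨f₀, hf₀, hi₀⟩ := isConj_iff.mp hQQ₀
  obtain ⟨-, hfa, hrec⟩ := fullyNormalized_props hR hX hQ₀
  obtain ⟨-, -, h, hh, hhi, -, -⟩ := exists_map_normalizer hR hfa hrec hf₀ hi₀
  have hPN : P ≤ normalizerIn R Q := fun x hx => ⟨hP hx, mem_normalizer_of_maps_finite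
    fun q hq => ⟨P.mul_mem (P.mul_mem hx hq.1) (P.inv_mem hx), hn x (hP hx) q hq.2⟩⟩
  have hm : IsMap X P h := hh.mono hPN
  set P₀ := img P h
  have hiQ : P₀ ⊓ U = Q₀ := by rw [← img_inf_stronglyClosed hsc hm]; exact hhi
  set a₀ := MulAut.congr (hm.equiv rfl) a
  have ea : ∀ x ∈ P, autFun a₀ (h x) = h (autFun a x) := fun x hx => congr_equiv_spec hm rfl a hx
  have hcop₀ : (orderOf a₀).Coprime p :=
    (orderOf_injective (MulAut.congr (hm.equiv rfl)).toMonoidHom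
      (MulAut.congr (hm.equiv rfl)).injective a).symm ▸ hcop
  have hsh₀ : ∀ y ∈ P₀, y⁻¹ * autFun a₀ y ∈ U := fun y hy => by
    obtain ⟨x, hx, rfl⟩ := hm.mem_img.mp hy
    rw [ea x hx, ← hm.map_inv hx, ← hm.map_mul (P.inv_mem hx) (autFun_mem a hx)]
    exact stronglyClosed_apply hsc hm (P.mul_mem (P.inv_mem hx) (autFun_mem a hx)) (hsh x hx)
  have hai : img Q (autFun a) = Q := img_eq_of_apply ha le_rfl fun x hx => by
    refine ⟨autFun_mem a hx.1, ?_⟩
    have := U.mul_mem hx.2 (hsh x hx.1)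
    rwa [mul_inv_cancel_left] at this
  obtain ⟨β, hβ, eβ⟩ := ha.exists_aut hai
  have hmQ := hm.mono hQP
  have ha₀ : IsMap X (P₀ ⊓ U) (autFun a₀) := by
    rw [hiQ]
    refine ((isMap_autFun hQ₀.1).mpr (congr_mem_autGroup hmQ hhi hβ)).congr fun y hy => ?_
    obtain ⟨x, hx, rfl⟩ := hmQ.mem_img.mp (hhi.ge hy)
    rw [congr_equiv_spec hmQ hhi β hx, ea x (hQP hx), eβ x hx]
  obtain ⟨b₀, hb₀, hb₀cop, eb₀, hb₀sh⟩ := exists_coprime_extension_full hR hX hU hn hm.img_le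
    (hiQ.symm ▸ hQ₀) (hiQ.symm ▸ hC Q₀ hQQ₀) hcop₀ hsh₀ ha₀
  obtain ⟨k, hk, hki, hkl, -⟩ := hm.exists_inv
  have eb : ∀ x ∈ P, autFun (MulAut.congr (hk.equiv hki) b₀) x = k (autFun b₀ (h x)) :=
    fun x hx => by
      rw [← congr_equiv_spec hk hki b₀ (IsMap.apply_mem_img (f := h) hx), hkl x hx]
  refine ⟨_, congr_mem_autGroup hk hki hb₀, ?_, fun x hx => ?_, fun x hx => ?_⟩
  · exact (orderOf_injective (MulAut.congr (hk.equiv hki)).toMonoidHom
      (MulAut.congr (hk.equiv hki)).injective b₀).symm ▸ hb₀cop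
  · rw [eb x hx.1, eb₀ _ ⟨IsMap.apply_mem_img hx.1, (hiQ.trans hhi.symm ▸
      (inf_le_right : P₀ ⊓ U ≤ U)) (IsMap.apply_mem_img hx)⟩, ea x hx.1,
      hkl _ (autFun_mem a hx.1)]
  · have hy : h x ∈ P₀ := IsMap.apply_mem_img hx
    have := stronglyClosed_apply hsc hk (P₀.mul_mem (P₀.inv_mem hy) (autFun_mem b₀ hy))
      (hb₀sh _ hy)
    rw [hk.map_mul (P₀.inv_mem hy) (autFun_mem b₀ hy), hk.map_inv hy, hkl x hx, ← eb x hx] at this
    exact this

end Cfsg.Lib.Fusion.Product
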