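import Cfsg.Agent.Fusion.Product.System
import Cfsg.Agent.Fusion.Product.Extend
import Cfsg.Agent.Fusion.PPowerDegree.System

/-!
The product with a subgroup above the normal subsystem: existence and uniqueness.
-/

set_option autoImplicit false
set_option linter.unusedSectionVars false
set_option linter.style.haveILetI false

namespace Cfsg.Lib.Fusion.Product

open Cfsg Cfsg.FusionSystem Cfsg.Lib.Fusion

universe u

variable {Ω : Type u} [Group Ω]

section General

variable {R U : Subgroup Ω} {X : FusionSystem R} {p : ℕ} [Finite R] [Fact p.Prime]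

/-- The whole group is radical. -/
theorem radical_top (hR : IsPGroup p R) (hX : X.IsSaturated p) :
    X.IsFullyNormalized R ∧ X.IsCentric R ∧ X.IsRadical p R := by
  have hconj : ∀ Q, X.IsConj R Q → Q = R := fun Q hQ => by
    obtain ⟨f, hf, rfl⟩ := isConj_iff.mp hQ
    exact Subgroup.eq_of_le_of_card_ge hf.img_le hf.card_img.ge
  have hn : X.IsFullyNormalized R := ⟨le_rfl, fun Q hQ => by rw [hconj Q hQ]⟩
  refine ⟨hn, ⟨le_rfl, fun Q hQ => hconj Q hQ ▸ inf_le_left⟩, le_rfl, ?_⟩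
  refine le_antisymm ?_ (Criterion.inn_le_opAut hR le_rfl)
  obtain ⟨-, P, hP⟩ := (fullyNormalized_props hR hX hn).2.1
  have hind : autInducedBy R R ≤ Inn R := fun α hα => by
    obtain ⟨t, ht, e⟩ := mem_autInducedBy.mp hα
    exact ⟨⟨t, ht⟩, MulEquiv.ext fun x => Subtype.ext (e x).symm⟩
  have hI : IsPGroup p ((Criterion.opAut X p R).subgroupOf (X.autGroup R)) :=
    (Criterion.isPGroup_opAut le_rfl).comap_of_injective _ (Subgroup.subtype_injective _)
  have hle : (P : Subgroup (X.autGroup R)) ≤ (Criterion.opAut X p R).subgroupOf (X.autGroup R) :=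
    hP.le.trans (Subgroup.comap_mono (hind.trans (Criterion.inn_le_opAut hR le_rfl)))
  have heq := P.3 hI hle
  intro α hα
  have hα' : α ∈ X.autGroup R := Criterion.opAut_le R hα
  have h : (⟨α, hα'⟩ : X.autGroup R) ∈ (autInducedBy R R).subgroupOf (X.autGroup R) := by
    rw [← hP, ← heq]
    exact hα
  exact hind h

/-- A system is determined by its automorphisms of order prime to `p` at the sites. -/
theorem le_of_sites (hR : IsPGroup p R) (hX : X.IsSaturated p) {Y : FusionSystem R}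
    (h : ∀ P, X.IsFullyNormalized P → X.IsCentric P → X.IsRadical p P →
      ∀ a ∈ X.autGroup P, (orderOf a).Coprime p → a ∈ Y.autGroup P) : X.IsSubsystemOf Y := by
  have key : ∀ P, X.IsFullyNormalized P → X.IsCentric P → X.IsRadical p P →
      X.autGroup P ≤ Y.autGroup P := fun P hn hc hr =>
    PPower.autGroup_le_of hR le_rfl hX hn (autInducedBy_le hn.1) (h P hn hc hr)
  intro P φ hφ
  refine IsMap.mem_toFun' (alperin_radical hR hX (isMapClass_isMap X Y) (fun f hf => ?_)
    (fun Q _ hn hc hr _ α hα => (isMap_autFun hn.1).mpr (key Q hn hc hr hα)) (isMap_of_mem hφ))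
  obtain ⟨α, hα, e⟩ := hf.exists_aut (Subgroup.eq_of_le_of_card_ge hf.img_le hf.card_img.ge)
  obtain ⟨hn, hc, hr⟩ := radical_top hR hX
  exact ((isMap_autFun le_rfl).mpr (key R hn hc hr hα)).congr fun x hx => (e x hx).symm

/-- Restriction to the part inside a subsystem of `p`-power index. -/
theorem restrict_coprime_sub {E : FusionSystem U} (hidx : E.HasPPowerIndexIn X p) {P : Subgroup Ω}
    (hP : P ≤ R) {a : MulAut P} (ha : a ∈ X.autGroup P) (hcop : (orderOf a).Coprime p) :
    IsMap E (P ⊓ U) (autFun a) := by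
  obtain ⟨β, hβ, e, hd⟩ := exists_restrict hP ha (inf_le_left : P ⊓ U ≤ P) fun x hx => by
    refine ⟨autFun_mem a hx.1, ?_⟩
    have := U.mul_mem hx.2 (hidx.2.1 (coprime_shift hP ha hcop hx.1))
    rwa [mul_inv_cancel_left] at this
  exact ((isMap_autFun inf_le_right).mpr (PPower.coprime_mem_autGroup hidx inf_le_right hβ
    (hcop.coprime_dvd_left hd))).congr fun x hx => (e x hx).symm

/-- Two agreeing automorphisms shifting inside `U` differ by an element of the chain group. -/
theorem mem_chain {V : Subgroup Ω} [Finite V] (hn : ∀ r ∈ V, ∀ u ∈ U, r * u * r⁻¹ ∈ U)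
    {a b : MulAut V} (ha : a ∈ X.autGroup V) (hb : b ∈ X.autGroup V)
    (e : ∀ x ∈ V ⊓ U, autFun b x = autFun a x) (hsa : ∀ x ∈ V, x⁻¹ * autFun a x ∈ U)
    (hsb : ∀ x ∈ V, x⁻¹ * autFun b x ∈ U) :
    a⁻¹ * b ∈ Small.chainAut X V (V ⊓ U) inf_le_left := by
  refine ⟨Subgroup.mul_mem _ (Subgroup.inv_mem _ ha) hb, fun x hx => ?_, fun r hr => ?_⟩
  · rw [autFun_mul _ _ hx.1, e x hx, autFun_inv_apply' a hx.1]
  · set y := autFun (a⁻¹ * b) r
    have hy : y ∈ V := autFun_mem _ hr
    refine ⟨V.mul_mem hy (V.inv_mem hr), ?_⟩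
    have h1 : autFun a y = autFun b r := by
      show autFun a (autFun (a⁻¹ * b) r) = _
      rw [autFun_mul _ _ hr, autFun_inv_apply a (autFun_mem b hr)]
    have h2 := hsa y hy
    rw [h1] at h2
    have h3 := hn r hr _ (U.mul_mem (hsb r hr) (U.inv_mem h2))
    rwa [show r * (r⁻¹ * autFun b r * (y⁻¹ * autFun b r)⁻¹) * r⁻¹ = y * r⁻¹ by group] at h3

/-- The part of the chain group in the system lies in the largest normal `p`-subgroup. -/
theorem chain_inf_le_opAut {S : Subgroup Ω} [Finite S] {F : FusionSystem S} (hS : IsPGroup p S)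
    (hsc : X.StronglyClosed U) {V : Subgroup Ω} [Finite V] (hV : V ≤ R) (hVS : V ≤ S)
    (hle : X.autGroup V ≤ F.autGroup V) :
    Small.chainAut F V (V ⊓ U) inf_le_left ⊓ X.autGroup V ≤ Criterion.opAut X p V := by
  refine Criterion.le_opAut inf_le_right
    ((Small.isPGroup_chainAut hS inf_le_left hVS).to_le inf_le_left) fun α hα β hβ =>
      ⟨?_, Subgroup.mul_mem _ (Subgroup.mul_mem _ hα hβ.2) (Subgroup.inv_mem _ hα)⟩
  have hst : ∀ γ ∈ X.autGroup V, ∀ z ∈ V ⊓ U, autFun γ z ∈ V ⊓ U := fun γ hγ z hz =>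
    ⟨autFun_mem γ hz.1, stronglyClosed_apply hsc ((isMap_autFun hV).mpr hγ) hz.1 hz.2⟩
  exact Small.conj_chainAut inf_le_left hVS
    ⟨hle hα, hst α hα, hst α hα⟩ hβ.1

theorem mem_normalizer_inn {V : Subgroup Ω} (g : MulAut V) :
    g ∈ Subgroup.normalizer (Inn V : Set (MulAut V)) := by
  rw [Subgroup.mem_normalizer_iff]
  refine fun β => ⟨fun h => conj_mem_inn h g, fun h => ?_⟩
  have := conj_mem_inn h g⁻¹
  rwa [show g⁻¹ * (g * β * g⁻¹) * g⁻¹⁻¹ = β by group] at this

end General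

variable {S T : Subgroup Ω} {F : FusionSystem S} {E : FusionSystem T} {p : ℕ} [Finite S]
  [Fact p.Prime]

set_option maxHeartbeats 800000 in
/-- A subsystem on the same subgroup with the same residual is the normal subsystem. -/
theorem eq_of_common (hD : Setup F E p) {E' : FusionSystem T} (hE' : E'.IsSaturated p)
    (hE'F : E'.IsSubsystemOf F) {U : Subgroup Ω} (hU : E.hyperfocalSubgroup p = U)
    (hU' : E'.hyperfocalSubgroup p = U) {E₁ : FusionSystem U} (hE₁ : E₁.IsSaturated p)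
    (h1 : E₁.HasPPowerIndexIn E p) (h2 : E₁.HasPPowerIndexIn E' p) : E' = E := by
  haveI := finite_of_le hD.le
  have hT := hD.grpT
  have hUT : U ≤ T := hU ▸ hyperfocalSubgroup_le E p
  have hn : ∀ t ∈ T, ∀ u ∈ U, t * u * t⁻¹ ∈ U := fun t ht u hu => by
    rw [← hU] at hu ⊢
    exact conj_mem_hyperfocalSubgroup ht hu
  have hi1 := (PPower.normal_of_index hT hD.satE hUT hn hE₁ h1).1.2.2
  have hi2 := (PPower.normal_of_index hT hE' hUT hn hE₁ h2).1.2.2
  have hle : E.IsSubsystemOf E' := le_of_sites hT hD.satE fun V hVn hVc hVr a ha hcop => by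
    have hVT := hVn.1
    have hVS := hVT.trans hD.le
    haveI := finite_of_le hVT
    have hc := meet_centric hT hD.satE hi1 hVc hVr
    have hsh : ∀ x ∈ V, x⁻¹ * autFun a x ∈ U := fun x hx => hU ▸ coprime_shift hVT ha hcop hx
    obtain ⟨b, hb, hbcop, eb, hbsh⟩ := exists_coprime_extension hT hE' hUT hU'.le hn hVT
      (fun Q hQ => by
        obtain ⟨f, hf, rfl⟩ := isConj_iff.mp hQ
        have hc' := CharSub.centricT_img hi2 hc hf
        exact hc'.2 _ (isConj_refl hc'.1)) hcop hsh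
      (CharSub.isMap_of_sub h2.1 (restrict_coprime_sub h1 hVT ha hcop))
    have haF := PPower.autGroup_le_of_sub hD.inv.1 hVT hD.le ha
    have hbF := PPower.autGroup_le_of_sub hE'F hVT hD.le hb
    have hk := mem_chain (X := F) (fun r hr => hn r (hVT hr)) haF hbF eb hsh hbsh
    set k := a⁻¹ * b
    have hop : Small.chainAut F V (V ⊓ U) inf_le_left ⊓ E.autGroup V ≤ Inn V := by
      rw [← hVr.2]
      exact chain_inf_le_opAut hD.grp hi1.2.1 hVT hVS
        (PPower.autGroup_le_of_sub hD.inv.1 hVT hD.le)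
    have hc1 : a * k * a⁻¹ * k⁻¹ ∈ Inn V := by
      refine hop ⟨Subgroup.mul_mem _ (Small.conj_chainAut inf_le_left hVS ⟨haF, fun z hz => ?_,
        fun z hz => ?_⟩ hk) (Subgroup.inv_mem _ hk), ?_⟩
      · exact ⟨autFun_mem a hz.1,
          stronglyClosed_apply hi1.2.1 ((isMap_autFun hVT).mpr ha) hz.1 hz.2⟩
      · exact ⟨autFun_mem _ hz.1,
          stronglyClosed_apply hi1.2.1 ((isMap_autFun hVT).mpr ha) hz.1 hz.2⟩
      · show a * k * a⁻¹ * k⁻¹ ∈ E.autGroup V
        rw [show a * k * a⁻¹ * k⁻¹ = a * (k * a⁻¹ * k⁻¹) by group]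
        exact Subgroup.mul_mem _ ha
          (PPower.conj_mem_autGroup hD.inv hVT hk.1 (Subgroup.inv_mem _ ha))
    obtain ⟨i, hi⟩ := Small.isPGroup_chainAut hD.grp inf_le_left hVS ⟨k, hk⟩
    have hkI : k ∈ Inn V := mem_of_comm_coprime (p := p) (a := a) (k := k)
      (n := orderOf a * orderOf b) (i := i) (Nat.Coprime.mul_left hcop hbcop)
      (mem_normalizer_inn a) (mem_normalizer_inn k) hc1
      (by rw [pow_mul, pow_orderOf_eq_one, one_pow]; exact Subgroup.one_mem _)
      (by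
        rw [show a * k = b by simp [k], mul_comm, pow_mul, pow_orderOf_eq_one, one_pow]
        exact Subgroup.one_mem _)
      (by simpa using congrArg Subtype.val hi)
    rw [show a = b * k⁻¹ by simp [k]]
    exact Subgroup.mul_mem _ hb (inn_le_autGroup hVT (Subgroup.inv_mem _ hkI))
  have hge : E'.IsSubsystemOf E := le_of_sites hT hE' fun V hVn hVc hVr a ha hcop => by
    have hVT := hVn.1
    haveI := finite_of_le hVT
    have hc := meet_centric hT hE' hi2 hVc hVr
    have hsh : ∀ x ∈ V, x⁻¹ * autFun a x ∈ U := fun x hx => hU' ▸ coprime_shift hVT ha hcop hx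
    obtain ⟨b, hb, -, eb, hbsh⟩ := exists_coprime_extension hT hD.satE hUT hU.le hn hVT
      (fun Q hQ => by
        obtain ⟨f, hf, rfl⟩ := isConj_iff.mp hQ
        have hc' := CharSub.centricT_img hi1 hc hf
        exact hc'.2 _ (isConj_refl hc'.1)) hcop hsh
      (CharSub.isMap_of_sub h1.1 (restrict_coprime_sub h2 hVT ha hcop))
    have hb' := PPower.autGroup_le_of_sub hle hVT le_rfl hb
    have hk := mem_chain (X := E') (fun r hr => hn r (hVT hr)) ha hb' eb hsh hbsh
    have hkI : a⁻¹ * b ∈ Inn V := by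
      rw [← hVr.2]
      exact chain_inf_le_opAut hT hi2.2.1 hVT hVT le_rfl ⟨hk, hk.1⟩
    rw [show a = b * (a⁻¹ * b)⁻¹ by group]
    exact Subgroup.mul_mem _ hb (inn_le_autGroup hVT (Subgroup.inv_mem _ hkI))
  exact fusionSystem_ext fun P => Set.Subset.antisymm (hge P) (hle P)

/-- A normal subsystem with `p`-power index in `X` gives generators at the sites of `X`. -/
theorem prim_of_site {R : Subgroup Ω} (hRS : R ≤ S)
    {X : FusionSystem R} (hX : X.IsSaturated p) (hXF : X.IsSubsystemOf F) (hD : Setup F E p)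
    (hidx : E.HasPPowerIndexIn X p) (hinv : E.IsInvariantIn X) {P : Subgroup Ω}
    (hc : X.IsCentric P) (hr : X.IsRadical p P) {a : MulAut P} (ha : a ∈ X.autGroup P)
    (hcop : (orderOf a).Coprime p) : IsPrim F E p P a := by
  haveI := finite_of_le hRS
  have hRp : IsPGroup p R := hD.grp.of_injective _ (Subgroup.inclusion_injective hRS)
  exact ⟨hc.1.trans hRS, PPower.autGroup_le_of_sub hXF hc.1 hRS ha, hcop,
    fun x hx => hidx.2.1 (coprime_shift hc.1 ha hcop hx), meet_centric hRp hX hinv hc hr,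
    restrict_coprime_sub hidx hc.1 ha hcop⟩

/-- A residual equality read over any common name of the hyperfocal subgroup. -/
theorem residual_transfer {R : Subgroup Ω} {D' : FusionSystem R}
    (hres : ∀ (D₁ : FusionSystem (D'.hyperfocalSubgroup p))
      (E₁ : FusionSystem (E.hyperfocalSubgroup p)),
      D'.IsPResidual p D₁ → E.IsPResidual p E₁ → ∀ P : Subgroup Ω, D₁.Hom P = E₁.Hom P)
    {U : Subgroup Ω} (hU : U = E.hyperfocalSubgroup p) (hU' : U = D'.hyperfocalSubgroup p)
    {D₁ E₁ : FusionSystem U} (hD₁ : D₁.IsSaturated p) (hd : D₁.HasPPowerIndexIn D' p)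
    (hE₁ : E₁.IsSaturated p) (he : E₁.HasPPowerIndexIn E p) : D₁ = E₁ := by
  have key : ∀ (V W : Subgroup Ω) (D₁ : FusionSystem V) (E₁ : FusionSystem W),
      V = D'.hyperfocalSubgroup p → W = E.hyperfocalSubgroup p →
      D₁.IsSaturated p → D₁.HasPPowerIndexIn D' p →
      E₁.IsSaturated p → E₁.HasPPowerIndexIn E p → ∀ P, D₁.Hom P = E₁.Hom P := by
    rintro V W D₁ E₁ rfl rfl a b c d
    exact hres D₁ E₁ ⟨a, b⟩ ⟨c, d⟩
  exact fusionSystem_ext (key U U D₁ E₁ hU' hU hD₁ hd hE₁ he)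

set_option maxHeartbeats 800000 in
/-- Existence and uniqueness of the product. -/
theorem product_exists_unique (hD : Setup F E p) {R : Subgroup Ω} (hTR : T ≤ R) (hRS : R ≤ S) :
    ∃ D : FusionSystem R, (D.IsSaturated p ∧ D.IsSubsystemOf F ∧
      D.hyperfocalSubgroup p = E.hyperfocalSubgroup p ∧
      ∀ (D₁ : FusionSystem (D.hyperfocalSubgroup p)) (E₁ : FusionSystem (E.hyperfocalSubgroup p)),
        D.IsPResidual p D₁ → E.IsPResidual p E₁ → ∀ P : Subgroup Ω, D₁.Hom P = E₁.Hom P) ∧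
      ∀ D' : FusionSystem R, D'.IsSaturated p → D'.IsSubsystemOf F →
        D'.hyperfocalSubgroup p = E.hyperfocalSubgroup p →
        (∀ (D₁ : FusionSystem (D'.hyperfocalSubgroup p))
          (E₁ : FusionSystem (E.hyperfocalSubgroup p)),
          D'.IsPResidual p D₁ → E.IsPResidual p E₁ → ∀ P : Subgroup Ω, D₁.Hom P = E₁.Hom P) →
        ∀ P : Subgroup Ω, D'.Hom P = D.Hom P := by
  haveI := finite_of_le hRS
  haveI := finite_of_le hD.le
  have hPS := saturated_prodSys hD
  have hPi := index_prodSys hD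
  have hPh := hyperfocal_prodSys_le hD
  have hRp : IsPGroup p R := hD.grp.of_injective _ (Subgroup.inclusion_injective hRS)
  obtain ⟨D, hDs, hDi⟩ := PDeg.exists_system _ rfl hD.grp hPS hRS (hPh.trans hTR)
  have hEh := PPower.hyperfocal_eq hD.grp hD.le hPi
  have hDh := PPower.hyperfocal_eq hD.grp hRS hDi
  have hhyp : D.hyperfocalSubgroup p = E.hyperfocalSubgroup p := hDh.trans hEh.symm
  have hDF : D.IsSubsystemOf F := fun P φ h => prodSys_sub hD P (hDi.1 P h)
  refine ⟨D, ⟨hDs, hDF, hhyp, fun D₁ E₁ hD₁ hE₁ => ?_⟩, fun D' hD's hD'F hD'h hres => ?_⟩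
  · have key : ∀ (U : Subgroup Ω) (D₁ : FusionSystem U), U = E.hyperfocalSubgroup p →
        D₁.IsSaturated p → D₁.HasPPowerIndexIn (prodSys hD) p → ∀ P, D₁.Hom P = E₁.Hom P := by
      rintro U D₁ rfl h h' P
      rw [PPower.unique hD.grp ((hyperfocalSubgroup_le E p).trans hD.le) h h' hE₁.1
        (PPower.index_trans hPi (hyperfocalSubgroup_le E p) hE₁.2 hEh.ge)]
    exact key _ D₁ hhyp hD₁.1
      (PPower.index_trans hDi (hyperfocalSubgroup_le D p) hD₁.2 hDh.ge)
  -- the subsystem has `p`-power index in both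
  have hnR : ∀ r ∈ R, ∀ x ∈ T, r * x * r⁻¹ ∈ T := fun r hr x hx => hD.conjT (hRS hr) hx
  have hDT : D.hyperfocalSubgroup p ≤ T := hhyp.trans_le (hyperfocalSubgroup_le E p)
  have hD'T : D'.hyperfocalSubgroup p ≤ T := hD'h.trans_le (hyperfocalSubgroup_le E p)
  obtain ⟨E₂, hE₂, hE₂i⟩ := PDeg.exists_system _ rfl hRp hDs hTR hDT
  obtain rfl : E₂ = E := PPower.unique hD.grp hD.le hE₂
    (PPower.index_trans hDi hTR hE₂i hPh) hD.satE hPi
  obtain ⟨E', hE', hE'i⟩ := PDeg.exists_system _ rfl hRp hD's hTR hD'T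
  have hE'h : E'.hyperfocalSubgroup p = E₂.hyperfocalSubgroup p :=
    (PPower.hyperfocal_eq hRp hTR hE'i).trans hD'h
  have hUT := hyperfocalSubgroup_le E₂ p
  obtain ⟨E₁, hE₁, hE₁i⟩ := PDeg.exists_system _ rfl hD.grpT hD.satE hUT le_rfl
  obtain ⟨E₁', hE₁', hE₁'i⟩ := PDeg.exists_system _ rfl hD.grpT hE' hUT hE'h.le
  obtain rfl : E₁' = E₁ := residual_transfer hres rfl hD'h.symm hE₁'
    (PPower.index_trans hE'i hUT hE₁'i hD'h.le) hE₁ hE₁i
  obtain rfl : E' = E₂ := eq_of_common hD hE' (fun P φ h => hD'F P (hE'i.1 P h)) rfl hE'h hE₁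
    hE₁i hE₁'i
  have hinv := (PPower.normal_of_index hRp hDs hTR hnR hE' hE₂i).1.2.2
  have hinv' := (PPower.normal_of_index hRp hD's hTR hnR hE' hE'i).1.2.2
  have hle : D'.IsSubsystemOf D := le_of_sites hRp hD's fun P _ hc hr a ha hcop => by
    have hprim := prim_of_site hRS hD's hD'F hD hE'i hinv' hc hr ha hcop
    exact PPower.coprime_mem_autGroup hDi hc.1
      ((isMap_autFun hprim.le).mp ((isMap_prodSys hD).mpr ⟨1, Gen.prim P a hprim⟩)) hcop
  have hge : D.IsSubsystemOf D' := le_of_sites hRp hDs fun P _ hc hr a ha hcop => by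
    have hprim := prim_of_site hRS hDs hDF hD hE₂i hinv hc hr ha hcop
    obtain ⟨b, hb, hbcop, eb, hbsh⟩ := exists_coprime_extension hRp hD's hTR hD'T hnR hc.1
      (fun Q hQ => by
        obtain ⟨f, hf, rfl⟩ := isConj_iff.mp hQ
        have hc' := CharSub.centricT_img hinv' hprim.centric hf
        exact hc'.2 _ (isConj_refl hc'.1)) hcop hprim.shift
      (CharSub.isMap_of_sub hE'i.1 hprim.sub)
    have hprimb : IsPrim F E' p P b := ⟨hprim.le, PPower.autGroup_le_of_sub hD'F hc.1 hRS hb,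
      hbcop, hbsh, hprim.centric, hprim.sub.congr eb⟩
    obtain ⟨z, hz, -, ez⟩ := prim_unique hD hprimb hprim fun q hq => (eb q hq).symm
    have hconj := isMap_conj (F := D') hc.1 (hc.1 hz.1)
    refine (isMap_autFun hc.1).mp ((hconj.comp ((isMap_autFun hc.1).mpr hb) fun x hx =>
      P.mul_mem (P.mul_mem hz.1 hx) (P.inv_mem hz.1)).congr fun x hx => ez x hx)
  exact fun P => Set.Subset.antisymm (hle P) (hge P)

end Cfsg.Lib.Fusion.Product
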