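import Cfsg.Agent.Fusion.SmallCent.Group
import Cfsg.Agent.Fusion.PPowerTheory
import Cfsg.Agent.Fusion.Rigidity

/-!
The product of a normal subsystem with the whole `p`-group: generators, labels, orbits.

A map is generated by conjugations from `S` and by automorphisms of order prime to `p` shifting
inside `T` whose restriction to a centric subgroup of `T` lies in the normal subsystem.  Every
generated map carries a label in `S`, well defined modulo `T`.
-/

set_option autoImplicit false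
set_option linter.unusedSectionVars false
set_option linter.style.haveILetI false

namespace Cfsg.Lib.Fusion.Product

open Cfsg Cfsg.FusionSystem Cfsg.Lib.Fusion

universe u

variable {Ω : Type u} [Group Ω] {S T : Subgroup Ω} {F : FusionSystem S} {E : FusionSystem T}
  {p : ℕ}

/-! ### Group theory -/

theorem mem_of_comm_coprime {G : Type*} [Group G] {I : Subgroup G} {a k : G} {n i : ℕ}
    (hn : n.Coprime p) (ha : a ∈ Subgroup.normalizer (I : Set G))
    (hk : k ∈ Subgroup.normalizer (I : Set G)) (hc : a * k * a⁻¹ * k⁻¹ ∈ I) (han : a ^ n ∈ I)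
    (hakn : (a * k) ^ n ∈ I) (hki : k ^ p ^ i = 1) : k ∈ I := by
  set N := Subgroup.normalizer (I : Set G) with hN
  haveI : (I.subgroupOf N).Normal := Subgroup.normal_in_normalizer
  let π := QuotientGroup.mk' (I.subgroupOf N)
  have hπ : ∀ {x : G} (hx : x ∈ N), x ∈ I ↔ π ⟨x, hx⟩ = 1 := fun {x} hx => by
    rw [QuotientGroup.mk'_apply, QuotientGroup.eq_one_iff, Subgroup.mem_subgroupOf]
  set A := π ⟨a, ha⟩
  set K := π ⟨k, hk⟩
  have h1 : A * K * A⁻¹ * K⁻¹ = 1 := by
    simp only [A, K, ← map_mul, ← map_inv]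
    exact (hπ _).mp hc
  have hcomm : Commute A K := by
    rw [mul_inv_eq_one, mul_inv_eq_iff_eq_mul] at h1
    exact h1
  have h2 : A ^ n = 1 := by
    simp only [A, ← map_pow]
    exact (hπ _).mp han
  have h3 : (A * K) ^ n = 1 := by
    simp only [A, K, ← map_mul, ← map_pow]
    exact (hπ _).mp hakn
  rw [hcomm.mul_pow, h2, one_mul] at h3
  have h4 : K ^ p ^ i = 1 := by
    have e : (⟨k, hk⟩ : N) ^ p ^ i = 1 := Subtype.ext (by simpa using hki)
    simp only [K, ← map_pow, e, map_one]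
  have h5 : K ^ Nat.gcd n (p ^ i) = 1 := pow_gcd_eq_one.mpr ⟨h3, h4⟩
  rw [Nat.Coprime.gcd_eq_one (hn.pow_right i), pow_one] at h5
  exact (hπ hk).mpr h5

/-! ### Hypotheses -/

/-- A normal subsystem. -/
structure Setup (F : FusionSystem S) (E : FusionSystem T) (p : ℕ) : Prop where
  grp : IsPGroup p S
  nor : E.IsNormalIn F p

theorem Setup.sat (hD : Setup F E p) : F.IsSaturated p := hD.nor.1.2.1

theorem Setup.satE (hD : Setup F E p) : E.IsSaturated p := hD.nor.1.1

theorem Setup.inv (hD : Setup F E p) : E.IsInvariantIn F := hD.nor.1.2.2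

theorem Setup.sc (hD : Setup F E p) : F.StronglyClosed T := hD.inv.2.1

theorem Setup.le (hD : Setup F E p) : T ≤ S := hD.sc.1

variable [Finite S]

theorem Setup.grpT (hD : Setup F E p) : IsPGroup p T :=
  hD.grp.of_injective _ (Subgroup.inclusion_injective hD.le)

theorem Setup.normalizes (hD : Setup F E p) {s : Ω} (hs : s ∈ S) :
    s ∈ Subgroup.normalizer (T : Set Ω) := normalizes_of_stronglyClosed hD.sc hs

theorem Setup.conjT (hD : Setup F E p) {s x : Ω} (hs : s ∈ S) (hx : x ∈ T) : s * x * s⁻¹ ∈ T :=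
  conj_mem_of_mem_normalizer (hD.normalizes hs) hx

theorem Setup.conjT' (hD : Setup F E p) {s x : Ω} (hs : s ∈ S) (hx : x ∈ T) : s⁻¹ * x * s ∈ T := by
  simpa using hD.conjT (S.inv_mem hs) hx

/-- Congruence modulo `T` may be read on either side. -/
theorem Setup.flip (hD : Setup F E p) {s t : Ω} (hs : s ∈ S) (h : s⁻¹ * t ∈ T) : t * s⁻¹ ∈ T := by
  have := hD.conjT hs h
  rwa [show s * (s⁻¹ * t) * s⁻¹ = t * s⁻¹ by group] at this

theorem Setup.flip' (hD : Setup F E p) {s t : Ω} (hs : s ∈ S) (h : t * s⁻¹ ∈ T) : s⁻¹ * t ∈ T := by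
  have := hD.conjT' hs h
  rwa [show s⁻¹ * (t * s⁻¹) * s = s⁻¹ * t by group] at this

omit [Finite S] in
/-- Conjugation by an element as a function. -/
abbrev scF (s : Ω) : Ω → Ω := fun x => s * x * s⁻¹

omit [Finite S] in
theorem mem_img_scF {U : Subgroup Ω} {s y : Ω} :
    y ∈ img U (scF s) ↔ s⁻¹ * y * s ∈ U := by
  rw [img_conj, Subgroup.mem_map_equiv, MulAut.conj_symm_apply]

omit [Finite S] in
theorem img_scF_scF (U : Subgroup Ω) (a b : Ω) :
    img (img U (scF a)) (scF b) = img U (scF (b * a)) := by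
  ext y
  rw [mem_img_scF, mem_img_scF, mem_img_scF]
  simp [mul_assoc]

omit [Finite S] in
theorem img_scF_one (U : Subgroup Ω) : img U (scF (1 : Ω)) = U := by
  ext y
  rw [mem_img_scF]
  simp

omit [Finite S] in
theorem card_img_scF (U : Subgroup Ω) (s : Ω) : Nat.card (img U (scF s)) = Nat.card U := by
  rw [img_conj]
  exact Subgroup.card_map_of_injective (MulAut.conj s).injective

theorem Setup.img_le_T (hD : Setup F E p) {U : Subgroup Ω} (hU : U ≤ T) {s : Ω} (hs : s ∈ S) :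
    img U (scF s) ≤ T := IsMap.img_le_iff.mpr fun _ hx => hD.conjT hs (hU hx)

/-- Conjugation by `S` carries maps of the subsystem to maps of the subsystem. -/
theorem Setup.conjE (hD : Setup F E p) {P : Subgroup Ω} {f : Ω → Ω} (hf : IsMap E P f) {s : Ω}
    (hs : s ∈ S) :
    IsMap E (img P (scF s)) (fun y => s * f (s⁻¹ * y * s) * s⁻¹) := by
  have hn := hD.normalizes hs
  have hα : conjAut T s hn ∈ F.autGroup T :=
    autInducedBy_le hD.le (conjAut_mem_autInducedBy hn hs)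
  have e : ∀ x ∈ T, autFun (conjAut T s hn) x = s * x * s⁻¹ := fun x hx => by
    rw [autFun_apply_mem _ hx, conjAut_apply]
  have h := CharSub.transT hD.inv hf hα
  rw [img_congr (f' := scF s) (fun x hx => e x (hf.le hx))] at h
  refine h.congr fun y hy => ?_
  have hy1 : s⁻¹ * y * s ∈ P := mem_img_scF.mp hy
  have e' : autFun (conjAut T s hn)⁻¹ y = s⁻¹ * y * s := by
    have hyT : s⁻¹ * y * s ∈ T := hf.le hy1
    have h1 := autFun_inv_apply' (conjAut T s hn) hyT
    rwa [e _ hyT, show s * (s⁻¹ * y * s) * s⁻¹ = y by group] at h1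
  rw [e', e _ (hf.mem_S hy1)]

theorem Setup.isConjE (hD : Setup F E p) {U V : Subgroup Ω} (h : E.IsConj U V) {s : Ω}
    (hs : s ∈ S) : E.IsConj (img U (scF s)) (img V (scF s)) := by
  obtain ⟨f, hf, rfl⟩ := isConj_iff.mp h
  refine isConj_iff.mpr ⟨_, hD.conjE hf hs, ?_⟩
  ext y
  rw [(hD.conjE hf hs).mem_img, mem_img_scF, hf.mem_img]
  constructor
  · rintro ⟨z, hz, rfl⟩
    exact ⟨_, mem_img_scF.mp hz, by group⟩
  · rintro ⟨x, hx, e⟩
    refine ⟨s * x * s⁻¹, IsMap.apply_mem_img (f := scF s) hx, ?_⟩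
    rw [show s⁻¹ * (s * x * s⁻¹) * s = x by group, e]
    group

/-! ### Orbits and representatives -/

/-- The orbit of a subgroup of `T`: its classes in the subsystem moved by `S`. -/
def Orb (S : Subgroup Ω) (E : FusionSystem T) (U V : Subgroup Ω) : Prop :=
  ∃ s ∈ S, E.IsConj (img U (scF s)) V

omit [Finite S] in
theorem orb_of_isConj {U V : Subgroup Ω} (h : E.IsConj U V) : Orb S E U V :=
  ⟨1, S.one_mem, by rwa [img_scF_one]⟩

omit [Finite S] in
theorem orb_refl {U : Subgroup Ω} (hU : U ≤ T) : Orb S E U U := orb_of_isConj (isConj_refl hU)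

theorem Setup.orb_conj (hD : Setup F E p) {U : Subgroup Ω} (hU : U ≤ T) {s : Ω} (hs : s ∈ S) :
    Orb S E U (img U (scF s)) := ⟨s, hs, isConj_refl (hD.img_le_T hU hs)⟩

theorem Setup.orb_symm (hD : Setup F E p) {U V : Subgroup Ω} (h : Orb S E U V) :
    Orb S E V U := by
  obtain ⟨s, hs, h⟩ := h
  refine ⟨s⁻¹, S.inv_mem hs, isConj_symm ?_⟩
  have := hD.isConjE h (S.inv_mem hs)
  rwa [img_scF_scF, inv_mul_cancel, img_scF_one] at this

theorem Setup.orb_trans (hD : Setup F E p) {U V W : Subgroup Ω} (h : Orb S E U V)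
    (h' : Orb S E V W) : Orb S E U W := by
  obtain ⟨s, hs, h⟩ := h
  obtain ⟨t, ht, h'⟩ := h'
  refine ⟨t * s, S.mul_mem ht hs, isConj_trans ?_ h'⟩
  have := hD.isConjE h ht
  rwa [img_scF_scF] at this

/-- A representative: fully normalized in the subsystem, and every coset of `T` fixing its class
meets its normalizer. -/
structure IsRep (S : Subgroup Ω) (E : FusionSystem T) (V : Subgroup Ω) : Prop where
  full : E.IsFullyNormalized V
  coset : ∀ s ∈ S, E.IsConj V (img V (scF s)) → ∃ r ∈ normalizerIn S V, r⁻¹ * s ∈ T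

open Classical in
/-- A chosen representative in a set. -/
noncomputable def pick (S : Subgroup Ω) (E : FusionSystem T) (s : Set (Subgroup Ω)) : Subgroup Ω :=
  if h : ∃ V ∈ s, IsRep S E V then h.choose else ⊥

/-- The chosen representative of an orbit. -/
noncomputable def ch (S : Subgroup Ω) (E : FusionSystem T) (U : Subgroup Ω) : Subgroup Ω :=
  pick S E {V | Orb S E U V}

theorem Setup.ch_eq (hD : Setup F E p) {U V : Subgroup Ω} (h : Orb S E U V) :
    ch S E U = ch S E V :=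
  congrArg (pick S E) (Set.ext fun _ => ⟨fun hW => hD.orb_trans (hD.orb_symm h) hW,
    fun hW => hD.orb_trans h hW⟩)

omit [Finite S] in
theorem ch_spec {U V : Subgroup Ω} (h : Orb S E U V) (hV : IsRep S E V) :
    Orb S E U (ch S E U) ∧ IsRep S E (ch S E U) := by
  have hex : ∃ W ∈ {W | Orb S E U W}, IsRep S E W := ⟨V, h, hV⟩
  unfold ch pick
  rw [dif_pos hex]
  exact hex.choose_spec

/-! ### Generators -/

/-- A generating automorphism. -/
structure IsPrim (F : FusionSystem S) (E : FusionSystem T) (p : ℕ) (P : Subgroup Ω)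
    (γ : MulAut P) : Prop where
  le : P ≤ S
  mem : γ ∈ F.autGroup P
  cop : (orderOf γ).Coprime p
  shift : ∀ x ∈ P, x⁻¹ * autFun γ x ∈ T
  centric : E.IsCentric (P ⊓ T)
  sub : IsMap E (P ⊓ T) (autFun γ)

omit [Finite S] in
theorem exists_restrict [Finite S] {P R : Subgroup Ω} {γ : MulAut P} (hP : P ≤ S)
    (hγ : γ ∈ F.autGroup P) (hRP : R ≤ P) (hR : ∀ x ∈ R, autFun γ x ∈ R) :
    ∃ β ∈ F.autGroup R, (∀ x ∈ R, autFun β x = autFun γ x) ∧ orderOf β ∣ orderOf γ := by
  have hm := (isMap_autFun hP).mpr hγ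
  obtain ⟨β, hβ, e⟩ := (hm.mono hRP).exists_aut (img_eq_of_apply hm hRP hR)
  refine ⟨β, hβ, e, orderOf_dvd_of_pow_eq_one (eq_one_of_autFun fun x hx => ?_)⟩
  rw [autFun_pow_agree γ β hRP (fun y hy => (e y hy).symm) _ x hx |>.symm, pow_orderOf_eq_one,
    autFun_one (hRP hx)]

namespace IsPrim

variable {P : Subgroup Ω} {γ : MulAut P}

omit [Finite S] in
theorem isMap (h : IsPrim F E p P γ) : IsMap F P (autFun γ) := (isMap_autFun h.le).mpr h.mem

theorem inv (h : IsPrim F E p P γ) : IsPrim F E p P γ⁻¹ := by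
  refine ⟨h.le, Subgroup.inv_mem _ h.mem, by rw [orderOf_inv]; exact h.cop, fun x hx => ?_,
    h.centric, ?_⟩
  · have h1 := h.shift _ (autFun_mem γ⁻¹ hx)
    rw [autFun_inv_apply γ hx] at h1
    simpa using T.inv_mem h1
  · obtain ⟨g, hg, -, hgl, -⟩ := h.sub.exists_inv
    have hi : img (P ⊓ T) (autFun γ) = P ⊓ T :=
      img_eq_of_apply h.isMap inf_le_left fun x hx => ⟨autFun_mem γ hx.1, h.sub.mem_S hx⟩
    rw [hi] at hg
    refine hg.congr fun y hy => ?_
    rw [← hi] at hy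
    obtain ⟨x, hx, rfl⟩ := h.sub.mem_img.mp hy
    rw [hgl x hx, autFun_inv_apply' γ hx.1]

/-- Restriction to a subgroup stabilized by the automorphism. -/
theorem restrict (h : IsPrim F E p P γ) {R : Subgroup Ω} (hRP : R ≤ P)
    (hR : ∀ x ∈ R, autFun γ x ∈ R) (hc : E.IsCentric (R ⊓ T)) :
    ∃ β, IsPrim F E p R β ∧ ∀ x ∈ R, autFun β x = autFun γ x := by
  obtain ⟨β, hβ, e, hd⟩ := exists_restrict h.le h.mem hRP hR
  exact ⟨β, ⟨hRP.trans h.le, hβ, h.cop.coprime_dvd_left hd,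
    fun x hx => e x hx ▸ h.shift x (hRP hx), hc,
    (h.sub.mono (inf_le_inf_right T hRP)).congr fun x hx => e x hx.1⟩, e⟩

/-- Transport along a map of the big system. -/
theorem transport (hD : Setup F E p) (h : IsPrim F E p P γ) {P' : Subgroup Ω} {f : Ω → Ω}
    (hf : IsMap F P f) (hi : img P f = P') :
    IsPrim F E p P' (MulAut.congr (hf.equiv hi) γ) := by
  have hP' : P' ≤ S := hi ▸ hf.img_le
  have hiT : img (P ⊓ T) f = P' ⊓ T := by rw [img_inf_stronglyClosed hD.sc hf, hi]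
  have hfT : IsMap F (P ⊓ T) f := hf.mono inf_le_left
  refine ⟨hP', congr_mem_autGroup hf hi h.mem, ?_, fun x hx => ?_, ?_, ?_⟩
  · exact (orderOf_injective (MulAut.congr (hf.equiv hi)).toMonoidHom
      (MulAut.congr (hf.equiv hi)).injective γ).symm ▸ h.cop
  · obtain ⟨y, hy, rfl⟩ := hf.mem_img.mp (hi.ge hx)
    rw [congr_equiv_spec hf hi γ hy, ← hf.map_inv hy,
      ← hf.map_mul (P.inv_mem hy) (autFun_mem γ hy)]
    exact stronglyClosed_apply hD.sc hf (P.mul_mem (P.inv_mem hy) (autFun_mem γ hy)) (h.shift y hy)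
  · rw [← hiT]
    exact CharSub.centricT_img hD.inv h.centric hfT
  · obtain ⟨β, hβ, eβ⟩ := h.sub.exists_aut
      (img_eq_of_apply h.isMap inf_le_left fun x hx => ⟨autFun_mem γ hx.1, h.sub.mem_S hx⟩)
    refine ((isMap_autFun inf_le_right).mpr
      (NormCent.congr_mem_sub hD.inv inf_le_right hfT hiT hβ)).congr fun x hx => ?_
    obtain ⟨y, hy, rfl⟩ := hfT.mem_img.mp (hiT.ge hx)
    rw [congr_equiv_spec hf hi γ hy.1, congr_equiv_spec hfT hiT β hy, eβ y hy]

end IsPrim

/-- The generated maps with their labels. -/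
inductive Gen (F : FusionSystem S) (E : FusionSystem T) (p : ℕ) :
    Subgroup Ω → (Ω → Ω) → Ω → Prop
  | conj (P : Subgroup Ω) (s : Ω) : P ≤ S → s ∈ S → Gen F E p P (scF s) s
  | prim (P : Subgroup Ω) (γ : MulAut P) : IsPrim F E p P γ → Gen F E p P (autFun γ) 1
  | comp (P Q : Subgroup Ω) (f g : Ω → Ω) (s t : Ω) : Gen F E p P f s → Gen F E p Q g t →
      (∀ x ∈ P, f x ∈ Q) → Gen F E p P (g ∘ f) (t * s)
  | weak (P R : Subgroup Ω) (f f' : Ω → Ω) (s s' : Ω) : Gen F E p P f s → R ≤ P →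
      (∀ x ∈ R, f' x = f x) → s⁻¹ * s' ∈ T → Gen F E p R f' s'

namespace Gen

variable {P R : Subgroup Ω} {f g : Ω → Ω} {s t : Ω}

theorem mono (h : Gen F E p P f s) (hR : R ≤ P) : Gen F E p R f s :=
  .weak P R f f s s h hR (fun _ _ => rfl) (by simp)

theorem congr (h : Gen F E p P f s) (e : ∀ x ∈ P, g x = f x) : Gen F E p P g s :=
  .weak P P f g s s h le_rfl e (by simp)

theorem relabel (h : Gen F E p P f s) (e : s⁻¹ * t ∈ T) : Gen F E p P f t :=
  .weak P P f f s t h le_rfl (fun _ _ => rfl) e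

theorem id' {P : Subgroup Ω} (hP : P ≤ S) : Gen F E p P id 1 :=
  (Gen.conj P 1 hP S.one_mem).congr fun x _ => by simp [scF]

theorem isMap (hD : Setup F E p) (h : Gen F E p P f s) :
    IsMap F P f ∧ s ∈ S := by
  induction h with
  | conj P s hP hs => exact ⟨isMap_conj hP hs, hs⟩
  | prim P γ hγ => exact ⟨hγ.isMap, S.one_mem⟩
  | comp P Q f g s t _ _ hfQ ih ih' => exact ⟨ih.1.comp ih'.1 hfQ, S.mul_mem ih'.2 ih.2⟩
  | weak P R f f' s s' _ hR e hss ih =>
    refine ⟨(ih.1.mono hR).congr e, ?_⟩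
    rw [show s' = s * (s⁻¹ * s') by group]
    exact S.mul_mem ih.2 (hD.le hss)

/-- The map is the label modulo `T`. -/
theorem shift (hD : Setup F E p) (h : Gen F E p P f s) :
    ∀ x ∈ P, (s * x * s⁻¹)⁻¹ * f x ∈ T := by
  induction h with
  | conj P s _ _ => exact fun x _ => by simp [scF, mul_assoc]
  | prim P γ hγ => exact fun x hx => by simpa using hγ.shift x hx
  | comp P Q f g s t hf hg hfQ ih ih' =>
    intro x hx
    have ht := (hg.isMap hD).2
    have h1 := hD.conjT ht (ih x hx)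
    have h2 := ih' _ (hfQ x hx)
    have := T.mul_mem h1 h2
    rw [show (t * s * x * (t * s)⁻¹)⁻¹ * (g ∘ f) x =
      t * ((s * x * s⁻¹)⁻¹ * f x) * t⁻¹ * ((t * f x * t⁻¹)⁻¹ * g (f x)) by
        simp only [Function.comp_apply]; group]
    exact this
  | weak P R f f' s s' hf hR e hss ih =>
    intro x hx
    obtain ⟨hm, hs⟩ := hf.isMap hD
    rw [e x hx]
    have hxS : x ∈ S := hm.le (hR hx)
    set τ := s⁻¹ * s'
    rw [show s' = s * τ by simp only [τ]; group]
    have h1 : x⁻¹ * τ * x * τ⁻¹ ∈ T := T.mul_mem (hD.conjT' hxS hss) (T.inv_mem hss)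
    have h1' := T.mul_mem (T.mul_mem hss (hD.conjT' hxS (T.inv_mem hss))) (T.one_mem)
    have := T.mul_mem (hD.conjT hs h1') (ih x (hR hx))
    rw [show (s * τ * x * (s * τ)⁻¹)⁻¹ * f x =
      s * (τ * (x⁻¹ * τ⁻¹ * x) * 1) * s⁻¹ * ((s * x * s⁻¹)⁻¹ * f x) by group]
    exact this

/-- On `T` the map is the label composed with a map of the subsystem. -/
theorem sub (hD : Setup F E p) (h : Gen F E p P f s) :
    IsMap E (P ⊓ T) (fun x => s⁻¹ * f x * s) := by
  induction h with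
  | conj P s _ _ => exact (isMap_id inf_le_right).congr fun x _ => by simp [scF, mul_assoc]
  | prim P γ hγ => exact hγ.sub.congr fun x _ => by simp
  | comp P Q f g s t hf hg hfQ ih ih' =>
    obtain ⟨hfm, hs⟩ := hf.isMap hD
    have h2 := hD.conjE ih' (S.inv_mem hs)
    have hmem : ∀ x ∈ P ⊓ T, s⁻¹ * f x * s ∈ img (Q ⊓ T) (scF s⁻¹) := fun x hx => by
      rw [mem_img_scF, show s⁻¹⁻¹ * (s⁻¹ * f x * s) * s⁻¹ = f x by group]
      exact ⟨hfQ x hx.1, stronglyClosed_apply hD.sc hfm hx.1 hx.2⟩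
    refine (ih.comp h2 hmem).congr fun x _ => ?_
    simp only [Function.comp_apply]
    rw [show s⁻¹⁻¹ * (s⁻¹ * f x * s) * s⁻¹ = f x by group]
    group
  | weak P R f f' s s' hf hR e hss ih =>
    have hconj : IsMap E T (fun y => (s⁻¹ * s')⁻¹ * y * (s⁻¹ * s')⁻¹⁻¹) :=
      isMap_conj le_rfl (T.inv_mem hss)
    refine ((ih.mono (inf_le_inf_right T hR)).comp hconj fun x hx =>
      ih.mem_S (inf_le_inf_right T hR hx)).congr fun x hx => ?_
    simp only [Function.comp_apply]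
    rw [e x hx.1]
    group

/-- The inverse map. -/
theorem exists_inv (hD : Setup F E p) (h : Gen F E p P f s) :
    ∃ g, Gen F E p (img P f) g s⁻¹ ∧ ∀ x ∈ P, g (f x) = x := by
  induction h with
  | conj P s hP hs =>
    exact ⟨scF s⁻¹, Gen.conj _ _ ((isMap_conj (F := F) hP hs).img_le) (S.inv_mem hs),
      fun x _ => by simp [scF, mul_assoc]⟩
  | prim P γ hγ =>
    refine ⟨autFun γ⁻¹, ?_, fun x hx => autFun_inv_apply' γ hx⟩
    rw [img_autFun, inv_one]
    exact Gen.prim _ _ hγ.inv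
  | comp P Q f g s t hf hg hfQ ih ih' =>
    obtain ⟨a, ha, ea⟩ := ih
    obtain ⟨b, hb, eb⟩ := ih'
    have hle : img P (g ∘ f) ≤ img Q g :=
      IsMap.img_le_iff.mpr fun x hx => IsMap.apply_mem_img (hfQ x hx)
    have hm := ((hf.isMap hD).1.comp (hg.isMap hD).1 hfQ)
    refine ⟨a ∘ b, ?_, fun x hx => ?_⟩
    · rw [mul_inv_rev]
      refine Gen.comp _ _ _ _ _ _ (hb.mono hle) ha fun y hy => ?_
      obtain ⟨x, hx, rfl⟩ := hm.mem_img.mp hy
      rw [Function.comp_apply, eb _ (hfQ x hx)]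
      exact IsMap.apply_mem_img hx
    · show a (b (g (f x))) = x
      rw [eb _ (hfQ x hx), ea x hx]
  | weak P R f f' s s' hf hR e hss ih =>
    obtain ⟨g, hg, eg⟩ := ih
    refine ⟨g, (hg.mono ?_).relabel ?_, fun x hx => by rw [e x hx, eg x (hR hx)]⟩
    · rw [img_congr e]
      exact img_mono hR f
    · rw [inv_inv]
      have := hD.flip (hf.isMap hD).2 hss
      simpa using T.inv_mem this

/-- The class of the image. -/
theorem isConj (hD : Setup F E p) (h : Gen F E p P f s) {U : Subgroup Ω} (hU : U ≤ P ⊓ T) :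
    E.IsConj (img U (scF s)) (img U f) := by
  obtain ⟨hm, hs⟩ := h.isMap hD
  have hsub := (h.sub hD).mono hU
  have h1 := hD.isConjE (isConj_iff.mpr ⟨_, hsub, rfl⟩) hs
  suffices img (img U fun x => s⁻¹ * f x * s) (scF s) = img U f by rwa [this] at h1
  ext y
  rw [mem_img_scF, hsub.mem_img, (hm.mono (hU.trans inf_le_left)).mem_img]
  constructor
  · rintro ⟨x, hx, e⟩
    exact ⟨x, hx, mul_left_cancel (mul_right_cancel e)⟩
  · rintro ⟨x, hx, rfl⟩
    exact ⟨x, hx, rfl⟩

theorem orb (hD : Setup F E p) (h : Gen F E p P f s) {U : Subgroup Ω} (hU : U ≤ P ⊓ T) :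
    Orb S E U (img U f) := ⟨s, (h.isMap hD).2, h.isConj hD hU⟩

end Gen

/-! ### The product system -/

/-- The system of generated maps. -/
def prodSys (hD : Setup F E p) : FusionSystem S where
  Hom P := {φ | ∃ f s, Gen F E p P f s ∧ ∀ x : P, φ x = f x}
  le_of_mem := by
    rintro P φ ⟨f, s, h, e⟩
    obtain ⟨hm, -⟩ := h.isMap hD
    exact ⟨hm.le, fun x => e x ▸ hm.mem_S x.2⟩
  injective_of_mem := by
    rintro P φ ⟨f, s, h, e⟩ a b hab
    exact Subtype.ext ((h.isMap hD).1.injOn a.2 b.2 (by rw [← e, ← e, hab]))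
  conj_mem := fun {P g} hP hg => ⟨scF g, g, Gen.conj P g hP hg, fun _ => rfl⟩
  comp_mem := by
    rintro P Q φ ψ ⟨f, s, h, e⟩ ⟨g, t, h', e'⟩ hc
    refine ⟨g ∘ f, t * s, Gen.comp P Q f g s t h h' (fun x hx => e ⟨x, hx⟩ ▸ hc ⟨x, hx⟩),
      fun x => ?_⟩
    show ψ (φ.codRestrict Q hc x) = g (f x)
    rw [e']
    exact congrArg g (e x)
  inv_mem := by
    rintro P φ ⟨f, s, h, e⟩
    obtain ⟨hm, -⟩ := h.isMap hD
    obtain ⟨g, hg, eg⟩ := h.exists_inv hD
    have hr : φ.range = img P f := hm.range_eq e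
    obtain ⟨ψ, -, eψ⟩ := (hg.isMap hD).1
    refine ⟨ψ.comp (Subgroup.inclusion hr.le), ⟨g, s⁻¹, hr ▸ hg, fun y => eψ _⟩, fun x => ?_⟩
    show ψ _ = _
    rw [eψ]
    exact (congrArg g (e x)).trans (eg x x.2)

theorem isMap_prodSys (hD : Setup F E p) {P : Subgroup Ω} {f : Ω → Ω} :
    IsMap (prodSys hD) P f ↔ ∃ s, Gen F E p P f s := by
  constructor
  · rintro ⟨φ, ⟨g, s, h, e⟩, e'⟩
    exact ⟨s, h.congr fun x hx => (e' ⟨x, hx⟩).symm.trans (e ⟨x, hx⟩)⟩
  · rintro ⟨s, h⟩
    obtain ⟨φ, -, e⟩ := (h.isMap hD).1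
    exact ⟨φ, ⟨f, s, h, e⟩, e⟩

theorem prodSys_sub (hD : Setup F E p) : (prodSys hD).IsSubsystemOf F := by
  rintro P φ ⟨f, s, h, e⟩
  exact (h.isMap hD).1.mem_of_agree e

end Cfsg.Lib.Fusion.Product
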