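import Cfsg.Agent.Fusion.Product.Model

/-!
A generator is determined by its restriction to the part inside `T`.
-/

set_option autoImplicit false
set_option linter.unusedSectionVars false
set_option linter.style.haveILetI false

namespace Cfsg.Lib.Fusion.Product

open Cfsg Cfsg.FusionSystem Cfsg.Lib.Fusion Cfsg.Lib.Fusion.SmallCent

universe u

variable {Ω : Type u} [Group Ω] {S T : Subgroup Ω} {F : FusionSystem S} {E : FusionSystem T}
  {p : ℕ} [Finite S] [Fact p.Prime]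

/-- An element of the chain group centralizes the bottom. -/
theorem chain_shift_central {P Q : Subgroup Ω} [Finite P] {hQP : Q ≤ P}
    (hn : ∀ x ∈ P, ∀ q ∈ Q, x * q * x⁻¹ ∈ Q) (hP : P ≤ S) {κ : MulAut P}
    (hκ : κ ∈ Small.chainAut F P Q hQP) {x : Ω} (hx : x ∈ P) {q : Ω} (hq : q ∈ Q) :
    (autFun κ x * x⁻¹) * q = q * (autFun κ x * x⁻¹) := by
  have hm := (isMap_autFun hP).mpr hκ.1
  have hy : x⁻¹ * q * x ∈ Q := by simpa using hn _ (P.inv_mem hx) q hq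
  have h1 := hm.map_conj hx (hQP hy)
  rw [hκ.2.1 _ (hn x hx _ hy), hκ.2.1 _ hy] at h1
  calc autFun κ x * x⁻¹ * q
      = autFun κ x * (x⁻¹ * q * x) * (autFun κ x)⁻¹ * (autFun κ x * x⁻¹) := by group
    _ = q * (autFun κ x * x⁻¹) := by rw [← h1]; group

/-- The chain group is abelian. -/
theorem chain_comm {P Q : Subgroup Ω} [Finite P] {hQP : Q ≤ P}
    (hn : ∀ x ∈ P, ∀ q ∈ Q, x * q * x⁻¹ ∈ Q) (hP : P ≤ S) {κ κ' : MulAut P}
    (hκ : κ ∈ Small.chainAut F P Q hQP) (hκ' : κ' ∈ Small.chainAut F P Q hQP) :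
    κ * κ' = κ' * κ := by
  have key : ∀ {a b : MulAut P}, a ∈ Small.chainAut F P Q hQP → b ∈ Small.chainAut F P Q hQP →
      ∀ x ∈ P, autFun (a * b) x = (autFun b x * x⁻¹) * (autFun a x * x⁻¹) * x := by
    intro a b ha hb x hx
    have hm := (isMap_autFun hP).mpr ha.1
    have hd : autFun b x * x⁻¹ ∈ Q := hb.2.2 x hx
    rw [autFun_mul _ _ hx, show autFun b x = autFun b x * x⁻¹ * x by group,
      hm.map_mul (hQP hd) hx, ha.2.1 _ hd]
    group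
  refine MulEquiv.ext fun x => Subtype.ext ?_
  rw [← autFun_apply, ← autFun_apply, key hκ hκ' x x.2, key hκ' hκ x x.2,
    chain_shift_central hn hP hκ x.2 (hκ'.2.2 x x.2)]

/-- The case of fully normalized subgroups. -/
theorem prim_unique_full (hD : Setup F E p) {P : Subgroup Ω} (hPn : F.IsFullyNormalized P)
    (hQn : F.IsFullyNormalized (P ⊓ T)) {γ γ' : MulAut P} (h : IsPrim F E p P γ)
    (h' : IsPrim F E p P γ') (e : ∀ q ∈ P ⊓ T, autFun γ' q = autFun γ q) :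
    ∃ z ∈ P ⊓ T, (∀ q ∈ P ⊓ T, z * q * z⁻¹ = q) ∧
      ∀ x ∈ P, autFun γ' x = autFun γ (z * x * z⁻¹) := by
  have hP := hPn.1
  haveI := finite_of_le hP
  haveI := NormCent.finite_mulAut P
  set Q := P ⊓ T with hQ
  have hQP : Q ≤ P := inf_le_left
  have hQT : Q ≤ T := inf_le_right
  have hQc : E.IsCentric Q := h.centric
  have hQS := hQP.trans hP
  haveI := finite_of_le hQS
  have hn : ∀ x ∈ P, ∀ q ∈ Q, x * q * x⁻¹ ∈ Q := fun x hx q hq =>
    ⟨P.mul_mem (P.mul_mem hx hq.1) (P.inv_mem hx), hD.conjT (hP hx) hq.2⟩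
  have hPN : P ≤ normalizerIn S Q := fun x hx =>
    ⟨hP hx, mem_normalizer_of_maps_finite fun q hq => hn x hx q hq⟩
  have hstab : ∀ β ∈ F.autGroup P, ∀ q ∈ Q, autFun β q ∈ Q := fun β hβ q hq =>
    ⟨autFun_mem β hq.1, stronglyClosed_apply hD.sc ((isMap_autFun hP).mpr hβ) hq.1 hq.2⟩
  set K := Small.chainAut F P Q hQP
  have hKn : ∀ β ∈ F.autGroup P, ∀ κ ∈ K, β * κ * β⁻¹ ∈ K := fun β hβ κ hκ =>
    Small.conj_chainAut hQP hP ⟨hβ, hstab β hβ, hstab β hβ⟩ hκ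
  have hKS : K ≤ autInducedBy S P := by
    obtain ⟨-, hfa, -⟩ := fullyNormalized_props hD.grp hD.sat hPn
    obtain ⟨χ, hχ, hχK⟩ := exists_conj_into_autS hfa (Small.isPGroup_chainAut hD.grp hQP hP)
      fun _ hκ => hκ.1
    intro κ hκ
    have := hχK _ (hKn χ⁻¹ (Subgroup.inv_mem _ hχ) κ hκ)
    simpa [mul_assoc] using this
  -- the difference
  set k := γ⁻¹ * γ'
  have hγi := h.inv
  have hkK : k ∈ K := by
    refine ⟨Subgroup.mul_mem _ hγi.mem h'.mem, fun q hq => ?_, fun x hx => ⟨?_, ?_⟩⟩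
    · rw [autFun_mul _ _ (hQP hq), e q hq, autFun_inv_apply' γ (hQP hq)]
    · exact P.mul_mem (autFun_mem _ hx) (P.inv_mem hx)
    · have h1 := hγi.shift x hx
      have h2 := hγi.shift _ (autFun_mem γ' hx)
      rw [← autFun_mul _ _ hx] at h2
      have h3 := h'.shift x hx
      have := T.mul_mem h3 h2
      rw [show x⁻¹ * autFun γ' x * ((autFun γ' x)⁻¹ * autFun k x) = x⁻¹ * autFun k x by group]
        at this
      have h4 := hD.conjT (hP hx) this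
      rwa [show x * (x⁻¹ * autFun k x) * x⁻¹ = autFun k x * x⁻¹ by group] at h4
  set Z := centralizerIn Q Q
  set I := autInducedBy Z P
  -- automorphisms normalize the inner automorphisms by the centre
  have hIn : ∀ β ∈ F.autGroup P, β ∈ Subgroup.normalizer (I : Set (MulAut P)) := fun β hβ => by
    refine mem_normalizer_of_maps_finite fun ζ hζ => ?_
    obtain ⟨z, hz, ez⟩ := mem_autInducedBy.mp hζ
    obtain ⟨hzQ, hzc⟩ := Fusion.mem_centralizerIn.mp hz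
    have hm := (isMap_autFun hP).mpr hβ
    refine mem_autInducedBy.mpr ⟨autFun β z, Fusion.mem_centralizerIn.mpr ⟨hstab β hβ z hzQ,
      fun q hq => ?_⟩, fun x => ?_⟩
    · obtain ⟨y, hy, rfl⟩ : ∃ y ∈ Q, autFun β y = q :=
        ⟨autFun β⁻¹ q, hstab _ (Subgroup.inv_mem _ hβ) q hq, autFun_inv_apply β (hQP hq)⟩
      rw [← hm.map_conj (hQP hzQ) (hQP hy), hzc y hy]
    · have hx := autFun_mem β⁻¹ x.2
      rw [← autFun_apply, autFun_mul _ _ x.2, autFun_mul _ _ hx, autFun_apply_mem ζ hx, ez,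
        hm.map_conj (hQP hzQ) hx, autFun_inv_apply β x.2]
  -- the model
  obtain ⟨G, _, _, ι, M, hMod⟩ := exists_mod hD hQc
    (NormCent.fullyNormalized_sub hD.grp hD.sat hD.inv hQT hQn)
  haveI := hMod.norM
  obtain ⟨α, hα, eα⟩ := h.sub.exists_aut
    (img_eq_of_apply h.isMap inf_le_left (hstab γ h.mem))
  obtain ⟨m, hm, em⟩ := hMod.surj α hα
  have hQN := le_normalizerIn (S := S) hQS
  have hmx : ∀ x ∈ P, ∃ z ∈ Q, m * emb ι x * m⁻¹ = emb ι (z * autFun γ x) := by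
    intro x hx
    have hxN := hPN hx
    have hγx := hPN (autFun_mem γ hx)
    have hw : m * emb ι x * m⁻¹ * (emb ι (autFun γ x))⁻¹ ∈ M := by
      rw [← emb_inv hγx, show m * emb ι x * m⁻¹ * emb ι (autFun γ x)⁻¹ =
        m * (emb ι x * m⁻¹ * (emb ι x)⁻¹) * (emb ι x * emb ι (autFun γ x)⁻¹) by group,
        ← emb_mul hxN ((normalizerIn S Q).inv_mem hγx)]
      refine M.mul_mem (M.mul_mem hm (hMod.norM.conj_mem _ (M.inv_mem hm) _)) ?_
      refine (hMod.mem _ ((normalizerIn S Q).mul_mem hxN ((normalizerIn S Q).inv_mem hγx))).mpr ?_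
      have h1 := T.inv_mem (hD.conjT (hP hx) (h.shift x hx))
      rwa [show (x * (x⁻¹ * autFun γ x) * x⁻¹)⁻¹ = x * (autFun γ x)⁻¹ by group] at h1
    obtain ⟨z, hz, ez⟩ := hMod.cent _ hw fun q hq => by
      obtain ⟨q₁, hq₁, rfl⟩ : ∃ y ∈ Q, autFun γ y = q :=
        ⟨autFun γ⁻¹ q, hstab _ hγi.mem q hq, autFun_inv_apply γ (hQP hq)⟩
      have hγq := hQN (hstab γ h.mem q₁ hq₁)
      have hy : x⁻¹ * q₁ * x ∈ Q := by simpa using hn _ (P.inv_mem hx) q₁ hq₁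
      have hxy : q₁ = x * (x⁻¹ * q₁ * x) * x⁻¹ := by group
      have hγy : autFun α (x⁻¹ * q₁ * x) = autFun γ (x⁻¹ * q₁ * x) := eα _ hy
      have h1 : m * emb ι q₁ * m⁻¹ = emb ι (autFun γ q₁) := by rw [em q₁ hq₁, eα q₁ hq₁]
      have h2 : m * emb ι (x⁻¹ * q₁ * x) * m⁻¹ = emb ι (autFun γ (x⁻¹ * q₁ * x)) := by
        rw [em _ hy, hγy]
      have h3 : (emb ι (autFun γ x))⁻¹ * emb ι (autFun γ q₁) * emb ι (autFun γ x) =
          emb ι (autFun γ (x⁻¹ * q₁ * x)) := by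
        conv_lhs => rw [hxy, h.isMap.map_conj hx (hQP hy),
          emb_conj hγx (hQN (hstab γ h.mem _ hy))]
        group
      rw [show m * emb ι x * m⁻¹ * (emb ι (autFun γ x))⁻¹ * emb ι (autFun γ q₁) *
          (m * emb ι x * m⁻¹ * (emb ι (autFun γ x))⁻¹)⁻¹ = m * emb ι x * (m⁻¹ *
          ((emb ι (autFun γ x))⁻¹ * emb ι (autFun γ q₁) * emb ι (autFun γ x)) * m) *
          (emb ι x)⁻¹ * m⁻¹ by group, h3, ← h2, ← h1]
      conv_rhs => rw [hxy, emb_conj hxN (hQN hy)]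
      group
    refine ⟨z, hz, ?_⟩
    rw [emb_mul (hQN hz) hγx, ez]
    group
  obtain ⟨φ, hφ, eφ⟩ := hMod.maps P hPN m fun x hx => by
    obtain ⟨z, hz, e'⟩ := hmx x hx
    rw [e']
    exact emb_mem_range ((normalizerIn S Q).mul_mem (hQN hz) (hPN (autFun_mem γ hx)))
  have hφγ : ∀ x ∈ P, φ x * (autFun γ x)⁻¹ ∈ Q ∧ φ x ∈ P := fun x hx => by
    obtain ⟨z, hz, e'⟩ := hmx x hx
    have h1 : φ x = z * autFun γ x := emb_inj hMod.inj (eφ x hx).1
      ((normalizerIn S Q).mul_mem (hQN hz) (hPN (autFun_mem γ hx))) ((eφ x hx).2.trans e')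
    exact ⟨by simpa [h1] using hz, h1 ▸ P.mul_mem (hQP hz) (autFun_mem γ hx)⟩
  obtain ⟨a₁, ha₁, ea₁⟩ := hφ.exists_aut (img_eq_of_apply hφ le_rfl fun x hx => (hφγ x hx).2)
  have ha₁e : ∀ x ∈ P, emb ι (autFun a₁ x) = m * emb ι x * m⁻¹ := fun x hx => by
    rw [ea₁ x hx, (eφ x hx).2]
  have hκ₁ : γ⁻¹ * a₁ ∈ K := by
    refine ⟨Subgroup.mul_mem _ hγi.mem ha₁, fun q hq => ?_, fun x hx => ?_⟩
    · have h1 : autFun a₁ q = autFun γ q := emb_inj hMod.inj (hPN (autFun_mem _ (hQP hq)))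
        (hPN (autFun_mem _ (hQP hq))) (by rw [ha₁e q (hQP hq), em q hq, eα q hq])
      rw [autFun_mul _ _ (hQP hq), h1, autFun_inv_apply' γ (hQP hq)]
    · have hz : autFun a₁ x * (autFun γ x)⁻¹ ∈ Q := ea₁ x hx ▸ (hφγ x hx).1
      rw [autFun_mul _ _ hx,
        show autFun a₁ x = autFun a₁ x * (autFun γ x)⁻¹ * autFun γ x by group,
        hγi.isMap.map_mul (hQP hz) (autFun_mem γ hx), autFun_inv_apply' γ hx, mul_inv_cancel_right]
      exact hstab _ hγi.mem _ hz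
  obtain ⟨y, hy, ey⟩ := mem_autInducedBy.mp (hKS hkK)
  have hyC : y ∈ centralizerIn S Q := Fusion.mem_centralizerIn.mpr ⟨hy, fun q hq => by
    rw [← ey ⟨q, hQP hq⟩, ← autFun_apply]
    exact hkK.2.1 q hq⟩
  have hyN := centralizerIn_le_normalizerIn Q hyC
  obtain ⟨zy, hzy, ezy⟩ : ∃ z ∈ Q, emb ι z = m * emb ι y * m⁻¹ * (emb ι y)⁻¹ := by
    refine hMod.cent _ ?_ fun q hq => ?_
    · rw [show m * emb ι y * m⁻¹ * (emb ι y)⁻¹ = m * (emb ι y * m⁻¹ * (emb ι y)⁻¹) by group]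
      exact M.mul_mem hm (hMod.norM.conj_mem _ (M.inv_mem hm) _)
    · have hyq : ∀ r ∈ Q, emb ι y * emb ι r * (emb ι y)⁻¹ = emb ι r := fun r hr => by
        rw [← emb_conj hyN (hQN hr), (Fusion.mem_centralizerIn.mp hyC).2 r hr]
      have hyi : (emb ι y)⁻¹ * emb ι q * emb ι y = emb ι q := by
        conv_lhs => rw [← hyq q hq]
        group
      obtain ⟨q₁, hq₁, e₁⟩ := hMod.stable hQS m⁻¹ hq
      rw [inv_inv] at e₁
      calc m * emb ι y * m⁻¹ * (emb ι y)⁻¹ * emb ι q * (m * emb ι y * m⁻¹ * (emb ι y)⁻¹)⁻¹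
          = m * emb ι y * (m⁻¹ * ((emb ι y)⁻¹ * emb ι q * emb ι y) * m) * (emb ι y)⁻¹ * m⁻¹ := by
            group
        _ = m * (emb ι y * emb ι q₁ * (emb ι y)⁻¹) * m⁻¹ := by rw [hyi, e₁]; group
        _ = emb ι q := by rw [hyq q₁ hq₁, ← e₁]; group
  have hzyZ : zy ∈ Z := Fusion.mem_centralizerIn.mpr ⟨hzy, fun q hq => by
    refine emb_inj hMod.inj (hQN (Q.mul_mem (Q.mul_mem hzy hq) (Q.inv_mem hzy))) (hQN hq) ?_
    have hyq : ∀ r ∈ Q, emb ι y * emb ι r * (emb ι y)⁻¹ = emb ι r := fun r hr => by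
      rw [← emb_conj hyN (hQN hr), (Fusion.mem_centralizerIn.mp hyC).2 r hr]
    have hyi : (emb ι y)⁻¹ * emb ι q * emb ι y = emb ι q := by
      conv_lhs => rw [← hyq q hq]
      group
    obtain ⟨q₁, hq₁, e₁⟩ := hMod.stable hQS m⁻¹ hq
    rw [inv_inv] at e₁
    rw [emb_conj (hQN hzy) (hQN hq), ezy]
    calc m * emb ι y * m⁻¹ * (emb ι y)⁻¹ * emb ι q * (m * emb ι y * m⁻¹ * (emb ι y)⁻¹)⁻¹
        = m * emb ι y * (m⁻¹ * ((emb ι y)⁻¹ * emb ι q * emb ι y) * m) * (emb ι y)⁻¹ * m⁻¹ := by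
          group
      _ = m * (emb ι y * emb ι q₁ * (emb ι y)⁻¹) * m⁻¹ := by rw [hyi, e₁]; group
      _ = emb ι q := by rw [hyq q₁ hq₁, ← e₁]; group⟩
  have hc : γ * k * γ⁻¹ * k⁻¹ ∈ I := by
    have hcomm := chain_comm hn hP hκ₁ hkK
    have e1 : γ * k * γ⁻¹ = a₁ * k * a₁⁻¹ := by
      have h1 : a₁ * k * a₁⁻¹ = γ * ((γ⁻¹ * a₁) * k * (γ⁻¹ * a₁)⁻¹) * γ⁻¹ := by group
      rw [h1, hcomm, mul_inv_cancel_right]
    rw [e1]
    refine mem_autInducedBy.mpr ⟨zy, hzyZ, fun x => ?_⟩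
    have hki := (Subgroup.inv_mem _ hkK : k⁻¹ ∈ K)
    have hu := autFun_mem k⁻¹ x.2
    have hw := autFun_mem a₁⁻¹ hu
    rw [← autFun_apply, autFun_mul _ _ x.2, autFun_mul _ _ hu, autFun_mul _ _ hw]
    refine emb_inj hMod.inj (hPN (autFun_mem _ (autFun_mem _ hw)))
      (hPN (P.mul_mem (P.mul_mem (hQP hzy) x.2) (P.inv_mem (hQP hzy)))) ?_
    rw [ha₁e _ (autFun_mem k hw), autFun_apply_mem k hw, ey, emb_conj hyN (hPN hw),
      emb_conj (hQN hzy) (hPN x.2), ezy]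
    have h2 : m * emb ι (autFun a₁⁻¹ (autFun k⁻¹ x)) * m⁻¹ = emb ι (autFun k⁻¹ x) := by
      rw [← ha₁e _ hw, autFun_inv_apply a₁ hu]
    have h3 : emb ι (autFun k⁻¹ x) = (emb ι y)⁻¹ * emb ι x * emb ι y := by
      have h4 : autFun k (autFun k⁻¹ x) = x := autFun_inv_apply k x.2
      rw [autFun_apply_mem k hu, ey] at h4
      conv_rhs => rw [← h4, emb_conj hyN (hPN hu)]
      group
    calc m * (emb ι y * emb ι (autFun a₁⁻¹ (autFun k⁻¹ x)) * (emb ι y)⁻¹) * m⁻¹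
        = (m * emb ι y * m⁻¹) * (m * emb ι (autFun a₁⁻¹ (autFun k⁻¹ x)) * m⁻¹) *
            (m * emb ι y * m⁻¹)⁻¹ := by group
      _ = (m * emb ι y * m⁻¹) * ((emb ι y)⁻¹ * emb ι x * emb ι y) *
            (m * emb ι y * m⁻¹)⁻¹ := by rw [h2, h3]
      _ = m * emb ι y * m⁻¹ * (emb ι y)⁻¹ * emb ι x *
            (m * emb ι y * m⁻¹ * (emb ι y)⁻¹)⁻¹ := by group
  obtain ⟨i, hi⟩ := Small.isPGroup_chainAut hD.grp hQP hP ⟨k, hkK⟩
  have hkI : k ∈ I := by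
    refine mem_of_comm_coprime (p := p) (a := γ) (k := k) (n := orderOf γ * orderOf γ') (i := i)
      (Nat.Coprime.mul_left h.cop h'.cop) (hIn γ h.mem) (hIn k hkK.1) hc ?_ ?_
      (by simpa using congrArg Subtype.val hi)
    · rw [pow_mul, pow_orderOf_eq_one, one_pow]
      exact Subgroup.one_mem _
    · rw [show γ * k = γ' by simp [k], mul_comm, pow_mul, pow_orderOf_eq_one, one_pow]
      exact Subgroup.one_mem _
  obtain ⟨z, hz, ez⟩ := mem_autInducedBy.mp hkI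
  refine ⟨z, (Fusion.mem_centralizerIn.mp hz).1, (Fusion.mem_centralizerIn.mp hz).2,
    fun x hx => ?_⟩
  rw [show γ' = γ * k by simp [k], autFun_mul _ _ hx, autFun_apply_mem k hx, ez]

/-- Two generators on a subgroup agreeing on its part in `T` differ by conjugation with an element
of the centre of that part. -/
theorem prim_unique (hD : Setup F E p) {P : Subgroup Ω} {γ γ' : MulAut P}
    (h : IsPrim F E p P γ) (h' : IsPrim F E p P γ')
    (e : ∀ q ∈ P ⊓ T, autFun γ' q = autFun γ q) :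
    ∃ z ∈ P ⊓ T, (∀ q ∈ P ⊓ T, z * q * z⁻¹ = q) ∧
      ∀ x ∈ P, autFun γ' x = autFun γ (z * x * z⁻¹) := by
  have hP := h.le
  obtain ⟨P₂, hPP₂, hP₂⟩ := exists_fullyNormalized (F := F) hP
  obtain ⟨f₀, hf₀, hf₀i⟩ := isConj_iff.mp hPP₂
  obtain ⟨-, hfa, hrec⟩ := fullyNormalized_props hD.grp hD.sat hP₂
  obtain ⟨-, -, f, hf, hfi, -, hfN⟩ := exists_map_normalizer hD.grp hfa hrec hf₀ hf₀i
  have hQ₂S : P₂ ⊓ T ≤ S := inf_le_left.trans hP₂.1
  obtain ⟨W, g, hg, hgi, hgN, hWn, -⟩ := exists_good_conj hD.grp hD.sat hQ₂S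
  have hN₂ : normalizerIn S P₂ ≤ normalizerIn S (P₂ ⊓ T) := fun x hx => by
    haveI := finite_of_le hQ₂S
    exact ⟨hx.1, mem_normalizer_of_maps_finite fun q hq =>
      ⟨conj_mem_of_mem_normalizer hx.2 hq.1, hD.conjT hx.1 hq.2⟩⟩
  have hP₂N : P₂ ≤ normalizerIn S P₂ := le_normalizerIn hP₂.1
  have hg₂ : IsMap F P₂ g := hg.mono (hP₂N.trans hN₂)
  set P₁ := img P₂ g
  have hQ₁ : P₁ ⊓ T = W := by rw [← img_inf_stronglyClosed hD.sc hg₂]; exact hgi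
  have hP₁ : F.IsFullyNormalized P₁ := by
    refine ⟨hg₂.img_le, fun R hR => (hP₂.2 R (isConj_trans (isConj_iff.mpr ⟨g, hg₂, rfl⟩) hR)).trans
      ?_⟩
    exact card_le_of_isMap (hg.mono hN₂) le_rfl inf_le_left fun x hx =>
      (hg.mono hN₂).mem_normalizerIn hP₂N hx hx.2
  have hfP : ∀ x ∈ P, f x ∈ normalizerIn S (P₂ ⊓ T) := fun x hx =>
    hN₂ (hfN x (le_normalizerIn hP hx))
  have hk : IsMap F P (g ∘ f) := (hf.mono (le_normalizerIn hP)).comp hg hfP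
  have hki : img P (g ∘ f) = P₁ := by
    rw [img_comp (hf.mono (le_normalizerIn hP)) (hfi.symm ▸ hg₂), hfi]
  have hkT : img (P ⊓ T) (g ∘ f) = P₁ ⊓ T := by rw [img_inf_stronglyClosed hD.sc hk, hki]
  obtain ⟨z₁, hz₁, hzc, ez⟩ := prim_unique_full hD hP₁ (hQ₁.symm ▸ hWn) (h.transport hD hk hki)
    (h'.transport hD hk hki) fun q hq => by
      obtain ⟨x, hx, rfl⟩ := (hk.mono inf_le_left).mem_img.mp (hkT.ge hq)
      rw [congr_equiv_spec hk hki γ hx.1, congr_equiv_spec hk hki γ' hx.1, e x hx]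
  obtain ⟨z, hz, rfl⟩ := (hk.mono inf_le_left).mem_img.mp (hkT.ge hz₁)
  refine ⟨z, hz, fun q hq => ?_, fun x hx => ?_⟩
  · refine hk.injOn (P.mul_mem (P.mul_mem hz.1 hq.1) (P.inv_mem hz.1)) hq.1 ?_
    rw [hk.map_conj hz.1 hq.1]
    exact hzc _ (hkT.le (IsMap.apply_mem_img hq))
  · have hzx : z * x * z⁻¹ ∈ P := P.mul_mem (P.mul_mem hz.1 hx) (P.inv_mem hz.1)
    refine hk.injOn (autFun_mem γ' hx) (autFun_mem γ hzx) ?_
    rw [← congr_equiv_spec hk hki γ' hx, ← congr_equiv_spec hk hki γ hzx, hk.map_conj hz.1 hx]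
    exact ez _ (hki.le (IsMap.apply_mem_img hx))

end Cfsg.Lib.Fusion.Product
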