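import Cfsg.Agent.Fusion.Product.Rep
import Cfsg.Agent.Fusion.Product.Det

/-!
Read at the representative, a generated map is conjugation in the model.
-/

set_option autoImplicit false
set_option linter.unusedSectionVars false
set_option linter.style.haveILetI false
set_option maxHeartbeats 400000

namespace Cfsg.Lib.Fusion.Product

open Cfsg Cfsg.FusionSystem Cfsg.Lib.Fusion Cfsg.Lib.Fusion.SmallCent

universe u

variable {Ω : Type u} [Group Ω] {S T : Subgroup Ω} {F : FusionSystem S} {E : FusionSystem T}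
  {p : ℕ} [Finite S] [Fact p.Prime]

/-- A chosen move to the representative, trivial at a representative. -/
theorem exists_tr (hD : Setup F E p) {U : Subgroup Ω} (hU : U ≤ T) :
    ∃ f s, Gen F E p (normalizerIn S U) f s ∧ img U f = ch S E U ∧
      (ch S E U = U → (∀ x, f x = x) ∧ s = 1) := by
  obtain ⟨⟨-, -, f, s, hf, hfi⟩, -⟩ := reach_all hD hU
  by_cases h : ch S E U = U
  · exact ⟨id, 1, Gen.id' inf_le_left, by rw [img_id, h], fun _ => ⟨fun _ => rfl, rfl⟩⟩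
  · exact ⟨f, s, hf, hfi, fun h' => absurd h' h⟩

open Classical in
/-- The move. -/
noncomputable def tr (hD : Setup F E p) (U : Subgroup Ω) : Ω → Ω :=
  if h : U ≤ T then (exists_tr hD h).choose else id

open Classical in
/-- The label of the move. -/
noncomputable def lab (hD : Setup F E p) (U : Subgroup Ω) : Ω :=
  if h : U ≤ T then (exists_tr hD h).choose_spec.choose else 1

theorem tr_spec (hD : Setup F E p) {U : Subgroup Ω} (hU : U ≤ T) :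
    Gen F E p (normalizerIn S U) (tr hD U) (lab hD U) ∧ img U (tr hD U) = ch S E U ∧
      (ch S E U = U → (∀ x, tr hD U x = x) ∧ lab hD U = 1) := by
  simp only [tr, lab, dif_pos hU]
  exact (exists_tr hD hU).choose_spec.choose_spec

theorem ch_top (hD : Setup F E p) : ch S E T = T := by
  obtain ⟨hrep, -, f, s, hf, hfi⟩ := (reach_all hD (le_rfl : T ≤ T)).1
  haveI := finite_of_le hD.le
  refine Subgroup.eq_of_le_of_card_ge hrep.full.1 ?_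
  rw [← hfi, ((hf.isMap hD).1.mono (le_normalizerIn hD.le)).card_img]

theorem ch_centric (hD : Setup F E p) {U : Subgroup Ω} (hU : E.IsCentric U) :
    E.IsCentric (ch S E U) ∧ IsRep S E (ch S E U) ∧ Nat.card (ch S E U) = Nat.card U := by
  have hUS := hU.1.trans hD.le
  obtain ⟨h, hi, -⟩ := tr_spec hD hU.1
  have hm := (h.isMap hD).1.mono (le_normalizerIn hUS)
  exact ⟨hi ▸ CharSub.centricT_img hD.inv hU hm, (reach_all hD hU.1).1.1,
    hi ▸ hm.card_img⟩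

variable {Q₀ : Subgroup Ω} {G : Type u} [Group G]

/-- The map read at the representative is conjugation in the model, in the coset of its label. -/
def IsLoop (hD : Setup F E p) (ι : normalizerIn S Q₀ →* G) (M : Subgroup G) (P : Subgroup Ω)
    (f : Ω → Ω) (s : Ω) : Prop :=
  ∃ g : G, ∃ r ∈ normalizerIn S Q₀, g * (emb ι r)⁻¹ ∈ M ∧
    r⁻¹ * (lab hD (img (P ⊓ T) f) * s * (lab hD (P ⊓ T))⁻¹) ∈ T ∧
    ∀ x ∈ P, emb ι (tr hD (img (P ⊓ T) f) (f x)) = g * emb ι (tr hD (P ⊓ T) x) * g⁻¹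

/-- Generated maps fixing a centric part inside `T` are inner. -/
def Rigid (F : FusionSystem S) (E : FusionSystem T) (p : ℕ) (k : ℕ) : Prop :=
  ∀ (P : Subgroup Ω) (f : Ω → Ω), E.IsCentric (P ⊓ T) → k < Nat.card (P ⊓ T : Subgroup Ω) →
    Gen F E p P f 1 → (∀ q ∈ P ⊓ T, f q = q) →
    ∃ z ∈ P ⊓ T, (∀ q ∈ P ⊓ T, z * q * z⁻¹ = q) ∧ ∀ x ∈ P, f x = z * x * z⁻¹

/-- The loops give rigidity. -/
theorem rigid_of_loop (hD : Setup F E p) {P : Subgroup Ω} {f : Ω → Ω}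
    (hQc : E.IsCentric (P ⊓ T)) (hf : Gen F E p P f 1) (hfix : ∀ q ∈ P ⊓ T, f q = q)
    (hloop : ∀ (G : Type u) (_ : Group G) (_ : Finite G)
      (ι : normalizerIn S (ch S E (P ⊓ T)) →* G) (M : Subgroup G),
      Mod F E p (ch S E (P ⊓ T)) ι M → IsLoop hD ι M P f 1) :
    ∃ z ∈ P ⊓ T, (∀ q ∈ P ⊓ T, z * q * z⁻¹ = q) ∧ ∀ x ∈ P, f x = z * x * z⁻¹ := by
  obtain ⟨hfm, -⟩ := hf.isMap hD
  have hP := hfm.le
  set Q := P ⊓ T with hQ
  have hQT : Q ≤ T := inf_le_right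
  have hQS := hQT.trans hD.le
  haveI := finite_of_le hQS
  obtain ⟨hc₀, hrep, -⟩ := ch_centric hD hQc
  set Q₀ := ch S E Q
  obtain ⟨G, _, _, ι, M, hMod⟩ := exists_mod hD hc₀ hrep.full
  obtain ⟨g, r, hr, hgr, hlab, e⟩ := hloop G inferInstance inferInstance ι M hMod
  have hi : img Q f = Q := by rw [img_congr hfix]; exact img_id Q
  rw [hi] at hlab e
  obtain ⟨htr, htri, -⟩ := tr_spec hD hQT
  obtain ⟨hωm, hl⟩ := htr.isMap hD
  set ω := tr hD Q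
  set l := lab hD Q
  have hQN : Q ≤ normalizerIn S Q := le_normalizerIn hQS
  have hrT : r ∈ T := by
    rw [show l * 1 * l⁻¹ = 1 by group, mul_one] at hlab
    simpa using T.inv_mem hlab
  have hgM : g ∈ M := by
    have := M.mul_mem hgr ((hMod.mem r hr).mpr hrT)
    rwa [inv_mul_cancel_right] at this
  obtain ⟨z, hz, ez⟩ := hMod.cent g hgM fun q hq => by
    obtain ⟨q', hq', rfl⟩ := (hωm.mono hQN).mem_img.mp (htri.ge hq)
    rw [← e q' hq'.1, hfix q' hq']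
  obtain ⟨z', hz', rfl⟩ := (hωm.mono hQN).mem_img.mp (htri.ge hz)
  have hPN : P ≤ normalizerIn S Q := fun x hx => ⟨hP hx, mem_normalizer_of_maps_finite fun q hq =>
    ⟨P.mul_mem (P.mul_mem hx hq.1) (P.inv_mem hx), hD.conjT (hP hx) hq.2⟩⟩
  have hωN : ∀ x ∈ normalizerIn S Q, ω x ∈ normalizerIn S Q₀ := fun x hx => by
    have h := hωm.mem_normalizerIn hQN hx hx.2
    rwa [htri] at h
  have key : ∀ x ∈ P, f x = z' * x * z'⁻¹ := fun x hx => by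
    have hzx : z' * x * z'⁻¹ ∈ normalizerIn S Q :=
      hPN (P.mul_mem (P.mul_mem hz'.1 hx) (P.inv_mem hz'.1))
    have hfx : f x ∈ normalizerIn S Q := hi ▸ hfm.mem_normalizerIn inf_le_left hx (hPN hx).2
    refine hωm.injOn hfx hzx (emb_inj hMod.inj (hωN _ hfx) (hωN _ hzx) ?_)
    rw [e x hx, ← ez, hωm.map_conj (hQN hz') (hPN hx),
      emb_conj (hωN _ (hQN hz')) (hωN _ (hPN hx))]
  refine ⟨z', hz', fun q hq => ?_, key⟩
  rw [← key q hq.1]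
  exact hfix q hq

variable [Finite G] {ι : normalizerIn S Q₀ →* G} {M : Subgroup G}

/-- A map extending to a larger part in `T`. -/
theorem loop_big (hD : Setup F E p) (hc₀ : E.IsCentric Q₀) (hrep : IsRep S E Q₀)
    (hMod : Mod F E p Q₀ ι M) (hrig : Rigid F E p (Nat.card Q₀)) {P P₀ : Subgroup Ω} {f : Ω → Ω}
    {s : Ω} (hf : Gen F E p P f s) (hP₀ : P₀ ≤ P) (hch : ch S E (P₀ ⊓ T) = Q₀)
    (hlt : P₀ ⊓ T < P ⊓ T) : IsLoop hD ι M P₀ f s := by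
  haveI := hMod.norM
  obtain ⟨hfm, hs⟩ := hf.isMap hD
  have hP := hfm.le
  set Q := P₀ ⊓ T with hQ
  have hQT : Q ≤ T := inf_le_right
  have hQS := hQT.trans hD.le
  haveI := finite_of_le hQS
  have hQN : Q ≤ normalizerIn S Q := le_normalizerIn hQS
  set Q' := img Q f
  have hQP : Q ≤ P := inf_le_left.trans hP₀
  have hQ'T : Q' ≤ T := IsMap.img_le_iff.mpr fun x hx =>
    stronglyClosed_apply hD.sc hfm (hQP hx) hx.2
  have hQ'S := hQ'T.trans hD.le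
  have hQ'N : Q' ≤ normalizerIn S Q' := le_normalizerIn hQ'S
  have hch' : ch S E Q' = Q₀ :=
    (hD.ch_eq (hf.orb hD (le_inf hQP hQT))).symm.trans hch
  -- the enlargement
  set N := (P ⊓ T) ⊓ Subgroup.normalizer (Q : Set Ω)
  have hQN' : Q < N := lt_inf_normalizer hD.grp hlt (inf_le_left.trans hP)
  set P₁ := P₀ ⊔ N
  have hP₁P : P₁ ≤ P := sup_le hP₀ (inf_le_left.trans inf_le_left)
  have hP₁N : P₁ ≤ normalizerIn S Q := sup_le (fun x hx => ⟨hP (hP₀ hx),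
    mem_normalizer_of_maps_finite fun q hq =>
      ⟨P₀.mul_mem (P₀.mul_mem hx hq.1) (P₀.inv_mem hx), hD.conjT (hP (hP₀ hx)) hq.2⟩⟩)
    fun x hx => ⟨hP hx.1.1, hx.2⟩
  have hNP₁ : N ≤ P₁ ⊓ T := le_inf le_sup_right (inf_le_left.trans inf_le_right)
  obtain ⟨htr, htri, -⟩ := tr_spec hD hQT
  obtain ⟨htr', htri', -⟩ := tr_spec hD hQ'T
  rw [hch] at htri
  rw [hch'] at htri'
  obtain ⟨hωm, hl⟩ := htr.isMap hD
  obtain ⟨hω'm, hl'⟩ := htr'.isMap hD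
  set ω := tr hD Q
  set ω' := tr hD Q'
  set l := lab hD Q
  set l' := lab hD Q'
  obtain ⟨ωi, hωg, eωi⟩ := htr.exists_inv hD
  set P₂ := img P₁ ω
  have hωN : ∀ x ∈ normalizerIn S Q, ω x ∈ normalizerIn S Q₀ := fun x hx =>
    htri ▸ hωm.mem_normalizerIn hQN hx hx.2
  have hP₂N : P₂ ≤ normalizerIn S Q₀ := IsMap.img_le_iff.mpr fun x hx => hωN x (hP₁N hx)
  have hQP₁ : Q ≤ P₁ := inf_le_left.trans le_sup_left
  have hQ₀P₂ : Q₀ ≤ P₂ := htri ▸ img_mono hQP₁ ω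
  have hQ₀T := hc₀.1
  haveI := finite_of_le (hQ₀T.trans hD.le)
  have hωi₁ : ∀ x ∈ P₂, ωi x ∈ P₁ := fun x hx => by
    obtain ⟨y, hy, rfl⟩ := (hωm.mono hP₁N).mem_img.mp hx
    rwa [eωi y (hP₁N hy)]
  have hfN : ∀ x ∈ P₁, f x ∈ normalizerIn S Q' := fun x hx =>
    hfm.mem_normalizerIn hQP (hP₁P hx) (hP₁N hx).2
  set g := ω' ∘ (f ∘ ωi)
  have hg : Gen F E p P₂ g (l' * (s * l⁻¹)) :=
    Gen.comp P₂ _ _ ω' _ l' (Gen.comp P₂ P₁ ωi f _ s
      (hωg.mono (img_mono hP₁N ω)) (hf.mono hP₁P) hωi₁) htr' fun x hx => hfN _ (hωi₁ x hx)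
  have hgω : ∀ x ∈ P₁, g (ω x) = ω' (f x) := fun x hx => by
    show ω' (f (ωi (ω x))) = _
    rw [eωi x (hP₁N hx)]
  obtain ⟨hgm, hσ⟩ := hg.isMap hD
  set σ := l' * (s * l⁻¹)
  have hgQ : img Q₀ g = Q₀ := by
    refine img_eq_of_apply hgm hQ₀P₂ fun x hx => ?_
    obtain ⟨q, hq, rfl⟩ := (hωm.mono hQN).mem_img.mp (htri.ge hx)
    rw [hgω q (hQP₁ hq)]
    exact htri'.le (IsMap.apply_mem_img (IsMap.apply_mem_img hq))
  have hconj := hg.isConj hD (le_inf hQ₀P₂ hQ₀T)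
  rw [hgQ] at hconj
  obtain ⟨r, hr, hrσ⟩ := hrep.coset σ hσ (isConj_symm hconj)
  have hgN : ∀ x ∈ P₂, g x ∈ normalizerIn S Q₀ := fun x hx =>
    hgQ ▸ hgm.mem_normalizerIn hQ₀P₂ hx (hP₂N hx).2
  set g₁ := scF r⁻¹ ∘ g
  have hg₁ : Gen F E p P₂ g₁ 1 := by
    refine (Gen.comp P₂ _ g (scF r⁻¹) σ r⁻¹ hg (Gen.conj S r⁻¹ le_rfl (S.inv_mem hr.1))
      fun x hx => hgm.mem_S hx).relabel ?_
    simpa using T.inv_mem hrσ
  obtain ⟨hg₁m, -⟩ := hg₁.isMap hD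
  have hg₁N : ∀ x ∈ P₂, g₁ x ∈ normalizerIn S Q₀ := fun x hx =>
    (normalizerIn S Q₀).mul_mem ((normalizerIn S Q₀).mul_mem ((normalizerIn S Q₀).inv_mem hr)
      (hgN x hx)) (by simpa using hr)
  have hg₁Q : ∀ x ∈ Q₀, g₁ x ∈ Q₀ := fun x hx =>
    conj_mem_of_mem_normalizer (Subgroup.inv_mem _ hr.2) (hgQ.le (IsMap.apply_mem_img hx))
  have hg₁E : IsMap E (P₂ ⊓ T) g₁ := (hg₁.sub hD).congr fun x _ => by simp
  obtain ⟨α, hα, eα⟩ := (hg₁E.mono (le_inf hQ₀P₂ hQ₀T)).exists_aut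
    (img_eq_of_apply hg₁m hQ₀P₂ hg₁Q)
  obtain ⟨m, hm, em⟩ := hMod.surj α hα
  have hQ₀N : Q₀ ≤ normalizerIn S Q₀ := le_normalizerIn (hQ₀T.trans hD.le)
  have hrange : ∀ x ∈ P₂, m * emb ι x * m⁻¹ ∈ ι.range := fun x hx => by
    obtain ⟨c, hc, ec⟩ := hMod.cent_range hD.grp (hQ₀T.trans hD.le)
      (g := (emb ι (g₁ x))⁻¹ * (m * emb ι x * m⁻¹)) fun q hq => by
      obtain ⟨q₁, hq₁, rfl⟩ : ∃ u ∈ Q₀, autFun α u = q :=
        ⟨autFun α⁻¹ q, autFun_mem _ hq, autFun_inv_apply α hq⟩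
      have hxq := conj_mem_of_mem_normalizer (hP₂N hx).2 hq₁
      have h1 : m * (emb ι x * emb ι q₁ * (emb ι x)⁻¹) * m⁻¹ =
          emb ι (g₁ x) * emb ι (autFun α q₁) * (emb ι (g₁ x))⁻¹ := by
        rw [← emb_conj (hP₂N hx) (hQ₀N hq₁), em _ hxq, eα _ hxq,
          hg₁m.map_conj hx (hQ₀P₂ hq₁), ← eα q₁ hq₁,
          emb_conj (hg₁N x hx) (hQ₀N (autFun_mem α hq₁))]
      rw [← em q₁ hq₁] at h1 ⊢
      calc (emb ι (g₁ x))⁻¹ * (m * emb ι x * m⁻¹) * (m * emb ι q₁ * m⁻¹) *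
            ((emb ι (g₁ x))⁻¹ * (m * emb ι x * m⁻¹))⁻¹
          = (emb ι (g₁ x))⁻¹ * (m * (emb ι x * emb ι q₁ * (emb ι x)⁻¹) * m⁻¹) *
              emb ι (g₁ x) := by group
        _ = m * emb ι q₁ * m⁻¹ := by rw [h1]; group
    rw [show m * emb ι x * m⁻¹ =
      emb ι (g₁ x) * ((emb ι (g₁ x))⁻¹ * (m * emb ι x * m⁻¹)) by group, ← ec]
    exact ι.range.mul_mem (emb_mem_range (hg₁N x hx))
      (emb_mem_range (centralizerIn_le_normalizerIn Q₀ hc))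
  obtain ⟨h, r', hh, hr', hmr, eh⟩ := hMod.gen hD hc₀ hrep.full hQ₀P₂ hP₂N hrange
  have hr'T : r' ∈ T := by
    refine (hMod.mem r' hr').mp ?_
    have := M.mul_mem (M.inv_mem hmr) hm
    rwa [show (m * (emb ι r')⁻¹)⁻¹ * m = emb ι r' by group] at this
  replace hh : Gen F E p P₂ h 1 := hh.relabel (by simpa using T.inv_mem hr'T)
  obtain ⟨hhm, -⟩ := hh.isMap hD
  have hhQ : ∀ q ∈ Q₀, h q = g₁ q := fun q hq => emb_inj hMod.inj (eh q (hQ₀P₂ hq)).1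
    (hg₁N q (hQ₀P₂ hq)) (by rw [(eh q (hQ₀P₂ hq)).2, em q hq, eα q hq])
  have hin : ∀ x ∈ P₂, g₁ x ∈ img P₂ h := fun x hx => by
    have hd : (h x)⁻¹ * g₁ x ∈ Q₀ := by
      refine hc₀.2 Q₀ (isConj_refl hQ₀T) (Fusion.mem_centralizerIn.mpr ⟨?_, fun q hq => ?_⟩)
      · have := T.mul_mem (T.inv_mem (hh.shift hD x hx)) (hg₁.shift hD x hx)
        rwa [show ((1 * x * 1⁻¹)⁻¹ * h x)⁻¹ * ((1 * x * 1⁻¹)⁻¹ * g₁ x) = (h x)⁻¹ * g₁ x by group]
          at this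
      · obtain ⟨q₁, hq₁, rfl⟩ : ∃ u ∈ Q₀, g₁ u = q := by
          refine ⟨autFun α⁻¹ q, autFun_mem _ hq, ?_⟩
          rw [← eα _ (autFun_mem _ hq), autFun_inv_apply α hq]
        have hxq := conj_mem_of_mem_normalizer (hP₂N hx).2 hq₁
        have h1 : h x * g₁ q₁ * (h x)⁻¹ = g₁ x * g₁ q₁ * (g₁ x)⁻¹ := by
          rw [← hhQ q₁ hq₁, ← hhm.map_conj hx (hQ₀P₂ hq₁), hhQ _ hxq,
            hg₁m.map_conj hx (hQ₀P₂ hq₁), hhQ q₁ hq₁]
        calc (h x)⁻¹ * g₁ x * g₁ q₁ * ((h x)⁻¹ * g₁ x)⁻¹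
            = (h x)⁻¹ * (g₁ x * g₁ q₁ * (g₁ x)⁻¹) * h x := by group
          _ = g₁ q₁ := by rw [← h1]; group
    rw [show g₁ x = h x * ((h x)⁻¹ * g₁ x) by group]
    refine Subgroup.mul_mem _ (IsMap.apply_mem_img hx) ?_
    obtain ⟨q, hq, e⟩ : ∃ u ∈ Q₀, g₁ u = (h x)⁻¹ * g₁ x := by
      refine ⟨autFun α⁻¹ _, autFun_mem _ hd, ?_⟩
      rw [← eα _ (autFun_mem _ hd), autFun_inv_apply α hd]
    rw [← e, ← hhQ q hq]
    exact IsMap.apply_mem_img (hQ₀P₂ hq)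
  obtain ⟨hi, hhg, ehi⟩ := hh.exists_inv hD
  set j := hi ∘ g₁
  have hj : Gen F E p P₂ j 1 := by simpa using Gen.comp P₂ _ g₁ hi 1 _ hg₁ hhg hin
  have hjQ : ∀ q ∈ Q₀, j q = q := fun q hq => by
    show hi (g₁ q) = q
    rw [← hhQ q hq, ehi q (hQ₀P₂ hq)]
  set N₂ := P₂ ⊓ T
  have hN₂T : N₂ ≤ T := inf_le_right
  haveI := finite_of_le hD.le
  have hjE : IsMap E N₂ j := (hj.sub hD).congr fun x _ => by simp
  obtain ⟨z, -, hz, ez⟩ := rigidity hD.grpT hD.satE (le_inf hQ₀P₂ hQ₀T : Q₀ ≤ N₂)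
    (fun x hx q hq => conj_mem_of_mem_normalizer (hP₂N hx.1).2 hq) hc₀ (isMap_id hN₂T) hjE
    fun q hq => (hjQ q hq).symm
  have hzS : z ∈ S := hD.le (hQ₀T hz)
  set j' := scF z⁻¹ ∘ j
  have hj' : Gen F E p P₂ j' 1 :=
    (Gen.comp P₂ S j (scF z⁻¹) 1 z⁻¹ hj (Gen.conj S z⁻¹ le_rfl (S.inv_mem hzS))
      fun x hx => (hj.isMap hD).1.mem_S hx).relabel (by simpa using hQ₀T hz)
  have hN₂c : E.IsCentric N₂ := centric_of_le hc₀ (le_inf hQ₀P₂ hQ₀T) hN₂T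
  have hcard : Nat.card Q₀ < Nat.card N₂ := by
    haveI := finite_of_le hN₂T
    have h1 : img N ω ≤ N₂ := le_inf (img_mono le_sup_right ω)
      (IsMap.img_le_iff.mpr fun x hx =>
        stronglyClosed_apply hD.sc hωm (hP₁N ((hNP₁ hx).1)) (hNP₁ hx).2)
    refine lt_of_lt_of_le ?_ (Subgroup.card_le_of_le h1)
    rw [(hωm.mono ((le_sup_right : N ≤ P₁).trans hP₁N)).card_img, ← htri,
      (hωm.mono hQN).card_img]
    haveI := finite_of_le ((inf_le_left : N ≤ P ⊓ T).trans (inf_le_left.trans hP))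
    exact card_lt_of_lt hQN'
  obtain ⟨z', hz', hz'c, ez'⟩ := hrig P₂ j' hN₂c hcard hj' fun x hx => by
    show z⁻¹ * j x * z⁻¹⁻¹ = x
    rw [ez x hx]
    simp [mul_assoc]
  have hz'Q : z' ∈ Q₀ := hc₀.2 Q₀ (isConj_refl hQ₀T)
    (Fusion.mem_centralizerIn.mpr ⟨hz'.2, fun q hq => hz'c q ⟨hQ₀P₂ hq, hQ₀T hq⟩⟩)
  set w := z * z'
  have hw : w ∈ Q₀ := Q₀.mul_mem hz hz'Q
  have hg₁e : ∀ x ∈ P₂, g₁ x = h (w * x * w⁻¹) := fun x hx => by
    have h1 : hi (g₁ x) = w * x * w⁻¹ := by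
      have h2 : z⁻¹ * hi (g₁ x) * z⁻¹⁻¹ = z' * x * z'⁻¹ := ez' x hx
      rw [show hi (g₁ x) = z * (z⁻¹ * hi (g₁ x) * z⁻¹⁻¹) * z⁻¹ by group, h2]
      simp only [w]
      group
    obtain ⟨y, hy, e⟩ := hhm.mem_img.mp (hin x hx)
    rw [← h1, ← e, ehi y hy]
  refine ⟨emb ι r * (m * emb ι w), r, hr, ?_, ?_, fun x hx => ?_⟩
  · exact hMod.norM.conj_mem _ (M.mul_mem hm ((hMod.mem w (hQ₀N hw)).mpr (hQ₀T hw))) _
  · rwa [show l' * s * l⁻¹ = σ from mul_assoc _ _ _]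
  · have hx₁ : x ∈ P₁ := Subgroup.mem_sup_left hx
    have hx₂ : ω x ∈ P₂ := IsMap.apply_mem_img hx₁
    have hwx : w * ω x * w⁻¹ ∈ P₂ := P₂.mul_mem (P₂.mul_mem (hQ₀P₂ hw) hx₂) (P₂.inv_mem (hQ₀P₂ hw))
    have hge : g (ω x) = r * g₁ (ω x) * r⁻¹ := by
      simp only [g₁, scF, Function.comp_apply]
      group
    show emb ι (ω' (f x)) = emb ι r * (m * emb ι w) * emb ι (ω x) * (emb ι r * (m * emb ι w))⁻¹
    rw [← hgω x hx₁, hge, emb_conj hr (hg₁N _ hx₂), hg₁e _ hx₂, (eh _ hwx).2,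
      emb_conj (hQ₀N hw) (hP₂N hx₂)]
    group

/-- A generator with the same part in `T`. -/
theorem loop_prim (hD : Setup F E p) (hc₀ : E.IsCentric Q₀) (hrep : IsRep S E Q₀)
    (hMod : Mod F E p Q₀ ι M) {P : Subgroup Ω} {γ : MulAut P} (hγ : IsPrim F E p P γ)
    (hch : ch S E (P ⊓ T) = Q₀) : IsLoop hD ι M P (autFun γ) 1 := by
  haveI := hMod.norM
  set Q := P ⊓ T with hQ
  have hQT : Q ≤ T := inf_le_right
  have hQS := hQT.trans hD.le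
  haveI := finite_of_le hQS
  have hQN : Q ≤ normalizerIn S Q := le_normalizerIn hQS
  have hPN : P ≤ normalizerIn S Q := fun x hx => ⟨hγ.le hx, mem_normalizer_of_maps_finite
    fun q hq => ⟨P.mul_mem (P.mul_mem hx hq.1) (P.inv_mem hx), hD.conjT (hγ.le hx) hq.2⟩⟩
  have hi : img Q (autFun γ) = Q :=
    img_eq_of_apply hγ.isMap inf_le_left fun x hx => ⟨autFun_mem γ hx.1, hγ.sub.mem_S hx⟩
  obtain ⟨htr, htri, -⟩ := tr_spec hD hQT
  rw [hch] at htri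
  obtain ⟨hωm, -⟩ := htr.isMap hD
  set ω := tr hD Q
  have hωP : IsMap F P ω := hωm.mono hPN
  set P₂ := img P ω with hP₂
  have hP₂Q : P₂ ⊓ T = Q₀ := by rw [← img_inf_stronglyClosed hD.sc hωP]; exact htri
  have hP₂N : P₂ ≤ normalizerIn S Q₀ :=
    IsMap.img_le_iff.mpr fun x hx => htri ▸ hωm.mem_normalizerIn hQN (hPN hx) (hPN hx).2
  have hγ' := hγ.transport hD hωP hP₂.symm
  set γ' := MulAut.congr (hωP.equiv hP₂.symm) γ
  have hQ₀P₂ : Q₀ ≤ P₂ := hP₂Q ▸ inf_le_left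
  have hQ₀T := hc₀.1
  have hQ₀N := le_normalizerIn (S := S) (hQ₀T.trans hD.le)
  have hst : ∀ x ∈ Q₀, autFun γ' x ∈ Q₀ := fun x hx => by
    rw [← hP₂Q] at hx ⊢
    exact ⟨autFun_mem γ' hx.1, hγ'.sub.mem_S hx⟩
  obtain ⟨α, -, eα, hαd⟩ := exists_restrict hγ'.le hγ'.mem hQ₀P₂ hst
  have hα : α ∈ E.autGroup Q₀ := (isMap_autFun hQ₀T).mp
    ((hγ'.sub.mono hP₂Q.ge).congr fun x hx => eα x hx)
  obtain ⟨m, hm, em⟩ := hMod.surj α hα
  obtain ⟨e, he, he1⟩ := NormCent.exists_coprime_power m (hγ'.cop.coprime_dvd_left hαd)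
  set m' := m ^ e
  have hm' : m' ∈ M := M.pow_mem hm e
  have hem : ∀ n : ℕ, ∀ q ∈ Q₀, m ^ n * emb ι q * (m ^ n)⁻¹ = emb ι (autFun (α ^ n) q) := by
    intro n
    induction n with
    | zero => intro q hq; rw [pow_zero, pow_zero, autFun_one hq]; group
    | succ n ih =>
      intro q hq
      rw [pow_succ, show m ^ n * m * emb ι q * (m ^ n * m)⁻¹ =
        m ^ n * (m * emb ι q * m⁻¹) * (m ^ n)⁻¹ by group, em q hq, ih _ (autFun_mem α hq),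
        pow_succ, autFun_mul _ _ hq]
  have hαe : α ^ e = α := by
    conv_rhs => rw [← pow_one α]
    exact pow_eq_pow_iff_modEq.mpr he1
  have em' : ∀ q ∈ Q₀, m' * emb ι q * m'⁻¹ = emb ι (autFun γ' q) := fun q hq => by
    rw [← eα q hq]
    conv_rhs => rw [← hαe]
    exact hem e q hq
  obtain ⟨γ'', hγ'', eγ''⟩ := hMod.exists_prim hD hc₀ hrep.full hP₂N hQ₀P₂ hm' he fun x hx => by
    have hxN := hP₂N hx
    have hγx := hP₂N (autFun_mem γ' hx)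
    obtain ⟨z, hz, ez⟩ := hMod.cent ((emb ι (autFun γ' x))⁻¹ * (m' * emb ι x * m'⁻¹)) (by
      rw [show (emb ι (autFun γ' x))⁻¹ * (m' * emb ι x * m'⁻¹) = ((emb ι (autFun γ' x))⁻¹ *
        emb ι x) * ((emb ι x)⁻¹ * m' * emb ι x) * m'⁻¹ by group, ← emb_inv hγx,
        ← emb_mul ((normalizerIn S Q₀).inv_mem hγx) hxN]
      refine M.mul_mem (M.mul_mem ((hMod.mem _ ((normalizerIn S Q₀).mul_mem
        ((normalizerIn S Q₀).inv_mem hγx) hxN)).mpr ?_) ?_) (M.inv_mem hm')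
      · simpa using T.inv_mem (hγ'.shift x hx)
      · simpa using hMod.norM.conj_mem _ hm' (emb ι x)⁻¹) fun q hq => by
      obtain ⟨q₁, hq₁, rfl⟩ : ∃ u ∈ Q₀, autFun γ' u = q := by
        refine ⟨autFun α⁻¹ q, autFun_mem _ hq, ?_⟩
        rw [← eα _ (autFun_mem _ hq), autFun_inv_apply α hq]
      have hxq := conj_mem_of_mem_normalizer hxN.2 hq₁
      have h1 : m' * (emb ι x * emb ι q₁ * (emb ι x)⁻¹) * m'⁻¹ =
          emb ι (autFun γ' x) * emb ι (autFun γ' q₁) * (emb ι (autFun γ' x))⁻¹ := by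
        rw [← emb_conj hxN (hQ₀N hq₁), em' _ hxq, hγ'.isMap.map_conj hx (hQ₀P₂ hq₁),
          emb_conj hγx (hQ₀N (hst q₁ hq₁))]
      rw [← em' q₁ hq₁] at h1 ⊢
      calc (emb ι (autFun γ' x))⁻¹ * (m' * emb ι x * m'⁻¹) * (m' * emb ι q₁ * m'⁻¹) *
            ((emb ι (autFun γ' x))⁻¹ * (m' * emb ι x * m'⁻¹))⁻¹
          = (emb ι (autFun γ' x))⁻¹ * (m' * (emb ι x * emb ι q₁ * (emb ι x)⁻¹) * m'⁻¹) *
              emb ι (autFun γ' x) := by group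
        _ = m' * emb ι q₁ * m'⁻¹ := by rw [h1]; group
    refine ⟨autFun γ' x * z, P₂.mul_mem (autFun_mem γ' hx) (hQ₀P₂ hz), ?_⟩
    rw [emb_mul hγx (hQ₀N hz), ez]
    group
  obtain ⟨z, hz, -, ez⟩ := prim_unique hD hγ'' hγ' fun q hq => by
    have hq' : q ∈ Q₀ := hP₂Q.le hq
    exact emb_inj hMod.inj (hP₂N (autFun_mem γ' hq.1)) (hP₂N (autFun_mem γ'' hq.1))
      (by rw [eγ'' q hq.1, em' q hq'])
  have hzQ : z ∈ Q₀ := hP₂Q.le hz
  refine ⟨m' * emb ι z, 1, Subgroup.one_mem _, ?_, ?_, fun x hx => ?_⟩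
  · rw [show emb ι (1 : Ω) = 1 from (emb_eq (Subgroup.one_mem _)).trans (map_one ι), inv_one,
      mul_one]
    exact M.mul_mem hm' ((hMod.mem z (hQ₀N hzQ)).mpr (hQ₀T hzQ))
  · show (1 : Ω)⁻¹ * (lab hD (img Q (autFun γ)) * 1 * (lab hD Q)⁻¹) ∈ T
    rw [hi]
    simp
  · show emb ι (tr hD (img Q (autFun γ)) (autFun γ x)) =
      m' * emb ι z * emb ι (ω x) * (m' * emb ι z)⁻¹
    rw [hi, show tr hD Q (autFun γ x) = ω (autFun γ x) from rfl]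
    have hωx : ω x ∈ P₂ := IsMap.apply_mem_img hx
    have hzx : z * ω x * z⁻¹ ∈ P₂ := P₂.mul_mem (P₂.mul_mem hz.1 hωx) (P₂.inv_mem hz.1)
    rw [← congr_equiv_spec hωP hP₂.symm γ hx, ez _ hωx, eγ'' _ hzx,
      emb_conj (hQ₀N hzQ) (hP₂N hωx)]
    group

/-- All generated maps are loops. -/
theorem loop_of_gen (hD : Setup F E p) (hc₀ : E.IsCentric Q₀) (hrep : IsRep S E Q₀)
    (hMod : Mod F E p Q₀ ι M) (hrig : Rigid F E p (Nat.card Q₀)) {P : Subgroup Ω} {f : Ω → Ω}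
    {s : Ω} (hf : Gen F E p P f s) :
    ∀ P₀ : Subgroup Ω, P₀ ≤ P → E.IsCentric (P₀ ⊓ T) → ch S E (P₀ ⊓ T) = Q₀ →
      IsLoop hD ι M P₀ f s := by
  haveI := hMod.norM
  haveI := finite_of_le hD.le
  induction hf with
  | conj P s hP hs =>
    intro P₀ hP₀ hQc hch
    rcases eq_or_ne (P₀ ⊓ T) T with hT | hne
    · rw [hT, ch_top hD] at hch
      subst hch
      obtain ⟨-, -, htop⟩ := tr_spec hD (le_rfl : T ≤ T)
      obtain ⟨hid, hl⟩ := htop (ch_top hD)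
      have hsN : s ∈ normalizerIn S T := ⟨hs, hD.normalizes hs⟩
      have hi : img T (scF s) = T :=
        img_eq_of_apply (isMap_conj (F := F) hD.le hs) le_rfl fun x hx => hD.conjT hs hx
      refine ⟨emb ι s, s, hsN, by simp, ?_, fun x hx => ?_⟩
      · rw [hT, hi, hl]
        simp
      · rw [hT, hi, hid, hid]
        have hxN : x ∈ normalizerIn S T := ⟨hP (hP₀ hx), hD.normalizes (hP (hP₀ hx))⟩
        exact emb_conj hsN hxN
    · have hP₀S := hP₀.trans hP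
      haveI := finite_of_le (inf_le_left.trans hP₀S : P₀ ⊓ T ≤ S)
      have hle : P₀ ≤ normalizerIn S (P₀ ⊓ T) := fun x hx => ⟨hP₀S hx,
        mem_normalizer_of_maps_finite fun q hq =>
          ⟨P₀.mul_mem (P₀.mul_mem hx hq.1) (P₀.inv_mem hx), hD.conjT (hP₀S hx) hq.2⟩⟩
      refine loop_big hD hc₀ hrep hMod hrig
        (Gen.conj (normalizerIn S (P₀ ⊓ T)) s inf_le_left hs) hle hch ?_
      refine lt_of_lt_of_le (lt_normalizerIn hD.grpT (lt_of_le_of_ne inf_le_right hne)) ?_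
      exact fun x hx => ⟨⟨hD.le hx.1, hx.2⟩, hx.1⟩
  | prim P γ hγ =>
    intro P₀ hP₀ hQc hch
    rcases (inf_le_inf_right T hP₀).eq_or_lt with heq | hlt
    · have hst : ∀ x ∈ P₀, autFun γ x ∈ P₀ := fun x hx => by
        have h1 : x⁻¹ * autFun γ x ∈ P ⊓ T :=
          ⟨P.mul_mem (P.inv_mem (hP₀ hx)) (autFun_mem γ (hP₀ hx)), hγ.shift x (hP₀ hx)⟩
        rw [← heq] at h1
        have := P₀.mul_mem hx h1.1
        rwa [mul_inv_cancel_left] at this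
      obtain ⟨β, hβ, eβ⟩ := hγ.restrict hP₀ hst hQc
      obtain ⟨g, r, hr, h1, h2, h3⟩ := loop_prim hD hc₀ hrep hMod hβ hch
      have hi : img (P₀ ⊓ T) (autFun γ) = img (P₀ ⊓ T) (autFun β) :=
        img_congr fun x hx => (eβ x hx.1).symm
      refine ⟨g, r, hr, h1, by rwa [hi], fun x hx => ?_⟩
      rw [hi, ← eβ x hx]
      exact h3 x hx
    · exact loop_big hD hc₀ hrep hMod hrig (Gen.prim P γ hγ) hP₀ hch hlt
  | comp P Q f g s t hf hg hfQ ih ih' =>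
    intro P₀ hP₀ hQc hch
    obtain ⟨hfm, -⟩ := hf.isMap hD
    have hf₀ : IsMap F P₀ f := hfm.mono hP₀
    have hiT : img (P₀ ⊓ T) f = img P₀ f ⊓ T := img_inf_stronglyClosed hD.sc hf₀
    obtain ⟨g₁, r₁, hr₁, hm₁, hl₁, e₁⟩ := ih P₀ hP₀ hQc hch
    obtain ⟨g₂, r₂, hr₂, hm₂, hl₂, e₂⟩ := ih' (img P₀ f)
      (IsMap.img_le_iff.mpr fun x hx => hfQ x (hP₀ hx))
      (hiT ▸ CharSub.centricT_img hD.inv hQc (hf₀.mono inf_le_left))
      (by rw [← hiT, ← hD.ch_eq (hf.orb hD (inf_le_inf_right T hP₀)), hch])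
    rw [← hiT] at hl₂ e₂
    have hcomp : img (img (P₀ ⊓ T) f) g = img (P₀ ⊓ T) (g ∘ f) := by
      refine (img_comp (hf₀.mono inf_le_left) ((hg.isMap hD).1.mono ?_)).symm
      exact IsMap.img_le_iff.mpr fun x hx => hfQ x (hP₀ hx.1)
    rw [hcomp] at hl₂ e₂
    refine ⟨g₂ * g₁, r₂ * r₁, (normalizerIn S Q₀).mul_mem hr₂ hr₁, ?_, ?_, fun x hx => ?_⟩
    · rw [emb_mul hr₂ hr₁, show g₂ * g₁ * (emb ι r₂ * emb ι r₁)⁻¹ =
        g₂ * (g₁ * (emb ι r₁)⁻¹) * g₂⁻¹ * (g₂ * (emb ι r₂)⁻¹) by group]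
      exact M.mul_mem (hMod.norM.conj_mem _ hm₁ g₂) hm₂
    · have := T.mul_mem (hD.conjT' hr₁.1 hl₂) hl₁
      refine Eq.mp (congrArg (· ∈ T) ?_) this
      group
    · show emb ι (tr hD _ (g (f x))) = _
      rw [e₂ _ (IsMap.apply_mem_img hx), e₁ x hx]
      group
  | weak P R f f' s s' hf hR e hss ih =>
    intro P₀ hP₀ hQc hch
    obtain ⟨g, r, hr, h1, h2, h3⟩ := ih P₀ (hP₀.trans hR) hQc hch
    have hi : img (P₀ ⊓ T) f' = img (P₀ ⊓ T) f := img_congr fun x hx => e x (hP₀ hx.1)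
    refine ⟨g, r, hr, h1, ?_, fun x hx => ?_⟩
    · have hQT : P₀ ⊓ T ≤ T := inf_le_right
      have hl := ((tr_spec hD hQT).1.isMap hD).2
      have := T.mul_mem h2 (hD.conjT hl hss)
      rw [hi]
      refine Eq.mp (congrArg (· ∈ T) ?_) this
      group
    · rw [hi, e x (hP₀ hx)]
      exact h3 x hx

omit ι M [Finite G] in
/-- Rigidity at every level. -/
theorem rigid_all (hD : Setup F E p) : ∀ k, Rigid F E p k := by
  haveI := finite_of_le hD.le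
  suffices ∀ (n k : ℕ), Nat.card T - k = n → Rigid F E p k from fun k => this _ k rfl
  intro n
  induction n using Nat.strong_induction_on with
  | _ n ih =>
    intro k hk P f hQc hlt hf hfix
    obtain ⟨hc₀, hrep, hcard⟩ := ch_centric hD hQc
    have hle : Nat.card (P ⊓ T : Subgroup Ω) ≤ Nat.card T :=
      Subgroup.card_le_of_le inf_le_right
    refine rigid_of_loop hD hQc hf hfix fun G _ _ ι M hMod =>
      loop_of_gen hD hc₀ hrep hMod ?_ hf P le_rfl hQc rfl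
    exact ih _ (by omega) _ rfl

omit ι M [Finite G] in
/-- A generated map with trivial label fixing its centric part in `T` is inner. -/
theorem rigid_gen (hD : Setup F E p) {P : Subgroup Ω} {f : Ω → Ω} (hQc : E.IsCentric (P ⊓ T))
    (hf : Gen F E p P f 1) (hfix : ∀ q ∈ P ⊓ T, f q = q) :
    ∃ z ∈ P ⊓ T, (∀ q ∈ P ⊓ T, z * q * z⁻¹ = q) ∧ ∀ x ∈ P, f x = z * x * z⁻¹ := by
  refine rigid_all hD 0 P f hQc ?_ hf hfix
  haveI := finite_of_le (inf_le_right.trans hD.le : P ⊓ T ≤ S)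
  exact Nat.card_pos

/-- Generated maps are loops at every representative. -/
theorem loop_gen (hD : Setup F E p) (hc₀ : E.IsCentric Q₀) (hrep : IsRep S E Q₀)
    (hMod : Mod F E p Q₀ ι M) {P : Subgroup Ω} {f : Ω → Ω} {s : Ω} (hf : Gen F E p P f s)
    (hQc : E.IsCentric (P ⊓ T)) (hch : ch S E (P ⊓ T) = Q₀) : IsLoop hD ι M P f s :=
  loop_of_gen hD hc₀ hrep hMod (rigid_all hD _) hf P le_rfl hQc hch

end Cfsg.Lib.Fusion.Product
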