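import Cfsg.Agent.Fusion.Product.Lifts
import Cfsg.Agent.Fusion.NormalCentralizer.Admissible

/-!
Models at centric subgroups fully normalized in the normal subsystem.
-/

set_option autoImplicit false
set_option linter.unusedSectionVars false
set_option linter.style.haveILetI false

namespace Cfsg.Lib.Fusion.Product

open Cfsg Cfsg.FusionSystem Cfsg.Lib.Fusion Cfsg.Lib.Fusion.SmallCent

universe u

variable {Ω : Type u} [Group Ω] {S T : Subgroup Ω} {F : FusionSystem S} {E : FusionSystem T}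
  {p : ℕ} {Q : Subgroup Ω}

/-- A model at `Q`: the lifts `M` of the subsystem extended by the normalizer in `S`. -/
structure Mod (F : FusionSystem S) (E : FusionSystem T) (p : ℕ) (Q : Subgroup Ω) {G : Type u}
    [Group G] (ι : normalizerIn S Q →* G) (M : Subgroup G) : Prop where
  inj : Function.Injective ι
  norM : M.Normal
  top : M ⊔ ι.range = ⊤
  mem : ∀ s ∈ normalizerIn S Q, emb ι s ∈ M ↔ s ∈ T
  syl : ¬ p ∣ ι.range.index
  onQ : ∀ m ∈ M, ∃ α ∈ E.autGroup Q, ∀ q ∈ Q, m * emb ι q * m⁻¹ = emb ι (autFun α q)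
  surj : ∀ α ∈ E.autGroup Q, ∃ m ∈ M, ∀ q ∈ Q, m * emb ι q * m⁻¹ = emb ι (autFun α q)
  cent : ∀ m ∈ M, (∀ q ∈ Q, m * emb ι q * m⁻¹ = emb ι q) → ∃ z ∈ Q, emb ι z = m
  maps : ∀ P : Subgroup Ω, P ≤ normalizerIn S Q → ∀ g : G,
    (∀ x ∈ P, g * emb ι x * g⁻¹ ∈ ι.range) →
      ∃ φ : Ω → Ω, IsMap F P φ ∧ ∀ x ∈ P, φ x ∈ normalizerIn S Q ∧
        emb ι (φ x) = g * emb ι x * g⁻¹

section

variable {G : Type u} [Group G] {ι : normalizerIn S Q →* G} {M : Subgroup G}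

theorem emb_mem_range {x : Ω} (hx : x ∈ normalizerIn S Q) : emb ι x ∈ ι.range :=
  ⟨⟨x, hx⟩, (emb_eq hx).symm⟩

theorem exists_emb {l : G} (hl : l ∈ ι.range) : ∃ x ∈ normalizerIn S Q, emb ι x = l := by
  obtain ⟨x, rfl⟩ := hl
  exact ⟨x, x.2, (emb_range x).symm⟩

/-- Every element is an element of `M` times one of the normalizer. -/
theorem Mod.decomp (h : Mod F E p Q ι M) (g : G) :
    ∃ m ∈ M, ∃ r ∈ normalizerIn S Q, g = m * emb ι r := by
  haveI := h.norM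
  obtain ⟨m, hm, y, hy, rfl⟩ :=
    Subgroup.mem_sup_of_normal_left.mp (h.top ▸ Subgroup.mem_top g)
  obtain ⟨r, hr, rfl⟩ := exists_emb hy
  exact ⟨m, hm, r, hr, rfl⟩

/-- The model stabilizes `Q`. -/
theorem Mod.stable (h : Mod F E p Q ι M) (hQ : Q ≤ S) (g : G) {q : Ω} (hq : q ∈ Q) :
    ∃ q' ∈ Q, g * emb ι q * g⁻¹ = emb ι q' := by
  obtain ⟨m, hm, r, hr, rfl⟩ := h.decomp g
  obtain ⟨α, -, eα⟩ := h.onQ m hm
  have hq1 := conj_mem_of_mem_normalizer hr.2 hq
  refine ⟨_, autFun_mem α hq1, ?_⟩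
  rw [← eα _ hq1, emb_conj hr (le_normalizerIn hQ hq)]
  group

/-- An element fixing `Q` comes from the normalizer. -/
theorem Mod.cent_range [Finite G] [Finite S] [Fact p.Prime] (hS : IsPGroup p S)
    (h : Mod F E p Q ι M) (hQ : Q ≤ S) {g : G}
    (hg : ∀ q ∈ Q, g * emb ι q * g⁻¹ = emb ι q) :
    ∃ c ∈ centralizerIn S Q, emb ι c = g := by
  haveI := h.norM
  let C : Subgroup G :=
    { carrier := {g | ∀ q ∈ Q, g * emb ι q * g⁻¹ = emb ι q}
      one_mem' := fun q _ => by simp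
      mul_mem' := fun {a b} ha hb q hq => by
        rw [show a * b * emb ι q * (a * b)⁻¹ = a * (b * emb ι q * b⁻¹) * a⁻¹ by group,
          hb q hq, ha q hq]
      inv_mem' := fun {a} ha q hq => by
        calc a⁻¹ * emb ι q * a⁻¹⁻¹ = a⁻¹ * (a * emb ι q * a⁻¹) * a := by rw [ha q hq]; group
          _ = emb ι q := by group }
  haveI hCn : C.Normal := ⟨fun c hc a q hq => by
    obtain ⟨q', hq', e⟩ := h.stable hQ a⁻¹ hq
    rw [inv_inv] at e
    calc a * c * a⁻¹ * emb ι q * (a * c * a⁻¹)⁻¹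
        = a * (c * (a⁻¹ * emb ι q * a) * c⁻¹) * a⁻¹ := by group
      _ = a * (a⁻¹ * emb ι q * a) * a⁻¹ := by rw [e, hc q' hq']
      _ = emb ι q := by group⟩
  have hNp : IsPGroup p (normalizerIn S Q) :=
    hS.of_injective _ (Subgroup.inclusion_injective inf_le_left)
  have hRp : IsPGroup p ι.range := hNp.of_surjective _ (MonoidHom.rangeRestrict_surjective _)
  have hquot : IsPGroup p (G ⧸ M) := by
    refine hNp.of_surjective ((QuotientGroup.mk' M).comp ι) fun x => ?_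
    induction x using QuotientGroup.induction_on with
    | H g =>
      obtain ⟨m, hm, r, hr, rfl⟩ := h.decomp g
      refine ⟨⟨r, hr⟩, ?_⟩
      show (QuotientGroup.mk' M) (ι ⟨r, hr⟩) = _
      rw [← emb_eq hr, QuotientGroup.mk'_apply, QuotientGroup.eq]
      have := h.norM.conj_mem m hm (emb ι r)⁻¹
      rwa [inv_inv, mul_assoc] at this
  have hCp : IsPGroup p C := by
    rintro ⟨c, hc⟩
    obtain ⟨k, hk⟩ := hquot (c : G ⧸ M)
    rw [← QuotientGroup.mk_pow, QuotientGroup.eq_one_iff] at hk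
    obtain ⟨z, hz, ez⟩ := h.cent _ hk (C.pow_mem hc _)
    obtain ⟨j, hj⟩ := hRp ⟨_, emb_mem_range (ι := ι) (le_normalizerIn hQ hz)⟩
    refine ⟨k + j, Subtype.ext ?_⟩
    rw [Subgroup.coe_pow, pow_add, pow_mul, Subgroup.coe_one]
    show (c ^ p ^ k) ^ p ^ j = 1
    rw [← ez]
    exact congrArg Subtype.val hj
  have hle : C ⊔ ι.range = ι.range :=
    (hRp.toSylow h.syl).is_maximal' (hCp.to_sup_of_normal_left hRp) le_sup_right
  obtain ⟨c, hc, rfl⟩ := exists_emb (hle.le (Subgroup.mem_sup_left (show g ∈ C from hg)))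
  refine ⟨c, Fusion.mem_centralizerIn.mpr ⟨hc.1, fun q hq => ?_⟩, rfl⟩
  have hqN := le_normalizerIn hQ hq
  refine emb_inj h.inj ((normalizerIn S Q).mul_mem ((normalizerIn S Q).mul_mem hc hqN)
    ((normalizerIn S Q).inv_mem hc)) hqN ?_
  rw [emb_conj hc hqN, hg q hq]

end

variable [Finite S] [Fact p.Prime]

/-- In the lifts an element fixing `Q` is induced by `Q`. -/
theorem Lifts.cent (hD : Setup F E p) (hQc : E.IsCentric Q) {Λ : Type u} [Group Λ] [Finite Λ]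
    {ι : normalizerIn S (Q ⊔ centralizerIn S Q) →* Λ} {M : Subgroup Λ}
    (h : Lifts F E p Q ι M) {m : Λ} (hm : m ∈ M)
    (hmQ : ∀ q ∈ Q, m * emb ι q * m⁻¹ = emb ι q) : ∃ z ∈ Q, emb ι z = m := by
  have hQT := hQc.1
  have hQS := hQT.trans hD.le
  have hXS : (Q ⊔ centralizerIn S Q) ≤ S := sup_le hQS inf_le_left
  haveI := finite_of_le hXS
  have hQX : Q ≤ (Q ⊔ centralizerIn S Q) := le_sup_left
  have hXN : (Q ⊔ centralizerIn S Q) ≤ (normalizerIn S (Q ⊔ centralizerIn S Q)) := le_normalizerIn hXS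
  have hTN : normalizerIn T Q ≤ (normalizerIn S (Q ⊔ centralizerIn S Q)) :=
    (show normalizerIn T Q ≤ normalizerIn S Q from fun t ht => ⟨hD.le ht.1, ht.2⟩).trans
      (le_normalizerIn_sup hQS)
  let C : Subgroup M :=
    { carrier := {g | ∀ q ∈ Q, (g : Λ) * emb ι q * (g : Λ)⁻¹ = emb ι q}
      one_mem' := fun q _ => by simp
      mul_mem' := fun {a b} ha hb q hq => by
        rw [Subgroup.coe_mul, show (a : Λ) * b * emb ι q * ((a : Λ) * b)⁻¹ =
          a * (b * emb ι q * (b : Λ)⁻¹) * (a : Λ)⁻¹ by group, hb q hq, ha q hq]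
      inv_mem' := fun {a} ha q hq => by
        rw [Subgroup.coe_inv]
        calc (a : Λ)⁻¹ * emb ι q * (a : Λ)⁻¹⁻¹ = (a : Λ)⁻¹ * (a * emb ι q * (a : Λ)⁻¹) * a := by
              rw [ha q hq]; group
          _ = emb ι q := by group }
  haveI hCn : C.Normal := ⟨fun c hc a q hq => by
    obtain ⟨δ, hδ, hrel⟩ := h.loc.act _ (M.inv_mem a.2)
    have e := hrel q (hQX hq)
    rw [inv_inv] at e
    push_cast
    calc (a : Λ) * c * (a : Λ)⁻¹ * emb ι q * ((a : Λ) * c * (a : Λ)⁻¹)⁻¹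
        = a * (c * ((a : Λ)⁻¹ * emb ι q * a) * (c : Λ)⁻¹) * (a : Λ)⁻¹ := by group
      _ = a * ((a : Λ)⁻¹ * emb ι q * a) * (a : Λ)⁻¹ := by rw [← e, hc _ (hδ.map_mem hq)]
      _ = emb ι q := by group⟩
  have hCp : IsPGroup p C := by
    rintro ⟨⟨c, hcM⟩, hc⟩
    obtain ⟨δ, hδ, hrel⟩ := h.loc.act c hcM
    have hfix : ∀ q ∈ Q, autFun δ q = q := fun q hq =>
      emb_inj h.loc.inj (hXN (autFun_mem δ (hQX hq))) (hXN (hQX hq))
        ((hrel q (hQX hq)).trans (hc q hq))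
    have hchain : δ ∈ Small.chainAut F (Q ⊔ centralizerIn S Q) Q hQX := by
      refine ⟨hδ.1, hfix, fun r hr => ?_⟩
      obtain ⟨a, ha, d, hd, rfl⟩ := NormCent.mem_sup_centralizerIn.mp hr
      rw [((isMap_autFun hXS).mpr hδ.1).map_mul (hQX ha) (Subgroup.mem_sup_right hd), hfix a ha,
        show a * autFun δ d * (a * d)⁻¹ = a * (d * (d⁻¹ * autFun δ d) * d⁻¹) * a⁻¹ by group,
        (Fusion.mem_centralizerIn.mp hd).2 _ (hδ.2.2 d hd)]
      exact Q.mul_mem (Q.mul_mem ha (hδ.2.2 d hd)) (Q.inv_mem ha)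
    obtain ⟨k, hk⟩ := Small.isPGroup_chainAut hD.grp hQX hXS ⟨δ, hchain⟩
    have hk' : δ ^ p ^ k = 1 := congrArg Subtype.val hk
    have hcX : c ^ p ^ k ∈ ((Q ⊔ centralizerIn S Q).subgroupOf (normalizerIn S (Q ⊔ centralizerIn S Q))).map ι := by
      refine h.cen (Subgroup.mem_centralizer_iff.mpr ?_)
      rintro _ ⟨x, hx, rfl⟩
      have e := hrel.pow (p ^ k) x hx
      rw [hk', autFun_one (show (x : Ω) ∈ Q ⊔ centralizerIn S Q from hx), eq_mul_inv_iff_mul_eq, ← emb_range] at e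
      exact e
    obtain ⟨x, -, ex⟩ := hcX
    obtain ⟨j, hj⟩ := hD.grp ⟨(x : Ω), x.2.1⟩
    have hxj : x ^ p ^ j = 1 := Subtype.ext (by simpa using congrArg Subtype.val hj)
    refine ⟨k + j, Subtype.ext (Subtype.ext ?_)⟩
    rw [Subgroup.coe_pow, Subgroup.coe_pow]
    show c ^ p ^ (k + j) = 1
    rw [pow_add, pow_mul, ← ex, ← map_pow, hxj, map_one]
  set D := (sub ι (normalizerIn T Q)).subgroupOf M
  have hDp : IsPGroup p D := by
    have : IsPGroup p (sub ι (normalizerIn T Q)) := by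
      haveI := finite_of_le (inf_le_left.trans hD.le : normalizerIn T Q ≤ S)
      exact ((hD.grp.of_injective _ (Subgroup.inclusion_injective
        (inf_le_left.trans hD.le))).comap_of_injective (normalizerIn S (Q ⊔ centralizerIn S Q)).subtype (normalizerIn S (Q ⊔ centralizerIn S Q)).subtype_injective).map ι
    exact this.comap_of_injective _ M.subtype_injective
  have hle : C ⊔ D = D :=
    (hDp.toSylow h.loc.syl).is_maximal' (hCp.to_sup_of_normal_left hDp) le_sup_right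
  obtain ⟨t, ht, e⟩ := (mem_sub hTN).mp
    (hle.le (Subgroup.mem_sup_left (show (⟨m, hm⟩ : M) ∈ C from hmQ)))
  refine ⟨t, hQc.2 Q (isConj_refl hQT) (Fusion.mem_centralizerIn.mpr ⟨ht.1, fun q hq => ?_⟩), e⟩
  refine emb_inj h.loc.inj (hXN (hQX (conj_mem_of_mem_normalizer ht.2 hq))) (hXN (hQX hq)) ?_
  rw [emb_conj (hTN ht) (hXN (hQX hq)), e]
  exact hmQ q hq

/-- The lifts induce all automorphisms in the subsystem. -/
theorem Lifts.surj (hD : Setup F E p) (hQc : E.IsCentric Q) (hQn : F.IsFullyNormalized Q)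
    {Λ : Type u} [Group Λ] [Finite Λ] {ι : normalizerIn S (Q ⊔ centralizerIn S Q) →* Λ}
    {M : Subgroup Λ} (h : Lifts F E p Q ι M) :
    ∀ α ∈ E.autGroup Q, ∃ m ∈ M, ∀ q ∈ Q, m * emb ι q * m⁻¹ = emb ι (autFun α q) := by
  have hQT := hQc.1
  have hQS := hQT.trans hD.le
  let K : Subgroup (MulAut Q) :=
    { carrier := {α | ∃ m ∈ M, ∀ q ∈ Q, m * emb ι q * m⁻¹ = emb ι (autFun α q)}
      one_mem' := ⟨1, M.one_mem, fun q hq => by rw [autFun_one hq]; group⟩
      mul_mem' := fun {a b} ha hb => by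
        obtain ⟨m, hm, e⟩ := ha
        obtain ⟨n, hn, e'⟩ := hb
        refine ⟨m * n, M.mul_mem hm hn, fun q hq => ?_⟩
        rw [show m * n * emb ι q * (m * n)⁻¹ = m * (n * emb ι q * n⁻¹) * m⁻¹ by group, e' q hq,
          e _ (autFun_mem b hq), autFun_mul _ _ hq]
      inv_mem' := fun {a} ha => by
        obtain ⟨m, hm, e⟩ := ha
        refine ⟨m⁻¹, M.inv_mem hm, fun q hq => ?_⟩
        have e1 := e _ (autFun_mem a⁻¹ hq)
        rw [autFun_inv_apply a hq] at e1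
        rw [← e1]
        group }
  have hle : E.autGroup Q ≤ K := by
    refine PPower.autGroup_le_of hD.grp hD.le hD.satE
      (NormCent.fullyNormalized_sub hD.grp hD.sat hD.inv hQT hQn) (fun α hα => ?_) fun α hα hcop => ?_
    · obtain ⟨t, ht, et⟩ := mem_autInducedBy.mp hα
      have htn : t ∈ normalizerIn T Q := ⟨ht, mem_normalizer_of_mem_autInducedBy et⟩
      have hsN : t ∈ normalizerIn S (Q ⊔ centralizerIn S Q) :=
        le_normalizerIn_sup hQS ⟨hD.le ht, htn.2⟩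
      refine ⟨emb ι t, (h.loc.mem t hsN).mpr htn, fun q hq => ?_⟩
      rw [autFun_apply_mem α hq, et,
        emb_conj hsN (le_normalizerIn (sup_le hQS inf_le_left) (Subgroup.mem_sup_left hq))]
    · obtain ⟨hfc, -, -⟩ := fullyNormalized_props hD.grp hD.sat hQn
      obtain ⟨δ, hδ, hδp, hδQ, hδc⟩ := NormCent.exists_coprime_lift
        (NormCent.lift_of_fullyCentralized hD.grp hD.nor hQc hfc hα) hcop
      obtain ⟨m, hm, hrel⟩ := h.loc.lift δ ⟨hδ, ⟨α, hα, hδQ⟩, hδc⟩ hδp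
      exact ⟨m, hm, fun q hq => by rw [← hrel q (Subgroup.mem_sup_left hq), hδQ q hq]⟩
  exact fun α hα => hle hα

set_option maxHeartbeats 800000 in
/-- Models exist at centric subgroups fully normalized in the subsystem. -/
theorem exists_mod (hD : Setup F E p) (hQc : E.IsCentric Q) (hQn : E.IsFullyNormalized Q) :
    ∃ (G : Type u) (_ : Group G) (_ : Finite G) (ι : normalizerIn S Q →* G) (M : Subgroup G),
      Mod F E p Q ι M := by
  have hQT := hQc.1
  have hQS := hQT.trans hD.le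
  obtain ⟨W, g, hg, hgi, hgN, hWn, hXn⟩ := exists_good_conj hD.grp hD.sat hQS
  set N₀ := normalizerIn S Q
  have hQN₀ : Q ≤ N₀ := le_normalizerIn hQS
  have hgQ : IsMap F Q g := hg.mono hQN₀
  have hWc : E.IsCentric W := hgi ▸ CharSub.centricT_img hD.inv hQc hgQ
  have hWT := hWc.1
  have hWS := hWT.trans hD.le
  set X := W ⊔ centralizerIn S W
  set N := normalizerIn S X with hN
  obtain ⟨Λ, _, _, ι₀, M₀, hL⟩ := exists_lifts hD.grp hD.nor hWc hWn hXn
  have hWN : normalizerIn S W ≤ N := le_normalizerIn_sup hWS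
  have hgN' : ∀ x : N₀, g x ∈ N := fun x => hWN (hgN x x.2)
  let ψ : N₀ →* N :=
    MonoidHom.mk' (fun x => ⟨g x, hgN' x⟩) fun a b => Subtype.ext (hg.map_mul a.2 b.2)
  have hψ : Function.Injective ψ := fun a b e =>
    Subtype.ext (hg.injOn a.2 b.2 (congrArg Subtype.val e))
  set ι₁ := ι₀.comp ψ
  have hι₁ : ∀ x : N₀, ι₁ x = emb ι₀ (g x) := fun x => emb_range (ι := ι₀) (ψ x)
  set Γ := M₀ ⊔ ι₁.range
  let ι : N₀ →* Γ := ι₁.codRestrict Γ fun x => Subgroup.mem_sup_right ⟨x, rfl⟩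
  have he : ∀ x ∈ N₀, ((emb ι x : Γ) : Λ) = emb ι₀ (g x) := fun x hx => by
    rw [emb_eq hx]; exact hι₁ ⟨x, hx⟩
  set M := M₀.subgroupOf Γ
  have hΓn : Γ ≤ Subgroup.normalizer (M₀ : Set Λ) := by
    refine sup_le Subgroup.le_normalizer fun l hl => ?_
    obtain ⟨x, rfl⟩ := hl
    rw [hι₁]
    have hxn := hgN x x.2
    refine mem_normalizer_of_maps_finite fun m hm => hL.nor _ hxn m hm
  haveI hMn : M.Normal := Subgroup.normal_subgroupOf_of_le_normalizer hΓn
  -- the part inside `T`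
  have hTmem : ∀ x ∈ N₀, g x ∈ normalizerIn T W ↔ x ∈ T := fun x hx =>
    ⟨fun h => mem_of_apply_mem_stronglyClosed hD.sc hg hx h.1,
      fun h => ⟨stronglyClosed_apply hD.sc hg hx h, (hgN x hx).2⟩⟩
  have hTN₀ : normalizerIn T Q ≤ N₀ := fun t ht => ⟨hD.le ht.1, ht.2⟩
  have honto : ∀ t ∈ normalizerIn T W, ∃ x ∈ normalizerIn T Q, g x = t := fun t ht =>
    exists_preimage_of_card_le hg hTN₀ (inf_le_left.trans hD.le)
      (fun x hx => (hTmem x (hTN₀ hx)).mpr hx.1) (card_normalizerIn_le hD.inv hQn hgQ hgi) ht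
  -- the inverse map
  obtain ⟨k, hk, -, hkl, -⟩ := hg.exists_inv
  have hkW : IsMap F W k := by
    rw [← hgi]
    exact hk.mono (img_mono hQN₀ g)
  have hkWi : img W k = Q := by
    rw [← hgi]
    refine le_antisymm (IsMap.img_le_iff.mpr fun y hy => ?_) fun x hx => ?_
    · obtain ⟨x, hx, rfl⟩ := hgQ.mem_img.mp hy
      rwa [hkl x (hQN₀ hx)]
    · rw [← hkl x (hQN₀ hx)]
      exact IsMap.apply_mem_img (IsMap.apply_mem_img hx)
  have hgW : ∀ q ∈ Q, g q ∈ W := fun q hq => hgi ▸ IsMap.apply_mem_img hq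
  -- conjugation read through the map
  have hcoe : ∀ (a : Γ), ∀ x ∈ N₀, ∀ y ∈ N₀,
      (a : Λ) * emb ι₀ (g x) * (a : Λ)⁻¹ = emb ι₀ (g y) → a * emb ι x * a⁻¹ = emb ι y :=
    fun a x hx y hy e => Subtype.ext (by push_cast; rw [he x hx, he y hy, e])
  refine ⟨Γ, inferInstance, inferInstance, ι, M, ⟨?_, hMn, ?_, fun s hs => ?_, ?_, fun m hm => ?_,
    fun α hα => ?_, fun m hm hmQ => ?_, fun P hP a ha => ?_⟩⟩
  · intro a b e
    exact hψ (hL.loc.inj (congrArg Subtype.val e))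
  · have hr : ι.range = ι₁.range.subgroupOf Γ := by
      ext x
      constructor
      · rintro ⟨y, rfl⟩; exact ⟨y, rfl⟩
      · rintro ⟨y, hy⟩; exact ⟨y, Subtype.ext hy⟩
    rw [hr, ← Subgroup.subgroupOf_sup le_sup_left le_sup_right, Subgroup.subgroupOf_self]
  · rw [Subgroup.mem_subgroupOf, he s hs, hL.loc.mem _ (hgN' ⟨s, hs⟩), hTmem s hs]
  · set R := ι.range
    have htop : M ⊔ R = ⊤ := by
      have hr : ι.range = ι₁.range.subgroupOf Γ := by
        ext x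
        constructor
        · rintro ⟨y, rfl⟩; exact ⟨y, rfl⟩
        · rintro ⟨y, hy⟩; exact ⟨y, Subtype.ext hy⟩
      rw [show R = _ from hr, ← Subgroup.subgroupOf_sup le_sup_left le_sup_right,
        Subgroup.subgroupOf_self]
    have h1 : (M ⊓ R).relIndex R = M.index := by
      rw [Subgroup.inf_relIndex_right, ← Subgroup.relIndex_sup_left (H := R) (K := M),
        htop, Subgroup.relIndex_top_right]
    have h2 := Subgroup.relIndex_mul_index (inf_le_left : M ⊓ R ≤ M)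
    have h3 := Subgroup.relIndex_mul_index (inf_le_right : M ⊓ R ≤ R)
    rw [h1] at h3
    have h4 : R.index = (M ⊓ R).relIndex M :=
      Nat.eq_of_mul_eq_mul_left (Nat.pos_of_ne_zero (Subgroup.index_ne_zero_of_finite (H := M)))
        (h3.trans (h2.symm.trans (mul_comm _ _)))
    rw [h4]
    intro hdvd
    refine hL.loc.syl (hdvd.trans ?_)
    rw [Subgroup.inf_relIndex_left,
      ← Subgroup.relIndex_subgroupOf (le_sup_left : M₀ ≤ Γ)]
    refine Subgroup.relIndex_dvd_of_le_left M fun x hx => ?_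
    obtain ⟨t, ht, e⟩ := (mem_sub (show normalizerIn T W ≤ N from fun t ht => hWN ⟨hD.le ht.1, ht.2⟩)).mp hx
    obtain ⟨x', hx', rfl⟩ := honto t ht
    exact ⟨⟨x', hTN₀ hx'⟩, Subtype.ext ((hι₁ _).trans e)⟩
  · obtain ⟨δ, hδ, hrel⟩ := hL.loc.act _ hm
    obtain ⟨α, hα, eα⟩ := hδ.2.1
    refine ⟨_, NormCent.congr_mem_sub hD.inv hWT hkW hkWi hα, fun q hq => ?_⟩
    have h1 := congr_equiv_spec hkW hkWi α (hgW q hq)
    rw [hkl q (hQN₀ hq)] at h1
    obtain ⟨q', hq', e⟩ := hgQ.mem_img.mp (hgi.ge (autFun_mem α (hgW q hq)))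
    rw [← e, hkl q' (hQN₀ hq')] at h1
    rw [h1]
    refine hcoe m q (hQN₀ hq) q' (hQN₀ hq') ?_
    have h3 : emb ι₀ (autFun δ (g q)) = (m : Λ) * emb ι₀ (g q) * (m : Λ)⁻¹ :=
      hrel _ (Subgroup.mem_sup_left (hgW q hq))
    rw [← h3, eα _ (hgW q hq), e]
  · obtain ⟨m, hm, e⟩ := hL.surj hD hWc hWn _ (NormCent.congr_mem_sub hD.inv hQT hgQ hgi hα)
    refine ⟨⟨m, Subgroup.mem_sup_left hm⟩, hm, fun q hq => ?_⟩
    refine hcoe _ q (hQN₀ hq) _ (hQN₀ (autFun_mem α hq)) ?_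
    show m * emb ι₀ (g q) * m⁻¹ = _
    rw [e _ (hgW q hq), congr_equiv_spec hgQ hgi α hq]
  · obtain ⟨z, hz, e⟩ := hL.cent hD hWc hm fun w hw => by
      obtain ⟨q, hq, rfl⟩ := hgQ.mem_img.mp (hgi.ge hw)
      have h1 := congrArg Subtype.val (hmQ q hq)
      push_cast at h1
      rwa [he q (hQN₀ hq)] at h1
    obtain ⟨q, hq, rfl⟩ := hgQ.mem_img.mp (hgi.ge hz)
    exact ⟨q, hq, Subtype.ext ((he q (hQN₀ hq)).trans e)⟩
  · have hgP := hg.mono hP
    set P₁ := img P g ⊔ X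
    have hP₁N : P₁ ≤ N :=
      sup_le (IsMap.img_le_iff.mpr fun x hx => hWN (hgN x (hP hx)))
        (le_normalizerIn (sup_le hWS inf_le_left))
    have hconj : ∀ z : N, (z : Ω) ∈ P₁ → (a : Λ) * ι₀ z * (a : Λ)⁻¹ ∈ ι₀.range := by
      intro z hz
      have hsub : P₁.subgroupOf N ≤
          ι₀.range.comap ((MulAut.conj (a : Λ)).toMonoidHom.comp ι₀) := by
        rw [Subgroup.subgroupOf_sup (le_sup_left.trans hP₁N) (le_sup_right.trans hP₁N)]
        refine sup_le (fun v hv => ?_)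
          fun v hv => Subgroup.map_le_range ι₀ _ (hL.normX.conj_mem _ ⟨v, hv, rfl⟩ _)
        obtain ⟨x, hx, e⟩ := hgP.mem_img.mp hv
        obtain ⟨y, hy⟩ := ha x hx
        have h1 := congrArg Subtype.val hy
        push_cast at h1
        rw [he x (hP hx), show g x = (v : Ω) from e, ← emb_range (ι := ι₀)] at h1
        exact ⟨ψ y, h1⟩
      exact hsub hz
    obtain ⟨φ₁, hφ₁, eφ⟩ := hL.maps P₁ le_sup_right hP₁N a hconj
    have hout : ∀ x ∈ P, ∃ y ∈ N₀, φ₁ (g x) = g y ∧ emb ι y = a * emb ι x * a⁻¹ := by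
      intro x hx
      obtain ⟨y, hy⟩ := ha x hx
      refine ⟨y, y.2, (eφ ⟨g x, hgN' ⟨x, hP hx⟩⟩ (Subgroup.mem_sup_left (IsMap.apply_mem_img hx))
        (ψ y) ?_).symm, (emb_range y).symm.trans hy⟩
      have h1 := congrArg Subtype.val hy
      push_cast at h1
      rw [he x (hP hx), emb_eq (hgN' ⟨x, hP hx⟩)] at h1
      exact h1
    have hmem₁ : ∀ x ∈ P, φ₁ (g x) ∈ img N₀ g := fun x hx => by
      obtain ⟨y, hy, e, -⟩ := hout x hx
      rw [e]
      exact IsMap.apply_mem_img hy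
    refine ⟨k ∘ (φ₁ ∘ g), (hgP.comp hφ₁ fun x hx =>
      Subgroup.mem_sup_left (IsMap.apply_mem_img hx)).comp hk hmem₁, fun x hx => ?_⟩
    obtain ⟨y, hy, e, e'⟩ := hout x hx
    simp only [Function.comp_apply]
    rw [e, hkl y hy]
    exact ⟨hy, e'⟩

end Cfsg.Lib.Fusion.Product
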