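import Cfsg.Agent.Fusion.Product.Realize

/-!
Every subgroup of `T` is moved with its normalizer to the representative of its orbit.
-/

set_option autoImplicit false
set_option linter.unusedSectionVars false
set_option linter.style.haveILetI false
set_option maxHeartbeats 400000

namespace Cfsg.Lib.Fusion.Product

open Cfsg Cfsg.FusionSystem Cfsg.Lib.Fusion Cfsg.Lib.Fusion.SmallCent

universe u

variable {Ω : Type u} [Group Ω] {S T : Subgroup Ω} {F : FusionSystem S} {E : FusionSystem T}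
  {p : ℕ} [Finite S] [Fact p.Prime]

/-! ### Preliminaries -/

/-- The maps of the subsystem are generated with trivial label. -/
theorem Gen.of_sub (hD : Setup F E p) {P : Subgroup Ω} {f : Ω → Ω} (hf : IsMap E P f) :
    Gen F E p P f 1 := by
  haveI := finite_of_le hD.le
  have hcls : IsMapClass E (fun P f => Gen F E p P f 1) :=
    { conj := fun P t hP ht => (Gen.conj P t (hP.trans hD.le) (hD.le ht)).relabel (by simpa using ht)
      congr := fun P f f' _ e h => h.congr e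
      mono := fun P R f _ hR h => h.mono hR
      comp := fun P Q f g _ _ hfQ h h' => by simpa using Gen.comp P Q f g 1 1 h h' hfQ
      inv := fun P f g _ _ hl h => by
        obtain ⟨k, hk, ek⟩ := h.exists_inv hD
        rw [inv_one] at hk
        refine hk.congr fun y hy => ?_
        obtain ⟨x, hx, rfl⟩ := (h.isMap hD).1.mem_img.mp hy
        rw [hl x hx, ek x hx] }
  have hgood : ∀ Q, E.IsFullyNormalized Q → E.IsCentric Q → ∀ α ∈ E.autGroup Q,
      Gen F E p Q (autFun α) 1 := by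
    intro Q hQn hQc
    have hQ := hQn.1
    suffices E.autGroup Q ≤ goodAut E _ hcls Q hQ from fun α hα => (this hα).2
    refine PPower.autGroup_le_of hD.grp hD.le hD.satE hQn (autInducedBy_le_good hcls hQ)
      fun α hα hcop => ⟨hα, Gen.prim Q α ⟨hQ.trans hD.le,
        PPower.autGroup_le_of_sub hD.inv.1 hQ hD.le hα, hcop,
        fun x hx => T.mul_mem (T.inv_mem (hQ hx)) (hQ (autFun_mem α hx)), ?_, ?_⟩⟩
    · rwa [inf_eq_left.mpr hQ]
    · exact ((isMap_autFun hQ).mpr hα).mono inf_le_left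
  refine alperin_radical hD.grpT hD.satE hcls (fun g hg => ?_)
    (fun Q _ hQn hQc _ _ α hα => hgood Q hQn hQc α hα) hf
  obtain ⟨α, hα, e⟩ := hg.exists_aut (Subgroup.eq_of_le_of_card_ge hg.img_le hg.card_img.ge)
  exact hcls.congr T _ g ((isMap_autFun le_rfl).mpr hα) (fun x hx => (e x hx).symm)
    (hgood T ⟨le_rfl, fun Q hQ => by
      obtain ⟨f, hf, rfl⟩ := isConj_iff.mp hQ
      rw [Subgroup.eq_of_le_of_card_ge hf.img_le hf.card_img.ge]⟩
      (CharSub.centric_top hD.inv) α hα)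

/-- Automorphisms in the subsystem induced by `S` are induced by `T`. -/
theorem mem_autInducedBy_sub (hD : Setup F E p) {U : Subgroup Ω} (hUn : E.IsFullyNormalized U)
    {α : MulAut U} (hα : α ∈ E.autGroup U) (hαS : α ∈ autInducedBy S U) :
    α ∈ autInducedBy T U := by
  haveI := finite_of_le hD.le
  haveI := finite_of_le hUn.1
  haveI := NormCent.finite_mulAut U
  obtain ⟨-, P, hP⟩ := (fullyNormalized_props hD.grpT hD.satE hUn).2.1
  have hI : IsPGroup p ((autInducedBy S U).subgroupOf (E.autGroup U)) :=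
    (isPGroup_autInducedBy hD.grp U).comap_of_injective _ (Subgroup.subtype_injective _)
  have heq := P.3 hI (hP.le.trans (Subgroup.comap_mono (autInducedBy_mono hD.le)))
  show (⟨α, hα⟩ : E.autGroup U) ∈ (autInducedBy T U).subgroupOf (E.autGroup U)
  rw [← hP, ← heq]
  exact hαS

/-- The normalizer of a conjugate. -/
theorem normalizerIn_img_scF (hD : Setup F E p) (U : Subgroup Ω) {s : Ω} (hs : s ∈ S) :
    normalizerIn T (img U (scF s)) = img (normalizerIn T U) (scF s) := by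
  ext y
  rw [mem_img_scF]
  constructor
  · rintro ⟨hy, hn⟩
    refine ⟨hD.conjT' hs hy, ?_⟩
    show s⁻¹ * y * s ∈ Subgroup.normalizer (U : Set Ω)
    rw [Subgroup.mem_normalizer_iff]
    intro x
    have h := Subgroup.mem_normalizer_iff.mp hn (s * x * s⁻¹)
    rw [mem_img_scF, mem_img_scF] at h
    rw [show s⁻¹ * (s * x * s⁻¹) * s = x by group] at h
    rw [show s⁻¹ * y * s * x * (s⁻¹ * y * s)⁻¹ = s⁻¹ * (y * (s * x * s⁻¹) * y⁻¹) * s by group]
    exact h
  · rintro ⟨hy, hn⟩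
    refine ⟨by simpa [mul_assoc] using hD.conjT hs hy, ?_⟩
    show y ∈ Subgroup.normalizer (img U (scF s) : Set Ω)
    rw [Subgroup.mem_normalizer_iff]
    intro x
    rw [mem_img_scF, mem_img_scF]
    have h := Subgroup.mem_normalizer_iff.mp hn (s⁻¹ * x * s)
    rw [show s⁻¹ * y * s * (s⁻¹ * x * s) * (s⁻¹ * y * s)⁻¹ = s⁻¹ * (y * x * y⁻¹) * s by group] at h
    exact h

theorem full_conj (hD : Setup F E p) {U : Subgroup Ω} (hU : E.IsFullyNormalized U) {s : Ω}
    (hs : s ∈ S) : E.IsFullyNormalized (img U (scF s)) := by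
  refine ⟨hD.img_le_T hU.1 hs, fun R hR => ?_⟩
  have h := hD.isConjE hR (S.inv_mem hs)
  rw [img_scF_scF, inv_mul_cancel, img_scF_one] at h
  have h1 := hU.2 _ h
  rw [normalizerIn_img_scF hD R (S.inv_mem hs), card_img_scF] at h1
  rwa [normalizerIn_img_scF hD U hs, card_img_scF]

theorem full_of_card {U U' : Subgroup Ω} (hU : E.IsFullyNormalized U) (h : E.IsConj U U')
    (hc : Nat.card (normalizerIn T U) ≤ Nat.card (normalizerIn T U')) :
    E.IsFullyNormalized U' :=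
  ⟨(isConj_le h).2, fun R hR => (hU.2 R (isConj_trans h hR)).trans hc⟩

/-- Fully normalized subgroups of one class are moved with their normalizers. -/
theorem exists_full_map (hD : Setup F E p) {A B : Subgroup Ω} (hA : E.IsFullyNormalized A)
    (hB : E.IsFullyNormalized B) (h : E.IsConj A B) :
    ∃ e, IsMap E (normalizerIn T A) e ∧ img A e = B ∧
      img (normalizerIn T A) e = normalizerIn T B := by
  haveI := finite_of_le hD.le
  obtain ⟨f₀, hf₀, hi₀⟩ := isConj_iff.mp h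
  obtain ⟨-, hfa, hrec⟩ := fullyNormalized_props hD.grpT hD.satE hB
  obtain ⟨-, -, e, he, hei, -, heN⟩ := exists_map_normalizer hD.grpT hfa hrec hf₀ hi₀
  refine ⟨e, he, hei, le_antisymm (IsMap.img_le_iff.mpr heN) fun y hy => ?_⟩
  obtain ⟨x, hx, rfl⟩ := exists_preimage_of_card_le he le_rfl inf_le_left heN
    (hA.2 B h) hy
  exact IsMap.apply_mem_img hx

/-- Elements acting on a fully normalized subgroup as a transported conjugation may be chosen in
the same coset of `T`. -/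
theorem exists_witness (hD : Setup F E p) {U : Subgroup Ω} (hUn : E.IsFullyNormalized U)
    {a : MulAut U} (ha : a ∈ E.autGroup U) {x : Ω} (hx : x ∈ extSub S U (autFun a)) :
    ∃ y ∈ normalizerIn S U, x⁻¹ * y ∈ T ∧
      ∀ u ∈ U, autFun a (x * u * x⁻¹) = y * autFun a u * y⁻¹ := by
  have hUT := hUn.1
  have hUS := hUT.trans hD.le
  haveI := finite_of_le hUS
  obtain ⟨hxS, hxn, y, hy, ey⟩ := mem_extSub.mp hx
  have hyn : y ∈ Subgroup.normalizer (U : Set Ω) := mem_normalizer_of_maps_finite fun u hu => by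
    rw [← autFun_inv_apply a hu, ← ey _ (autFun_mem _ hu)]
    exact autFun_mem a (conj_mem_of_mem_normalizer hxn (autFun_mem _ hu))
  have hzn : y * x⁻¹ ∈ Subgroup.normalizer (U : Set Ω) :=
    Subgroup.mul_mem _ hyn (Subgroup.inv_mem _ hxn)
  set cx := conjAut U x hxn
  have hcx : cx ∈ F.autGroup U := autInducedBy_le hUS (conjAut_mem_autInducedBy hxn hxS)
  have hE : conjAut U (y * x⁻¹) hzn ∈ E.autGroup U := by
    suffices conjAut U (y * x⁻¹) hzn = a * (cx * a⁻¹ * cx⁻¹) from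
      this ▸ Subgroup.mul_mem _ ha (PPower.conj_mem_autGroup hD.inv hUT hcx (Subgroup.inv_mem _ ha))
    refine MulEquiv.ext fun u => Subtype.ext ?_
    have h1 : autFun cx⁻¹ (u : Ω) = x⁻¹ * u * x := by
      have hm : x⁻¹ * (u : Ω) * x ∈ U := by
        simpa using conj_mem_of_mem_normalizer (Subgroup.inv_mem _ hxn) u.2
      have h := autFun_inv_apply' cx hm
      rwa [autFun_apply_mem cx hm, conjAut_apply,
        show x * (x⁻¹ * (u : Ω) * x) * x⁻¹ = u by group] at h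
    have hm : x⁻¹ * (u : Ω) * x ∈ U := h1 ▸ autFun_mem _ u.2
    have hm' := autFun_mem a⁻¹ hm
    rw [← autFun_apply (a * (cx * a⁻¹ * cx⁻¹)), autFun_mul _ _ u.2, autFun_mul _ _ u.2,
      autFun_mul _ _ (autFun_mem _ u.2), h1, autFun_apply_mem cx hm', conjAut_apply,
      conjAut_apply, ey _ hm', autFun_inv_apply a hm]
    group
  obtain ⟨t, ht, et⟩ := mem_autInducedBy.mp (mem_autInducedBy_sub hD hUn hE
    (conjAut_mem_autInducedBy hzn (S.mul_mem hy (S.inv_mem hxS))))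
  refine ⟨t * x, ⟨S.mul_mem (hD.le ht) hxS,
    Subgroup.mul_mem _ (mem_normalizer_of_mem_autInducedBy et) hxn⟩, ?_, fun u hu => ?_⟩
  · have := hD.conjT' hxS ht
    rwa [mul_assoc] at this
  · have hm : x * autFun a u * x⁻¹ ∈ U := conj_mem_of_mem_normalizer hxn (autFun_mem a hu)
    have h1 := et ⟨_, hm⟩
    rw [conjAut_apply] at h1
    rw [ey u hu, show t * x * autFun a u * (t * x)⁻¹ = t * (x * autFun a u * x⁻¹) * t⁻¹ by group,
      ← h1]
    group

/-! ### Reaching the representative -/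

/-- The orbit has a representative and the normalizer moves into its normalizer. -/
def Reach (F : FusionSystem S) (E : FusionSystem T) (p : ℕ) (U : Subgroup Ω) : Prop :=
  IsRep S E (ch S E U) ∧ Orb S E U (ch S E U) ∧
    ∃ f s, Gen F E p (normalizerIn S U) f s ∧ img U f = ch S E U

/-- At a representative the automorphisms of the subsystem extend as far as possible. -/
def CanExt (F : FusionSystem S) (E : FusionSystem T) (p : ℕ) (U : Subgroup Ω) : Prop :=
  IsRep S E U → ∀ a ∈ E.autGroup U, ∀ B : Subgroup Ω, U ≤ B → B ≤ extSub S U (autFun a) →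
    ∃ f, Gen F E p B f 1 ∧ ∀ u ∈ U, f u = autFun a u

/-- A map of the subsystem between centric subgroups extends as far as possible. -/
theorem lift_map (hD : Setup F E p) {V : Subgroup Ω} (hV : E.IsCentric V) {e : Ω → Ω}
    (he : IsMap E V e) (hrV : Reach F E p V) (hrV' : Reach F E p (img V e))
    (hext : CanExt F E p (ch S E V)) {B : Subgroup Ω} (hVB : V ≤ B) (hBN : B ≤ normalizerIn S V)
    (hB : ∀ x ∈ B, ∃ y ∈ S, x⁻¹ * y ∈ T ∧ ∀ v ∈ V, e (x * v * x⁻¹) = y * e v * y⁻¹) :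
    ∃ f, Gen F E p B f 1 ∧ ∀ v ∈ V, f v = e v := by
  have hVT := hV.1
  have hVS := hVT.trans hD.le
  obtain ⟨hrep, -, ω, l, hω, hωi⟩ := hrV
  obtain ⟨-, -, ω', l', hω', hω'i⟩ := hrV'
  have hchV : ch S E (img V e) = ch S E V :=
    (hD.ch_eq (orb_of_isConj (isConj_iff.mpr ⟨e, he, rfl⟩))).symm
  rw [hchV] at hω'i
  set V' := img V e
  set Vs := ch S E V
  have hV'T : V' ≤ T := he.img_le
  have hV'S := hV'T.trans hD.le
  haveI := finite_of_le hV'S
  have hVN := le_normalizerIn hVS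
  have hV'N := le_normalizerIn hV'S
  obtain ⟨hωm, hl⟩ := hω.isMap hD
  obtain ⟨hω'm, hl'⟩ := hω'.isMap hD
  -- the coset
  have hσ : E.IsConj Vs (img Vs (scF (l' * l⁻¹))) := by
    have h1 : E.IsConj (img V (scF l)) Vs := hωi ▸ hω.isConj hD (le_inf hVN hVT)
    have h2 : E.IsConj (img V' (scF l')) Vs := hω'i ▸ hω'.isConj hD (le_inf hV'N hV'T)
    have h3 := hD.isConjE (isConj_iff.mpr ⟨e, he, rfl⟩ : E.IsConj V V') hl'
    have h4 := hD.isConjE h1 (S.mul_mem hl' (S.inv_mem hl))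
    rw [img_scF_scF, show l' * l⁻¹ * l = l' by group] at h4
    exact isConj_trans (isConj_symm (isConj_trans h3 h2)) h4
  obtain ⟨r, hr, hrσ⟩ := hrep.coset _ (S.mul_mem hl' (S.inv_mem hl)) hσ
  obtain ⟨ωi, hωg, eωi⟩ := hω.exists_inv hD
  have hVsimg : Vs ≤ img (normalizerIn S V) ω := hωi ▸ img_mono hVN ω
  have hωiV : ∀ y ∈ Vs, ωi y ∈ V := fun y hy => by
    obtain ⟨x, hx, rfl⟩ := (hωm.mono hVN).mem_img.mp (hωi.ge hy)
    rwa [eωi x (hVN hx)]
  have heV' : ∀ v ∈ V, e v ∈ V' := fun v hv => IsMap.apply_mem_img hv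
  have hω'V' : ∀ v ∈ V', ω' v ∈ Vs := fun v hv => hω'i ▸ IsMap.apply_mem_img hv
  have hVsS : Vs ≤ S := hrep.full.1.trans hD.le
  have ha' : Gen F E p Vs (scF r⁻¹ ∘ (ω' ∘ (e ∘ ωi))) 1 := by
    refine (Gen.comp Vs Vs _ (scF r⁻¹) _ r⁻¹ (Gen.comp Vs V' _ ω' _ l'
      (Gen.comp Vs V ωi e _ 1 (hωg.mono hVsimg) (Gen.of_sub hD he) hωiV) (hω'.mono hV'N)
      fun y hy => heV' _ (hωiV y hy)) (Gen.conj Vs r⁻¹ hVsS (S.inv_mem hr.1))
      fun y hy => hω'V' _ (heV' _ (hωiV y hy))).relabel ?_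
    rw [mul_one]
    have := T.inv_mem hrσ
    rw [show (r⁻¹ * (l' * (1 * l⁻¹)))⁻¹ = (r⁻¹ * (l' * l⁻¹))⁻¹ by group]
    exact this
  have ha'E : IsMap E Vs (scF r⁻¹ ∘ (ω' ∘ (e ∘ ωi))) := by
    have h := ha'.sub hD
    rw [inf_eq_left.mpr hrep.full.1] at h
    exact h.congr fun x _ => by simp
  obtain ⟨α, hα, eα⟩ := ha'E.exists_aut (by
    haveI := finite_of_le hVsS
    exact Subgroup.eq_of_le_of_card_ge (IsMap.img_le_iff.mpr fun y hy =>
      conj_mem_of_mem_normalizer (Subgroup.inv_mem _ hr.2) (hω'V' _ (heV' _ (hωiV y hy))))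
      ha'E.card_img.ge)
  have hαω : ∀ v ∈ V, autFun α (ω v) = r⁻¹ * ω' (e v) * r := fun v hv => by
    rw [eα _ (hωi.le (IsMap.apply_mem_img hv))]
    simp [scF, eωi v (hVN hv)]
  have hωB : ∀ x ∈ B, ω x ∈ normalizerIn S Vs := fun x hx =>
    hωi ▸ hωm.mem_normalizerIn hVN (hBN hx) (hBN hx).2
  have hBy : ∀ x ∈ B, ∃ y ∈ normalizerIn S V', x⁻¹ * y ∈ T ∧
      ∀ v ∈ V, e (x * v * x⁻¹) = y * e v * y⁻¹ := by
    intro x hx
    obtain ⟨y, hy, hxy, ey⟩ := hB x hx
    refine ⟨y, ⟨hy, mem_normalizer_of_maps_finite fun w hw => ?_⟩, hxy, ey⟩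
    obtain ⟨v, hv, rfl⟩ := he.mem_img.mp hw
    rw [← ey v hv]
    exact heV' _ (conj_mem_of_mem_normalizer (hBN hx).2 hv)
  set B' := img B ω
  have hBext : B' ≤ extSub S Vs (autFun α) := IsMap.img_le_iff.mpr fun x hx => by
    obtain ⟨y, hy, -, ey⟩ := hBy x hx
    refine ⟨(hωB x hx).1, (hωB x hx).2, r⁻¹ * ω' y * r,
      S.mul_mem (S.mul_mem (S.inv_mem hr.1) (hω'm.mem_S hy)) hr.1, fun z hz => ?_⟩
    obtain ⟨v, hv, rfl⟩ := (hωm.mono hVN).mem_img.mp (hωi.ge hz)
    rw [← hωm.map_conj (hBN hx) (hVN hv), hαω _ (conj_mem_of_mem_normalizer (hBN hx).2 hv),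
      hαω v hv, ey v hv, hω'm.map_conj hy (hV'N (heV' v hv))]
    group
  obtain ⟨g, hg, eg⟩ := hext hrep α hα B' (hωi ▸ img_mono hVB ω) hBext
  have hgm := (hg.isMap hD).1
  have hgS : ∀ x ∈ B, g (ω x) ∈ S := fun x hx => hgm.mem_S (IsMap.apply_mem_img hx)
  have hF₁ : Gen F E p B (scF r ∘ (g ∘ ω)) l' := by
    refine (Gen.comp B S _ (scF r) _ r (Gen.comp B B' ω g l 1 (hω.mono hBN) hg
      fun x hx => IsMap.apply_mem_img hx) (Gen.conj S r le_rfl hr.1) hgS).relabel ?_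
    have := hD.conjT' hl hrσ
    rwa [show l⁻¹ * (r⁻¹ * (l' * l⁻¹)) * l = (r * (1 * l))⁻¹ * l' by group] at this
  have hF₁V : ∀ v ∈ V, (scF r ∘ (g ∘ ω)) v = ω' (e v) := fun v hv => by
    simp only [Function.comp_apply, scF]
    rw [eg _ (hωi.le (IsMap.apply_mem_img hv)), hαω v hv]
    group
  obtain ⟨ωi', hωg', eωi'⟩ := hω'.exists_inv hD
  have hin : ∀ x ∈ B, (scF r ∘ (g ∘ ω)) x ∈ img (normalizerIn S V') ω' := by
    intro x hx
    obtain ⟨y, hy, hxy, ey⟩ := hBy x hx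
    set w := (scF r ∘ (g ∘ ω)) x
    have hwy : (ω' y)⁻¹ * w ∈ T := by
      have h1 := hF₁.shift hD x hx
      have h2 := hω'.shift hD y hy
      have h3 := hD.conjT hl' (T.inv_mem hxy)
      have := T.mul_mem (T.mul_mem (T.inv_mem h2) h3) h1
      rwa [show ((l' * y * l'⁻¹)⁻¹ * ω' y)⁻¹ * (l' * (x⁻¹ * y)⁻¹ * l'⁻¹) *
        ((l' * x * l'⁻¹)⁻¹ * w) = (ω' y)⁻¹ * w by group] at this
    have hVsc : E.IsCentric Vs := hωi ▸ CharSub.centricT_img hD.inv hV (hωm.mono hVN)
    have hz : (ω' y)⁻¹ * w ∈ Vs := by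
      refine hVsc.2 Vs (isConj_refl hVsc.1) (Fusion.mem_centralizerIn.mpr ⟨hwy, fun z hz => ?_⟩)
      obtain ⟨v', hv', rfl⟩ := (hω'm.mono hV'N).mem_img.mp (hω'i.ge hz)
      have hm : ω' y * ω' v' * (ω' y)⁻¹ = ω' (y * v' * y⁻¹) :=
        (hω'm.map_conj hy (hV'N hv')).symm
      obtain ⟨v, hv, rfl⟩ := he.mem_img.mp hv'
      have h5 : w * ω' (e v) * w⁻¹ = ω' (y * e v * y⁻¹) := by
        rw [← ey v hv, ← hF₁V v hv, ← hF₁V _ (conj_mem_of_mem_normalizer (hBN hx).2 hv)]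
        exact ((hF₁.isMap hD).1.map_conj hx (hVB hv)).symm
      calc (ω' y)⁻¹ * w * ω' (e v) * ((ω' y)⁻¹ * w)⁻¹
          = (ω' y)⁻¹ * (w * ω' (e v) * w⁻¹) * ω' y := by group
        _ = ω' (e v) := by rw [h5, ← hm]; group
    rw [show w = ω' y * ((ω' y)⁻¹ * w) by group]
    exact Subgroup.mul_mem _ (IsMap.apply_mem_img hy) (hω'i.ge.trans (img_mono hV'N ω') hz)
  refine ⟨ωi' ∘ (scF r ∘ (g ∘ ω)),
    (Gen.comp B _ _ ωi' l' l'⁻¹ hF₁ hωg' hin).relabel (by simp), fun v hv => ?_⟩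
  show ωi' ((scF r ∘ (g ∘ ω)) v) = e v
  rw [hF₁V v hv, eωi' _ (hV'N (heV' v hv))]

theorem card_lt_of_lt {A B : Subgroup Ω} [Finite B] (h : A < B) : Nat.card A < Nat.card B :=
  lt_of_le_of_ne (Subgroup.card_le_of_le h.le) fun e =>
    h.ne (Subgroup.eq_of_le_of_card_ge h.le e.ge)

/-- The extension property below. -/
theorem canExt_step (hD : Setup F E p) {U : Subgroup Ω} (hU : U ≤ T)
    (ih : ∀ V : Subgroup Ω, V ≤ T → Nat.card U < Nat.card V → Reach F E p V ∧ CanExt F E p V) :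
    CanExt F E p U := by
  intro hrep a ha B hUB hBext
  have hUS := hU.trans hD.le
  haveI := finite_of_le hD.le
  haveI := finite_of_le hUS
  have hBN : B ≤ normalizerIn S U := hBext.trans (extSub_le U _)
  by_cases hUc : E.IsCentric U
  · obtain ⟨G, _, _, ι, M, hMod⟩ := exists_mod hD hUc hrep.full
    obtain ⟨m, hm, em⟩ := hMod.surj a ha
    have hUN := le_normalizerIn hUS
    have hrange : ∀ x ∈ B, m * emb ι x * m⁻¹ ∈ ι.range := by
      intro x hx
      obtain ⟨y, hy, -, ey⟩ := exists_witness hD hrep.full ha (hBext hx)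
      obtain ⟨c, hc, ec⟩ := hMod.cent_range hD.grp hUS
        (g := (emb ι y)⁻¹ * (m * emb ι x * m⁻¹)) fun q hq => by
        obtain ⟨q₁, hq₁, rfl⟩ : ∃ u ∈ U, autFun a u = q :=
          ⟨autFun a⁻¹ q, autFun_mem _ hq, autFun_inv_apply a hq⟩
        have hxq := conj_mem_of_mem_normalizer (hBN hx).2 hq₁
        have h1 : m * (emb ι x * emb ι q₁ * (emb ι x)⁻¹) * m⁻¹ =
            emb ι y * emb ι (autFun a q₁) * (emb ι y)⁻¹ := by
          rw [← emb_conj (hBN hx) (hUN hq₁), em _ hxq, ey q₁ hq₁,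
            emb_conj hy (hUN (autFun_mem a hq₁))]
        rw [← em q₁ hq₁] at h1 ⊢
        calc (emb ι y)⁻¹ * (m * emb ι x * m⁻¹) * (m * emb ι q₁ * m⁻¹) *
              ((emb ι y)⁻¹ * (m * emb ι x * m⁻¹))⁻¹
            = (emb ι y)⁻¹ * (m * (emb ι x * emb ι q₁ * (emb ι x)⁻¹) * m⁻¹) * emb ι y := by group
          _ = m * emb ι q₁ * m⁻¹ := by rw [h1]; group
      rw [show m * emb ι x * m⁻¹ = emb ι y * ((emb ι y)⁻¹ * (m * emb ι x * m⁻¹)) by group, ← ec]
      exact ι.range.mul_mem (emb_mem_range hy)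
        (emb_mem_range (centralizerIn_le_normalizerIn U hc))
    obtain ⟨f, r, hf, hr, hmr, ef⟩ := hMod.gen hD hUc hrep.full hUB hBN hrange
    have hrT : r ∈ T := by
      refine (hMod.mem r hr).mp ?_
      have := M.mul_mem (M.inv_mem hmr) hm
      rwa [show (m * (emb ι r)⁻¹)⁻¹ * m = emb ι r by group] at this
    refine ⟨f, hf.relabel (by simpa using T.inv_mem hrT), fun u hu => ?_⟩
    exact emb_inj hMod.inj (ef u (hUB hu)).1 (hUN (autFun_mem a hu))
      ((ef u (hUB hu)).2.trans (em u hu))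
  · obtain ⟨hfc, -, hrec⟩ := fullyNormalized_props hD.grpT hD.satE hrep.full
    have hCU : ¬ centralizerIn T U ≤ U := fun h =>
      hUc (centric_of_fullyCentralized hD.grpT hD.satE hfc h)
    set V := U ⊔ centralizerIn T U with hV
    have hVT : V ≤ T := sup_le hU inf_le_left
    have hVS := hVT.trans hD.le
    haveI := finite_of_le hVS
    haveI := NormCent.finite_mulAut V
    have hVc : E.IsCentric V := SmallCent.centric_sup_centralizerIn hfc
    have hUV : U ≤ V := le_sup_left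
    have hlt : Nat.card U < Nat.card V := card_lt_of_lt
      (lt_of_le_of_ne hUV fun h => hCU (le_trans le_sup_right h.ge))
    have ham := (isMap_autFun (F := F) hUS).mpr (PPower.autGroup_le_of_sub hD.inv.1 hU hD.le ha)
    obtain ⟨ε₀, hε₀, eε⟩ := receptive_extend hrec ((isMap_autFun hU).mpr ha) (img_autFun a)
    have hVext : V ≤ extSub T U (autFun a) :=
      sup_le (le_extSub ((isMap_autFun hU).mpr ha)) (centralizerIn_le_extSub U _)
    have hεV := hε₀.mono hVext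
    have hεU : img U ε₀ = U := (img_congr eε).trans (img_autFun a)
    have hεmem : ∀ v ∈ V, ε₀ v ∈ V := fun v hv => by
      obtain ⟨u, hu, c, hc, rfl⟩ := NormCent.mem_sup_centralizerIn.mp hv
      rw [hεV.map_mul (hUV hu) (Subgroup.mem_sup_right hc), eε u hu]
      refine V.mul_mem (hUV (autFun_mem a hu)) (Subgroup.mem_sup_right ?_)
      have := hεV.mem_centralizerIn hUV (Subgroup.mem_sup_right hc) hc
      rwa [hεU] at this
    obtain ⟨ε, hε, eε'⟩ := hεV.exists_aut (img_eq_of_apply hεV le_rfl hεmem)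
    have hεu : ∀ u ∈ U, autFun ε u = autFun a u := fun u hu => by rw [eε' u (hUV hu), eε u hu]
    set B₁ := B ⊔ V
    have hB₁ext : B₁ ≤ extSub S U (autFun a) := sup_le hBext (sup_le (le_extSub ham)
      fun c hc => centralizerIn_le_extSub U _ (Fusion.mem_centralizerIn.mpr
        ⟨hD.le (Fusion.mem_centralizerIn.mp hc).1, (Fusion.mem_centralizerIn.mp hc).2⟩))
    have hNV : normalizerIn S U ≤ normalizerIn S V := fun s hs => by
      refine ⟨hs.1, mem_normalizer_of_maps_finite fun v hv => ?_⟩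
      obtain ⟨u, hu, c, hc, rfl⟩ := NormCent.mem_sup_centralizerIn.mp hv
      rw [show s * (u * c) * s⁻¹ = s * u * s⁻¹ * (s * c * s⁻¹) by group]
      refine V.mul_mem (hUV (conj_mem_of_mem_normalizer hs.2 hu)) (Subgroup.mem_sup_right
        (Fusion.mem_centralizerIn.mpr ⟨hD.conjT hs.1 (Fusion.mem_centralizerIn.mp hc).1,
          fun w hw => ?_⟩))
      have h1 : s⁻¹ * w * s ∈ U := by
        simpa using conj_mem_of_mem_normalizer (Subgroup.inv_mem _ hs.2) hw
      calc s * c * s⁻¹ * w * (s * c * s⁻¹)⁻¹ = s * (c * (s⁻¹ * w * s) * c⁻¹) * s⁻¹ := by group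
        _ = w := by rw [(Fusion.mem_centralizerIn.mp hc).2 _ h1]; group
    have hB₁N : B₁ ≤ normalizerIn S U := hB₁ext.trans (extSub_le U _)
    -- the automorphisms fixing `U`
    let C₀ : Subgroup (MulAut V) :=
      { carrier := {κ | κ ∈ E.autGroup V ∧ ∀ u ∈ U, autFun κ u = u}
        one_mem' := ⟨Subgroup.one_mem _, fun u hu => autFun_one (hUV hu)⟩
        mul_mem' := fun {α β} hα hβ => ⟨Subgroup.mul_mem _ hα.1 hβ.1, fun u hu => by
          rw [autFun_mul _ _ (hUV hu), hβ.2 u hu, hα.2 u hu]⟩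
        inv_mem' := fun {α} hα => ⟨Subgroup.inv_mem _ hα.1, fun u hu => by
          conv_lhs => rw [← hα.2 u hu, autFun_inv_apply' α (hUV hu)]⟩ }
    have hpsub : ∀ X : Subgroup (MulAut V), IsPGroup p X → X ≤ C₀ → ∀ κ ∈ X,
        ∃ d ∈ centralizerIn T U, ∀ v ∈ V, autFun κ v = d * v * d⁻¹ := by
      intro X hX hXC κ hκ
      obtain ⟨V', h, hh, -, -, hreal⟩ := NormCent.exists_map_realize (F := E) hD.satE hVT hX
        fun _ hx => (hXC hx).1
      obtain ⟨t, ht, et⟩ := hreal κ hκ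
      have hhU := hh.mono hUV
      have htc : t ∈ centralizerIn T (img U h) := Fusion.mem_centralizerIn.mpr ⟨ht, fun z hz => by
        obtain ⟨u, hu, rfl⟩ := hhU.mem_img.mp hz
        rw [← et u (hUV hu), (hXC hκ).2 u hu]⟩
      obtain ⟨d, hd, hdt⟩ := exists_preimage_of_card_le hh (le_sup_right : centralizerIn T U ≤ V)
        inf_le_left (fun c hc => hh.mem_centralizerIn hUV (Subgroup.mem_sup_right hc) hc)
        (hfc.2 _ (isConj_iff.mpr ⟨h, hhU, rfl⟩)) htc
      refine ⟨d, hd, fun v hv => hh.injOn (autFun_mem κ hv) (V.mul_mem (V.mul_mem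
        (Subgroup.mem_sup_right hd) hv) (V.inv_mem (Subgroup.mem_sup_right hd))) ?_⟩
      rw [hh.map_conj (Subgroup.mem_sup_right hd) hv, hdt, et v hv]
    set W := autInducedBy (normalizerIn S U) V
    have hWp : IsPGroup p W :=
      (isPGroup_autInducedBy hD.grp V).to_le (autInducedBy_mono inf_le_left)
    have hWn : W ≤ Subgroup.normalizer (C₀ : Set (MulAut V)) := fun β hβ => by
      obtain ⟨s, hs, es⟩ := mem_autInducedBy.mp hβ
      have hβF : β ∈ F.autGroup V := autInducedBy_le hVS (autInducedBy_mono inf_le_left hβ)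
      refine mem_normalizer_of_maps_finite fun κ hκ =>
        ⟨PPower.conj_mem_autGroup hD.inv hVT hβF hκ.1, fun u hu => ?_⟩
      have hu' : s⁻¹ * u * s ∈ U := by
        simpa using conj_mem_of_mem_normalizer (Subgroup.inv_mem _ hs.2) hu
      have e1 : autFun β (s⁻¹ * u * s) = u := by
        rw [autFun_apply_mem β (hUV hu'), es]
        group
      conv_lhs => rw [← e1]
      rw [autFun_mul _ _ (autFun_mem β (hUV hu')), autFun_inv_apply' β (hUV hu'),
        autFun_mul _ _ (hUV hu'), hκ.2 _ hu', e1]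
    set H := C₀ ⊔ W
    have hWmax : ∀ X : Subgroup (MulAut V), IsPGroup p X → X ≤ H → W ≤ X → X ≤ W := by
      intro X hX hXH hWX ξ hξ
      have hξ' : ξ ∈ ((C₀ ⊔ W : Subgroup (MulAut V)) : Set (MulAut V)) := hXH hξ
      rw [Subgroup.coe_mul_of_right_le_normalizer_left C₀ W hWn] at hξ'
      obtain ⟨κ, hκ, w, hw, rfl⟩ := hξ'
      have hκX : κ ∈ X := by
        have := X.mul_mem hξ (X.inv_mem (hWX hw))
        simpa using this
      obtain ⟨d, hd, ed⟩ := hpsub (X ⊓ C₀) (hX.to_le inf_le_left) inf_le_right κ ⟨hκX, hκ⟩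
      refine W.mul_mem (mem_autInducedBy.mpr ⟨d, ⟨hD.le (Fusion.mem_centralizerIn.mp hd).1,
        mem_normalizer_of_maps_finite fun u hu => ?_⟩, fun v => ?_⟩) hw
      · rw [(Fusion.mem_centralizerIn.mp hd).2 u hu]; exact hu
      · rw [← autFun_apply]; exact ed v v.2
    -- transport the action of `B₁`
    have hy' : ∀ x ∈ B₁, ∃ y ∈ normalizerIn S U, x⁻¹ * y ∈ T ∧
        ∀ u ∈ U, autFun a (x * u * x⁻¹) = y * autFun a u * y⁻¹ := fun x hx =>
      exists_witness hD hrep.full ha (hB₁ext hx)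
    have hεB : ∀ β ∈ autInducedBy B₁ V, ε * β * ε⁻¹ ∈ H := by
      intro β hβ
      obtain ⟨x, hx, ex⟩ := mem_autInducedBy.mp hβ
      obtain ⟨y, hy, hxy, ey⟩ := hy' x hx
      have hyn : y ∈ Subgroup.normalizer (V : Set Ω) := (hNV hy).2
      set cy := conjAut V y hyn
      have hxS := (hB₁N hx).1
      have hβF : β ∈ F.autGroup V :=
        autInducedBy_le hVS (mem_autInducedBy.mpr ⟨x, hxS, ex⟩)
      have h1 : β * cy⁻¹ ∈ E.autGroup V := by
        refine autInducedBy_le hVT (mem_autInducedBy.mpr ⟨x * y⁻¹, ?_, fun v => ?_⟩)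
        · have := hD.conjT hxS (T.inv_mem hxy)
          rwa [show x * (x⁻¹ * y)⁻¹ * x⁻¹ = x * y⁻¹ by group] at this
        · have e1 : ((cy⁻¹ v : V) : Ω) = y⁻¹ * v * y := by
            have hv : (v : Ω) = y * ((cy⁻¹ v : V) : Ω) * y⁻¹ := by
              rw [← conjAut_apply hyn]
              simp [cy]
            conv_rhs => rw [hv]
            group
          rw [show (β * cy⁻¹) v = β (cy⁻¹ v) from rfl, ex, e1]
          group
      have h2 : ε * β * ε⁻¹ * cy⁻¹ ∈ C₀ := by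
        refine ⟨?_, fun u hu => ?_⟩
        · rw [show ε * β * ε⁻¹ * cy⁻¹ = ε * (β * ε⁻¹ * β⁻¹) * (β * cy⁻¹) by group]
          exact Subgroup.mul_mem _ (Subgroup.mul_mem _ hε
            (PPower.conj_mem_autGroup hD.inv hVT hβF (Subgroup.inv_mem _ hε))) h1
        · obtain ⟨u₁, hu₁, rfl⟩ : ∃ w ∈ U, autFun a w = u :=
            ⟨autFun a⁻¹ u, autFun_mem _ hu, autFun_inv_apply a hu⟩
          have hw : autFun a u₁ ∈ V := hUV (autFun_mem a hu₁)
          rw [autFun_mul _ _ hw]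
          obtain ⟨u₂, hu₂, e7⟩ : ∃ w ∈ U, autFun a (x * w * x⁻¹) = autFun a u₁ := by
            refine ⟨x⁻¹ * u₁ * x, by
              simpa using conj_mem_of_mem_normalizer (Subgroup.inv_mem _ (hB₁N hx).2) hu₁, ?_⟩
            group
          have e8 : autFun cy⁻¹ (autFun a u₁) = autFun a u₂ := by
            rw [← e7, ey u₂ hu₂]
            have h := autFun_inv_apply' cy (hUV (autFun_mem a hu₂))
            rwa [autFun_apply_mem cy (hUV (autFun_mem a hu₂)), conjAut_apply] at h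
          have hw₂ : autFun a u₂ ∈ V := hUV (autFun_mem a hu₂)
          rw [e8, autFun_mul _ _ hw₂, autFun_mul _ _ (autFun_mem _ hw₂),
            show autFun ε⁻¹ (autFun a u₂) = u₂ by
              rw [← hεu u₂ hu₂, autFun_inv_apply' ε (hUV hu₂)],
            autFun_apply_mem β (hUV hu₂), ex,
            hεu _ (conj_mem_of_mem_normalizer (hB₁N hx).2 hu₂), e7]
      have h3 : cy ∈ W := conjAut_mem_autInducedBy hyn hy
      have := Subgroup.mul_mem_sup h2 h3
      rwa [inv_mul_cancel_right] at this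
    obtain ⟨κ, hκ, hκB⟩ : ∃ κ ∈ C₀, ∀ β ∈ autInducedBy B₁ V, κ * (ε * β * ε⁻¹) * κ⁻¹ ∈ W := by
      set X := (autInducedBy B₁ V).map (MulAut.conj ε).toMonoidHom
      have hXp : IsPGroup p X := ((isPGroup_autInducedBy hD.grp V).to_le
        (autInducedBy_mono (hB₁N.trans inf_le_left))).map _
      have hXH : X ≤ H := by
        rintro _ ⟨β, hβ, rfl⟩
        exact hεB β hβ
      obtain ⟨V₁, hV₁⟩ := (hWp.comap_of_injective H.subtype H.subtype_injective).exists_le_sylow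
      obtain ⟨V₂, hV₂⟩ := (hXp.comap_of_injective H.subtype H.subtype_injective).exists_le_sylow
      obtain ⟨η, hη⟩ := MulAction.exists_smul_eq H V₂ V₁
      have hV₁W : ∀ v : H, v ∈ (V₁ : Subgroup H) → (v : MulAut V) ∈ W := fun v hv =>
        hWmax ((V₁ : Subgroup H).map H.subtype) (V₁.2.map _) (Subgroup.map_subtype_le _)
          (fun w hw => ⟨⟨w, Subgroup.mem_sup_right hw⟩, hV₁ hw, rfl⟩) ⟨v, hv, rfl⟩
      have hconj : ∀ β ∈ autInducedBy B₁ V,
          (η : MulAut V) * (ε * β * ε⁻¹) * (η : MulAut V)⁻¹ ∈ W := fun β hβ => by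
        have h1 : η * (⟨_, hεB β hβ⟩ : H) * η⁻¹ ∈ ((η • V₂ : Sylow p H) : Subgroup H) :=
          ⟨_, hV₂ (show (⟨_, hεB β hβ⟩ : H) ∈ X.subgroupOf H from ⟨β, hβ, rfl⟩), rfl⟩
        rw [hη] at h1
        exact hV₁W _ h1
      have hη' : (η : MulAut V)⁻¹ ∈ ((C₀ ⊔ W : Subgroup (MulAut V)) : Set (MulAut V)) :=
        H.inv_mem η.2
      rw [Subgroup.coe_mul_of_right_le_normalizer_left C₀ W hWn] at hη'
      obtain ⟨κ, hκ, w, hw, hκw⟩ := hη'
      replace hκw : κ * w = (η : MulAut V)⁻¹ := hκw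
      refine ⟨κ⁻¹, C₀.inv_mem hκ, fun β hβ => ?_⟩
      have h1 := hconj β hβ
      rw [show (η : MulAut V) = w⁻¹ * κ⁻¹ by rw [← mul_inv_rev, hκw, inv_inv]] at h1
      have h2 := W.mul_mem (W.mul_mem hw h1) (W.inv_mem hw)
      rwa [show w * (w⁻¹ * κ⁻¹ * (ε * β * ε⁻¹) * (w⁻¹ * κ⁻¹)⁻¹) * w⁻¹ =
        κ⁻¹ * (ε * β * ε⁻¹) * κ⁻¹⁻¹ by group] at h2
    set a' := κ * ε
    have ha'E : a' ∈ E.autGroup V := Subgroup.mul_mem _ hκ.1 hε
    have ha'u : ∀ u ∈ U, autFun a' u = autFun a u := fun u hu => by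
      rw [autFun_mul _ _ (hUV hu), hεu u hu, hκ.2 _ (autFun_mem a hu)]
    have hwit : ∀ x ∈ B₁, ∃ y ∈ S, x⁻¹ * y ∈ T ∧
        ∀ v ∈ V, autFun a' (x * v * x⁻¹) = y * autFun a' v * y⁻¹ := by
      intro x hx
      have hxn := (hNV (hB₁N hx)).2
      set β := conjAut V x hxn
      have hβ : β ∈ autInducedBy B₁ V := conjAut_mem_autInducedBy hxn hx
      obtain ⟨y₀, hy₀, ey₀⟩ := mem_autInducedBy.mp (hκB β hβ)
      obtain ⟨y, hy, hxy, ey⟩ := hy' x hx
      have hyn : y ∈ Subgroup.normalizer (V : Set Ω) := (hNV hy).2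
      have hrel : ∀ v ∈ V, autFun a' (x * v * x⁻¹) = y₀ * autFun a' v * y₀⁻¹ := fun v hv => by
        have h := ey₀ ⟨autFun a' v, autFun_mem a' hv⟩
        rw [← autFun_apply, show κ * (ε * β * ε⁻¹) * κ⁻¹ = a' * β * a'⁻¹ by simp [a']; group,
          autFun_mul _ _ (autFun_mem a' hv), autFun_inv_apply' a' hv, autFun_mul _ _ hv,
          autFun_apply_mem β hv, conjAut_apply] at h
        exact h
      have hdS : y₀ * y⁻¹ ∈ S := S.mul_mem hy₀.1 (S.inv_mem hy.1)
      have hdn : y₀ * y⁻¹ ∈ Subgroup.normalizer (V : Set Ω) :=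
        Subgroup.mul_mem _ (hNV hy₀).2 (Subgroup.inv_mem _ hyn)
      set δ := conjAut V (y₀ * y⁻¹) hdn
      have hyU : ∀ u ∈ U, y₀ * y⁻¹ * u * (y₀ * y⁻¹)⁻¹ = u := fun u hu => by
        obtain ⟨u', hu', rfl⟩ : ∃ w ∈ U, autFun a w = u :=
          ⟨autFun a⁻¹ u, autFun_mem _ hu, autFun_inv_apply a hu⟩
        obtain ⟨u₂, hu₂, rfl⟩ : ∃ w ∈ U, x * w * x⁻¹ = u' :=
          ⟨x⁻¹ * u' * x, by
            simpa using conj_mem_of_mem_normalizer (Subgroup.inv_mem _ (hB₁N hx).2) hu', by group⟩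
        have e1 := hrel u₂ (hUV hu₂)
        rw [ha'u _ hu', ha'u _ hu₂, ey u₂ hu₂] at e1
        rw [ey u₂ hu₂]
        calc y₀ * y⁻¹ * (y * autFun a u₂ * y⁻¹) * (y₀ * y⁻¹)⁻¹
            = y₀ * autFun a u₂ * y₀⁻¹ := by group
          _ = y * autFun a u₂ * y⁻¹ := e1.symm
      have hδC : δ ∈ C₀ := by
        refine ⟨?_, fun u hu => by rw [autFun_apply_mem δ (hUV hu), conjAut_apply]; exact hyU u hu⟩
        set cx := conjAut V x hxn
        set cy := conjAut V y hyn
        have hcxF : cx ∈ F.autGroup V :=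
          autInducedBy_le hVS (conjAut_mem_autInducedBy hxn (hB₁N hx).1)
        have h1 : cx * cy⁻¹ ∈ E.autGroup V := by
          refine autInducedBy_le hVT (mem_autInducedBy.mpr ⟨x * y⁻¹, ?_, fun v => ?_⟩)
          · have := hD.conjT (hB₁N hx).1 (T.inv_mem hxy)
            rwa [show x * (x⁻¹ * y)⁻¹ * x⁻¹ = x * y⁻¹ by group] at this
          · have e1 : (v : Ω) = y * ((cy⁻¹ v : V) : Ω) * y⁻¹ := by
              rw [← conjAut_apply hyn]
              simp [cy]
            rw [show (cx * cy⁻¹) v = cx (cy⁻¹ v) from rfl, conjAut_apply]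
            conv_rhs => rw [e1]
            group
        have e2 : δ = a' * (cx * a'⁻¹ * cx⁻¹) * (cx * cy⁻¹) := by
          rw [show a' * (cx * a'⁻¹ * cx⁻¹) * (cx * cy⁻¹) = a' * cx * a'⁻¹ * cy⁻¹ by group]
          refine MulEquiv.ext fun v => Subtype.ext ?_
          have e1 : (v : Ω) = y * ((cy⁻¹ v : V) : Ω) * y⁻¹ := by
            rw [← conjAut_apply hyn]
            simp [cy]
          rw [conjAut_apply, show (a' * cx * a'⁻¹ * cy⁻¹) v = (a' * cx * a'⁻¹) (cy⁻¹ v) from rfl]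
          set w := cy⁻¹ v
          obtain ⟨w', hw', ew⟩ : ∃ w' ∈ V, autFun a' w' = w :=
            ⟨autFun a'⁻¹ w, autFun_mem _ w.2, autFun_inv_apply a' w.2⟩
          rw [← autFun_apply, ← ew, autFun_mul _ _ (autFun_mem a' hw'),
            autFun_inv_apply' a' hw', autFun_mul _ _ hw', autFun_apply_mem cx hw', conjAut_apply,
            hrel w' hw', ew, e1]
          group
        rw [e2]
        exact Subgroup.mul_mem _ (Subgroup.mul_mem _ ha'E
          (PPower.conj_mem_autGroup hD.inv hVT hcxF (Subgroup.inv_mem _ ha'E))) h1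
      obtain ⟨d, hd, ed⟩ := hpsub (Subgroup.zpowers δ)
        ((isPGroup_autInducedBy hD.grp V).to_le
          (Subgroup.zpowers_le.mpr (conjAut_mem_autInducedBy hdn hdS)))
        (Subgroup.zpowers_le.mpr hδC) δ (Subgroup.mem_zpowers δ)
      have hdT := (Fusion.mem_centralizerIn.mp hd).1
      refine ⟨d * y, S.mul_mem (hD.le hdT) hy.1, ?_, fun v hv => ?_⟩
      · have h := hD.conjT' (hB₁N hx).1 hdT
        have := T.mul_mem h hxy
        rwa [show x⁻¹ * d * x * (x⁻¹ * y) = x⁻¹ * (d * y) by group] at this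
      · have hw : y * autFun a' v * y⁻¹ ∈ V := conj_mem_of_mem_normalizer hyn (autFun_mem a' hv)
        have h := ed _ hw
        rw [autFun_apply_mem δ hw, conjAut_apply] at h
        rw [hrel v hv]
        calc y₀ * autFun a' v * y₀⁻¹
            = y₀ * y⁻¹ * (y * autFun a' v * y⁻¹) * (y₀ * y⁻¹)⁻¹ := by group
          _ = d * (y * autFun a' v * y⁻¹) * d⁻¹ := h
          _ = d * y * autFun a' v * (d * y)⁻¹ := by group
    obtain ⟨hrV, -⟩ := ih V hVT hlt
    have hchT : ch S E V ≤ T := hrV.1.full.1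
    have hchc : Nat.card U < Nat.card (ch S E V) := by
      obtain ⟨f, s, hf, hfi⟩ := hrV.2.2
      rwa [← hfi, ((hf.isMap hD).1.mono (le_normalizerIn hVS)).card_img]
    obtain ⟨f, hf, ef⟩ := lift_map hD hVc ((isMap_autFun hVT).mpr ha'E) hrV
      ((img_autFun (P := V) a').symm ▸ hrV) (ih _ hchT hchc).2 (le_sup_right : V ≤ B₁)
      (hB₁N.trans hNV) hwit
    exact ⟨f, hf.mono le_sup_left, fun u hu => by rw [ef u (hUV hu), ha'u u hu]⟩

end Cfsg.Lib.Fusion.Product
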