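import Cfsg.Agent.Fusion.Product.Model
import Cfsg.Agent.Fusion.GroupSystem

/-!
The fusion of a model consists of generated maps.
-/

set_option autoImplicit false
set_option linter.unusedSectionVars false
set_option linter.style.haveILetI false

namespace Cfsg.Lib.Fusion.Product

open Cfsg Cfsg.FusionSystem Cfsg.Lib.Fusion Cfsg.Lib.Fusion.SmallCent

universe u

variable {Ω : Type u} [Group Ω] {S T : Subgroup Ω} {F : FusionSystem S} {E : FusionSystem T}
  {p : ℕ} {Q : Subgroup Ω} [Finite S] [Fact p.Prime]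

/-- An automorphism of order prime to `p` agreeing with one of the subsystem on a centric subgroup
lies in the subsystem. -/
theorem mem_sub_of_agree (hD : Setup F E p) {N : Subgroup Ω} (hQN : Q ≤ N) (hNT : N ≤ T)
    (hn : ∀ x ∈ N, ∀ q ∈ Q, x * q * x⁻¹ ∈ Q) (hQc : E.IsCentric Q) (hQf : E.IsFullyNormalized Q)
    {h : MulAut N} (hh : h ∈ F.autGroup N) (hcop : (orderOf h).Coprime p) {α : MulAut Q}
    (hα : α ∈ E.autGroup Q) (e : ∀ q ∈ Q, autFun h q = autFun α q) : h ∈ E.autGroup N := by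
  haveI := finite_of_le hD.le
  haveI := finite_of_le hNT
  haveI := NormCent.finite_mulAut N
  have hNS := hNT.trans hD.le
  have hhm := (isMap_autFun hNS).mpr hh
  have hQT := hQN.trans hNT
  haveI := finite_of_le hQT
  have hrec := (fullyNormalized_props hD.grpT hD.satE hQf).2.2
  have hαm := (isMap_autFun (F := E) hQT).mpr hα
  have hext : N ≤ extSub T Q (autFun α) := fun x hx =>
    ⟨hNT hx, mem_normalizer_of_maps_finite (P := Q) (fun q hq => hn x hx q hq), autFun h x,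
      hNT (autFun_mem h hx), fun q hq => by
        rw [← e _ (hn x hx q hq), hhm.map_conj hx (hQN hq), e q hq]⟩
  obtain ⟨ε₀, hε₀, eε⟩ := receptive_extend hrec hαm (img_autFun α)
  have hεN := hε₀.mono hext
  have hd : ∀ x ∈ N, (autFun h x)⁻¹ * ε₀ x ∈ Q := fun x hx => by
    refine hQc.2 Q (isConj_refl hQT) (Fusion.mem_centralizerIn.mpr
      ⟨T.mul_mem (T.inv_mem (hNT (autFun_mem h hx))) (hεN.mem_S hx), fun y hy => ?_⟩)
    obtain ⟨q, hq, rfl⟩ := hαm.mem_img.mp ((img_autFun α).ge hy)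
    have h1 : ε₀ x * autFun α q * (ε₀ x)⁻¹ =
        autFun h x * autFun α q * (autFun h x)⁻¹ := by
      rw [← eε q hq, ← hεN.map_conj hx (hQN hq), eε _ (hn x hx q hq), ← e _ (hn x hx q hq),
        hhm.map_conj hx (hQN hq), e q hq, eε q hq]
    calc (autFun h x)⁻¹ * ε₀ x * autFun α q * ((autFun h x)⁻¹ * ε₀ x)⁻¹
        = (autFun h x)⁻¹ * (ε₀ x * autFun α q * (ε₀ x)⁻¹) * autFun h x := by group
      _ = autFun α q := by rw [h1]; group
  have hεmem : ∀ x ∈ N, ε₀ x ∈ N := fun x hx => by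
    have := N.mul_mem (autFun_mem h hx) (hQN (hd x hx))
    rwa [mul_inv_cancel_left] at this
  obtain ⟨ε, hε, eε'⟩ := hεN.exists_aut (img_eq_of_apply hεN le_rfl hεmem)
  have hεF : ε ∈ F.autGroup N := PPower.autGroup_le_of_sub hD.inv.1 hNT hD.le hε
  set k := ε⁻¹ * h
  have hεq : ∀ q ∈ Q, autFun ε⁻¹ q ∈ Q ∧ autFun ε⁻¹ (autFun α q) = q := fun q hq => by
    have h1 : ∀ y ∈ Q, autFun ε⁻¹ (autFun α y) = y := fun y hy => by
      rw [← eε y hy, ← eε' y (hQN hy), autFun_inv_apply' ε (hQN hy)]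
    refine ⟨?_, h1 q hq⟩
    have := h1 _ (autFun_mem α⁻¹ hq)
    rw [autFun_inv_apply α hq] at this
    rw [this]
    exact autFun_mem _ hq
  have hk : k ∈ Small.chainAut F N Q hQN := by
    refine ⟨Subgroup.mul_mem _ (Subgroup.inv_mem _ hεF) hh, fun q hq => ?_, fun x hx => ?_⟩
    · rw [autFun_mul _ _ (hQN hq), e q hq, (hεq q hq).2]
    · have hεi := (isMap_autFun hNS).mpr (Subgroup.inv_mem _ hεF)
      have hc := hd x hx
      have h1 : autFun h x = ε₀ x * ((autFun h x)⁻¹ * ε₀ x)⁻¹ := by group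
      rw [autFun_mul _ _ hx, h1, hεi.map_mul (hεmem x hx) (hQN (Q.inv_mem hc)), ← eε' x hx,
        autFun_inv_apply' ε hx, eε' x hx]
      exact hn x hx _ (hεq _ (Q.inv_mem hc)).1
  obtain ⟨i, hi⟩ := Small.isPGroup_chainAut hD.grp hQN hNS ⟨k, hk⟩
  have hkn : k ∈ Subgroup.normalizer (E.autGroup N : Set (MulAut N)) :=
    mem_normalizer_of_maps_finite fun β hβ => PPower.conj_mem_autGroup hD.inv hNT hk.1 hβ
  have hkE : k ∈ E.autGroup N := by
    refine mem_of_comm_coprime (p := p) (a := ε) (k := k) (n := orderOf h) (i := i) hcop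
      (Subgroup.le_normalizer hε) hkn ?_ (Subgroup.pow_mem _ hε _) ?_
      (by simpa using congrArg Subtype.val hi)
    · rw [show ε * k * ε⁻¹ * k⁻¹ = ε * (k * ε⁻¹ * k⁻¹) by group]
      exact Subgroup.mul_mem _ hε
        (PPower.conj_mem_autGroup hD.inv hNT hk.1 (Subgroup.inv_mem _ hε))
    · rw [show ε * k = h by simp [k], pow_orderOf_eq_one]
      exact Subgroup.one_mem _
  have := Subgroup.mul_mem _ hε hkE
  rwa [show ε * k = h by simp [k]] at this

variable {G : Type u} [Group G] [Finite G] {ι : normalizerIn S Q →* G} {M : Subgroup G}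

/-- An element of order prime to `p` stabilizing a subgroup gives a generator there. -/
theorem Mod.exists_prim (hD : Setup F E p) (hQc : E.IsCentric Q) (hQf : E.IsFullyNormalized Q)
    (h : Mod F E p Q ι M) {X : Subgroup Ω} (hX : X ≤ normalizerIn S Q) (hQX : Q ≤ X) {g : G}
    (hg : g ∈ M) (hcop : (orderOf g).Coprime p)
    (hst : ∀ x ∈ X, ∃ y ∈ X, g * emb ι x * g⁻¹ = emb ι y) :
    ∃ γ, IsPrim F E p X γ ∧ ∀ x ∈ X, emb ι (autFun γ x) = g * emb ι x * g⁻¹ := by
  haveI := h.norM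
  have hXS : X ≤ S := hX.trans inf_le_left
  haveI := finite_of_le hXS
  obtain ⟨φ, hφ, eφ⟩ := h.maps X hX g fun x hx => by
    obtain ⟨y, hy, e⟩ := hst x hx
    rw [e]; exact emb_mem_range (hX hy)
  have hφX : ∀ x ∈ X, φ x ∈ X := fun x hx => by
    obtain ⟨y, hy, e⟩ := hst x hx
    rwa [emb_inj h.inj (eφ x hx).1 (hX hy) ((eφ x hx).2.trans e)]
  obtain ⟨γ, hγ, eγ⟩ := hφ.exists_aut (img_eq_of_apply hφ le_rfl hφX)
  have heγ : ∀ x ∈ X, emb ι (autFun γ x) = g * emb ι x * g⁻¹ := fun x hx => by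
    rw [eγ x hx, (eφ x hx).2]
  have hpow : ∀ n : ℕ, ∀ x ∈ X, emb ι (autFun (γ ^ n) x) = g ^ n * emb ι x * (g ^ n)⁻¹ := by
    intro n
    induction n with
    | zero => intro x hx; rw [pow_zero, autFun_one hx]; simp
    | succ n ih =>
      intro x hx
      rw [pow_succ, autFun_mul _ _ hx, ih _ (autFun_mem γ hx), heγ x hx, pow_succ]
      group
  have hγcop : (orderOf γ).Coprime p :=
    hcop.coprime_dvd_left (orderOf_dvd_of_pow_eq_one (eq_one_of_autFun fun x hx =>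
      emb_inj h.inj (hX (autFun_mem _ hx)) (hX hx) (by rw [hpow _ x hx, pow_orderOf_eq_one]; simp)))
  have hQXT : Q ≤ X ⊓ T := le_inf hQX hQc.1
  have hXTc : E.IsCentric (X ⊓ T) := centric_of_le hQc hQXT inf_le_right
  have hshift : ∀ x ∈ X, x⁻¹ * autFun γ x ∈ T := fun x hx => by
    have hm : x⁻¹ * autFun γ x ∈ normalizerIn S Q := hX (X.mul_mem (X.inv_mem hx) (autFun_mem γ hx))
    refine (h.mem _ hm).mp ?_
    rw [emb_mul ((normalizerIn S Q).inv_mem (hX hx)) (hX (autFun_mem γ hx)), emb_inv (hX hx),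
      heγ x hx, show (emb ι x)⁻¹ * (g * emb ι x * g⁻¹) = (emb ι x)⁻¹ * g * emb ι x * g⁻¹ by group]
    refine M.mul_mem ?_ (M.inv_mem hg)
    simpa using h.norM.conj_mem g hg (emb ι x)⁻¹
  have hUU : ∀ x ∈ X ⊓ T, autFun γ x ∈ X ⊓ T := fun x hx => by
    refine ⟨autFun_mem γ hx.1, ?_⟩
    have := T.mul_mem hx.2 (hshift x hx.1)
    rwa [mul_inv_cancel_left] at this
  obtain ⟨α, hα, eα⟩ := h.onQ g hg
  obtain ⟨β, hβ, eβ, hβd⟩ := exists_restrict hXS hγ inf_le_left hUU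
  have hβQ : ∀ q ∈ Q, autFun β q = autFun α q := fun q hq => by
    rw [eβ q (hQXT hq)]
    exact emb_inj h.inj (hX (autFun_mem γ (hQX hq))) (le_normalizerIn (hQX.trans hXS)
      (autFun_mem α hq)) ((heγ q (hQX hq)).trans (eα q hq))
  have hβE := mem_sub_of_agree hD hQXT inf_le_right
    (fun x hx q hq => conj_mem_of_mem_normalizer (hX hx.1).2 hq) hQc hQf hβ
    (hγcop.coprime_dvd_left hβd) hα hβQ
  exact ⟨γ, ⟨hXS, hγ, hγcop, hshift, hXTc,
    ((isMap_autFun inf_le_right).mpr hβE).congr fun x hx => (eβ x hx).symm⟩, heγ⟩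

/-- The subgroup of the normalizer over a subgroup of the model. -/
def pre (ι : normalizerIn S Q →* G) (A : Subgroup G) : Subgroup Ω :=
  (A.comap ι).map (normalizerIn S Q).subtype

theorem mem_pre {A : Subgroup G} {x : Ω} :
    x ∈ pre ι A ↔ x ∈ normalizerIn S Q ∧ emb ι x ∈ A := by
  constructor
  · rintro ⟨y, hy, rfl⟩
    exact ⟨y.2, show emb ι (y : Ω) ∈ A by rw [← emb_range]; exact hy⟩
  · rintro ⟨hx, hA⟩
    exact ⟨⟨x, hx⟩, by simpa [emb_eq hx] using hA, rfl⟩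

/-- The property proved along the fusion of the model. -/
def ModGen (F : FusionSystem S) (E : FusionSystem T) (p : ℕ) (ι : normalizerIn S Q →* G)
    (M : Subgroup G) (A : Subgroup G) (φ : G → G) : Prop :=
  ∃ g r f, (∀ a ∈ A, φ a = g * a * g⁻¹) ∧ r ∈ normalizerIn S Q ∧ g * (emb ι r)⁻¹ ∈ M ∧
    Gen F E p (pre ι A) f r ∧
    ∀ x ∈ pre ι A, f x ∈ normalizerIn S Q ∧ emb ι (f x) = g * emb ι x * g⁻¹

theorem isMapClass_modGen (hD : Setup F E p) (h : Mod F E p Q ι M) :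
    IsMapClass (groupFusionSystem ι.range) (ModGen F E p ι M) := by
  haveI := h.norM
  refine ⟨fun A a hA ha => ?_, fun A φ φ' _ e hφ => ?_, fun A B φ _ hB hφ => ?_,
    fun A B φ ψ _ _ hAB hφ hψ => ?_, fun A φ ψ hφm hψm hl hφ => ?_⟩
  · obtain ⟨r, hr, rfl⟩ := exists_emb ha
    refine ⟨emb ι r, r, scF r, fun _ _ => rfl, hr, by simp,
      Gen.conj _ r ((fun x hx => (mem_pre.mp hx).1.1) : pre ι A ≤ S) hr.1, fun x hx => ?_⟩
    have hxN := (mem_pre.mp hx).1
    exact ⟨(normalizerIn S Q).mul_mem ((normalizerIn S Q).mul_mem hr hxN)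
      ((normalizerIn S Q).inv_mem hr), emb_conj hr hxN⟩
  · obtain ⟨g, r, f, e1, h2⟩ := hφ
    exact ⟨g, r, f, fun a ha => (e a ha).trans (e1 a ha), h2⟩
  · obtain ⟨g, r, f, e1, hr, hm, hf, e2⟩ := hφ
    have hle : pre ι B ≤ pre ι A := fun x hx =>
      mem_pre.mpr ⟨(mem_pre.mp hx).1, hB (mem_pre.mp hx).2⟩
    exact ⟨g, r, f, fun a ha => e1 a (hB ha), hr, hm, hf.mono hle, fun x hx => e2 x (hle hx)⟩
  · obtain ⟨g, r, f, e1, hr, hm, hf, e2⟩ := hφ
    obtain ⟨g', r', f', e1', hr', hm', hf', e2'⟩ := hψ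
    have hmem : ∀ x ∈ pre ι A, f x ∈ pre ι B := fun x hx => by
      refine mem_pre.mpr ⟨(e2 x hx).1, ?_⟩
      rw [(e2 x hx).2, ← e1 _ (mem_pre.mp hx).2]
      exact hAB _ (mem_pre.mp hx).2
    refine ⟨g' * g, r' * r, f' ∘ f, fun a ha => ?_, (normalizerIn S Q).mul_mem hr' hr, ?_,
      Gen.comp _ _ f f' r r' hf hf' hmem, fun x hx => ⟨(e2' _ (hmem x hx)).1, ?_⟩⟩
    · show ψ (φ a) = _
      rw [e1' _ (hAB a ha), e1 a ha]
      group
    · rw [emb_mul hr' hr, show g' * g * (emb ι r' * emb ι r)⁻¹ =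
        g' * (g * (emb ι r)⁻¹) * g'⁻¹ * (g' * (emb ι r')⁻¹) by group]
      exact M.mul_mem (h.norM.conj_mem _ hm g') hm'
    · show emb ι (f' (f x)) = _
      rw [(e2' _ (hmem x hx)).2, (e2 x hx).2]
      group
  · obtain ⟨g, r, f, e1, hr, hm, hf, e2⟩ := hφ
    obtain ⟨fi, hfi, efi⟩ := hf.exists_inv hD
    have hAR := hφm.le
    have hmem : ∀ y ∈ pre ι (img A φ), ∃ x ∈ pre ι A, f x = y := fun y hy => by
      obtain ⟨hyN, hyA⟩ := mem_pre.mp hy
      obtain ⟨a, ha, ea⟩ := hφm.mem_img.mp hyA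
      obtain ⟨x, hxN, rfl⟩ := exists_emb (hAR ha)
      have hx : x ∈ pre ι A := mem_pre.mpr ⟨hxN, ha⟩
      refine ⟨x, hx, emb_inj h.inj (e2 x hx).1 hyN ?_⟩
      rw [(e2 x hx).2, ← e1 _ ha, ea]
    refine ⟨g⁻¹, r⁻¹, fi, fun y hy => ?_, (normalizerIn S Q).inv_mem hr, ?_, ?_, fun y hy => ?_⟩
    · obtain ⟨a, ha, rfl⟩ := hφm.mem_img.mp hy
      rw [hl a ha, e1 a ha]
      group
    · rw [emb_inv hr, inv_inv,
        show g⁻¹ * emb ι r = (emb ι r)⁻¹ * (g * (emb ι r)⁻¹)⁻¹ * emb ι r by group]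
      simpa using h.norM.conj_mem _ (M.inv_mem hm) (emb ι r)⁻¹
    · refine hfi.mono fun y hy => ?_
      obtain ⟨x, hx, rfl⟩ := hmem y hy
      exact IsMap.apply_mem_img hx
    · obtain ⟨x, hx, rfl⟩ := hmem y hy
      rw [efi x hx, (e2 x hx).2]
      exact ⟨(mem_pre.mp hx).1, by group⟩

theorem Mod.modGen (hD : Setup F E p) (hQc : E.IsCentric Q) (hQf : E.IsFullyNormalized Q)
    (h : Mod F E p Q ι M) {A : Subgroup G} {φ : G → G}
    (hφ : IsMap (groupFusionSystem ι.range) A φ) : ModGen F E p ι M A φ := by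
  haveI := h.norM
  have hQS : Q ≤ S := hQc.1.trans hD.le
  have hNp : IsPGroup p (normalizerIn S Q) :=
    hD.grp.of_injective _ (Subgroup.inclusion_injective inf_le_left)
  have hRp : IsPGroup p ι.range := hNp.of_surjective _ (MonoidHom.rangeRestrict_surjective _)
  set R := hRp.toSylow h.syl
  have hsat : (groupFusionSystem ι.range).IsSaturated p := saturated_group (S := R)
  have hquot : IsPGroup p (G ⧸ M) := by
    refine hNp.of_surjective ((QuotientGroup.mk' M).comp ι) fun x => ?_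
    induction x using QuotientGroup.induction_on with
    | H g =>
      obtain ⟨m, hm, r, hr, rfl⟩ := h.decomp g
      refine ⟨⟨r, hr⟩, ?_⟩
      show (QuotientGroup.mk' M) (ι ⟨r, hr⟩) = _
      rw [← emb_eq hr, QuotientGroup.mk'_apply, QuotientGroup.eq]
      have := h.norM.conj_mem m hm (emb ι r)⁻¹
      rwa [inv_inv, mul_assoc] at this
  have hcls := isMapClass_modGen hD h
  have hgood : ∀ A, (groupFusionSystem ι.range).IsFullyNormalized A →
      ∀ β ∈ (groupFusionSystem ι.range).autGroup A, ModGen F E p ι M A (autFun β) := by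
    intro A hAn
    have hA := hAn.1
    suffices (groupFusionSystem ι.range).autGroup A ≤ goodAut _ _ hcls A hA from
      fun β hβ => (this hβ).2
    refine PPower.autGroup_le_of hRp le_rfl hsat hAn (autInducedBy_le_good hcls hA)
      fun β hβ hcop => ⟨hβ, ?_⟩
    rw [autGroup_group hA] at hβ
    obtain ⟨a, -, ea⟩ := mem_autInducedBy.mp hβ
    obtain ⟨e, he, he1⟩ := NormCent.exists_coprime_power a hcop
    set g := a ^ e
    have hβe : β ^ e = β := by
      conv_rhs => rw [← pow_one β]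
      exact pow_eq_pow_iff_modEq.mpr he1
    have hpow : ∀ n : ℕ, ∀ y ∈ A, autFun (β ^ n) y = a ^ n * y * (a ^ n)⁻¹ := by
      intro n
      induction n with
      | zero => intro y hy; rw [pow_zero, autFun_one hy]; simp
      | succ n ih =>
        intro y hy
        rw [pow_succ, autFun_mul _ _ hy, ih _ (autFun_mem β hy), autFun_apply_mem β hy, ea,
          pow_succ]
        group
    have eg : ∀ y ∈ A, autFun β y = g * y * g⁻¹ := fun y hy => by
      conv_lhs => rw [← hβe]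
      exact hpow e y hy
    have hgM : g ∈ M := Cfsg.Lib.Transfer.mem_of_isPGroup_quotient_of_coprime M hquot he
    -- the stabilized subgroup
    have hpreN : pre ι A ≤ normalizerIn S Q := fun x hx => (mem_pre.mp hx).1
    set X := pre ι A ⊔ Q
    have hXN : X ≤ normalizerIn S Q := sup_le hpreN (le_normalizerIn hQS)
    have hXsub : sub ι X = sub ι (pre ι A) ⊔ sub ι Q := by
      show (X.subgroupOf _).map ι = _
      rw [Subgroup.subgroupOf_sup hpreN (le_normalizerIn hQS), Subgroup.map_sup]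
      rfl
    have hle : sub ι X ≤ (sub ι X).comap (MulAut.conj g).toMonoidHom := by
      conv_lhs => rw [hXsub]
      refine sup_le (fun l hl => ?_) fun l hl => ?_
      · obtain ⟨x, hx, rfl⟩ := (mem_sub hpreN).mp hl
        have hxA := (mem_pre.mp hx).2
        have h1 : g * emb ι x * g⁻¹ ∈ A := eg _ hxA ▸ autFun_mem β hxA
        obtain ⟨y, hyN, ey⟩ := exists_emb (hA h1)
        show g * emb ι x * g⁻¹ ∈ sub ι X
        rw [← ey]
        exact emb_mem_sub hXN (Subgroup.mem_sup_left (mem_pre.mpr ⟨hyN, ey ▸ h1⟩))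
      · obtain ⟨q, hq, rfl⟩ := (mem_sub (le_normalizerIn hQS)).mp hl
        obtain ⟨q', hq', e'⟩ := h.stable hQS g hq
        show g * emb ι q * g⁻¹ ∈ sub ι X
        rw [e']
        exact emb_mem_sub hXN (Subgroup.mem_sup_right hq')
    obtain ⟨γ, hγ, eγ⟩ := h.exists_prim hD hQc hQf hXN le_sup_right hgM he fun x hx => by
      obtain ⟨y, hy, e'⟩ := (mem_sub hXN).mp (hle (emb_mem_sub hXN hx))
      exact ⟨y, hy, e'.symm⟩
    exact ⟨g, 1, autFun γ, eg, Subgroup.one_mem _,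
      by rwa [emb_eq (Subgroup.one_mem (normalizerIn S Q)), show (⟨1, Subgroup.one_mem _⟩ :
        normalizerIn S Q) = 1 from rfl, map_one, inv_one, mul_one],
      (Gen.prim X γ hγ).mono le_sup_left, fun x hx =>
        ⟨hXN (autFun_mem γ (Subgroup.mem_sup_left hx)), eγ x (Subgroup.mem_sup_left hx)⟩⟩
  have htop : (groupFusionSystem ι.range).IsFullyNormalized ι.range :=
    ⟨le_rfl, fun B hB => by
      obtain ⟨f, hf, rfl⟩ := isConj_iff.mp hB
      rw [Subgroup.eq_of_le_of_card_ge hf.img_le hf.card_img.ge]⟩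
  refine alperin_radical hRp hsat hcls (fun ψ hψ => ?_)
    (fun B _ hBn _ _ _ β hβ => hgood B hBn β hβ) hφ
  obtain ⟨β, hβ, e⟩ := hψ.exists_aut (Subgroup.eq_of_le_of_card_ge hψ.img_le hψ.card_img.ge)
  exact hcls.congr _ _ ψ ((isMap_autFun le_rfl).mpr hβ) (fun x hx => (e x hx).symm)
    (hgood _ htop β hβ)

/-- Conjugation in the model between subgroups of the normalizer is a generated map. -/
theorem Mod.gen (hD : Setup F E p) (hQc : E.IsCentric Q) (hQf : E.IsFullyNormalized Q)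
    (h : Mod F E p Q ι M) {P : Subgroup Ω} (hQP : Q ≤ P) (hP : P ≤ normalizerIn S Q) {g : G}
    (hg : ∀ x ∈ P, g * emb ι x * g⁻¹ ∈ ι.range) :
    ∃ f r, Gen F E p P f r ∧ r ∈ normalizerIn S Q ∧ g * (emb ι r)⁻¹ ∈ M ∧
      ∀ x ∈ P, f x ∈ normalizerIn S Q ∧ emb ι (f x) = g * emb ι x * g⁻¹ := by
  haveI := h.norM
  have hA : sub ι P ≤ ι.range := Subgroup.map_le_range ι _
  have hconj : IsMap (groupFusionSystem ι.range) (sub ι P) (fun a => g * a * g⁻¹) :=
    isMap_group_iff.mpr ⟨hA, fun a ha => by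
      obtain ⟨x, hx, rfl⟩ := (mem_sub hP).mp ha
      exact hg x hx, g, fun _ _ => rfl⟩
  obtain ⟨g', r, f, e1, hr, hm, hf, e2⟩ := h.modGen hD hQc hQf hconj
  have hle : P ≤ pre ι (sub ι P) := fun x hx => mem_pre.mpr ⟨hP hx, emb_mem_sub hP hx⟩
  replace e1 : ∀ a ∈ sub ι P, g * a * g⁻¹ = g' * a * g'⁻¹ := e1
  have hfix : ∀ x ∈ P, g'⁻¹ * g * emb ι x * (g'⁻¹ * g)⁻¹ = emb ι x := fun x hx => by
    rw [show g'⁻¹ * g * emb ι x * (g'⁻¹ * g)⁻¹ = g'⁻¹ * (g * emb ι x * g⁻¹) * g' by group,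
      e1 _ (emb_mem_sub hP hx)]
    group
  obtain ⟨c, hc, ec⟩ := h.cent_range hD.grp (hQc.1.trans hD.le) fun q hq => hfix q (hQP hq)
  have hcN : c ∈ (normalizerIn S Q) := centralizerIn_le_normalizerIn Q hc
  have hcP : ∀ x ∈ P, c * x * c⁻¹ = x := fun x hx =>
    emb_inj h.inj ((normalizerIn S Q).mul_mem ((normalizerIn S Q).mul_mem hcN (hP hx)) ((normalizerIn S Q).inv_mem hcN)) (hP hx)
      (by rw [emb_conj hcN (hP hx), ec]; exact hfix x hx)
  refine ⟨f, r * c, (Gen.comp P P (scF c) f c r (Gen.conj P c (hP.trans inf_le_left) hc.1)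
      (hf.mono hle) fun x hx => ?_).congr fun x hx => ?_, (normalizerIn S Q).mul_mem hr hcN, ?_, fun x hx => ?_⟩
  · show c * x * c⁻¹ ∈ P
    rwa [hcP x hx]
  · show f x = f (c * x * c⁻¹)
    rw [hcP x hx]
  · rw [emb_mul hr hcN, ec]
    rwa [show g * (emb ι r * (g'⁻¹ * g))⁻¹ = g' * (emb ι r)⁻¹ by group]
  · refine ⟨(e2 x (hle hx)).1, ?_⟩
    rw [(e2 x (hle hx)).2, e1 _ (emb_mem_sub hP hx)]

end Cfsg.Lib.Fusion.Product
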