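import Cfsg.Agent.Fusion.Product.Reach
import Cfsg.Agent.Fusion.NormalCentralizer.Realize

/-!
Representatives exist and every normalizer moves into the normalizer of a representative.
-/

set_option autoImplicit false
set_option linter.unusedSectionVars false
set_option linter.style.haveILetI false
set_option maxHeartbeats 400000

namespace Cfsg.Lib.Fusion.Product

open Cfsg Cfsg.FusionSystem Cfsg.Lib.Fusion Cfsg.Lib.Fusion.SmallCent

universe u

variable {Ω : Type u} [Group Ω] {S T : Subgroup Ω} {F : FusionSystem S} {E : FusionSystem T}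
  {p : ℕ} [Finite S] [Fact p.Prime]

/-- The automorphisms of `V` in the subsystem or induced by `S`. -/
def amb (S : Subgroup Ω) (E : FusionSystem T) (V : Subgroup Ω) : Subgroup (MulAut V) :=
  E.autGroup V ⊔ autInducedBy S V

theorem amb_le (hD : Setup F E p) {V : Subgroup Ω} (hV : V ≤ T) :
    amb S E V ≤ F.autGroup V :=
  sup_le (PPower.autGroup_le_of_sub hD.inv.1 hV hD.le) (autInducedBy_le (hV.trans hD.le))

theorem conj_mem_of_amb (hD : Setup F E p) {V : Subgroup Ω} (hV : V ≤ T) {γ α : MulAut V}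
    (hγ : γ ∈ amb S E V) (hα : α ∈ E.autGroup V) : γ * α * γ⁻¹ ∈ E.autGroup V :=
  PPower.conj_mem_autGroup hD.inv hV (amb_le hD hV hγ) hα

theorem amb_decomp (hD : Setup F E p) {V : Subgroup Ω} (hV : V ≤ T) {γ : MulAut V}
    (hγ : γ ∈ amb S E V) :
    ∃ w ∈ autInducedBy S V, ∃ a ∈ E.autGroup V, γ = w * a := by
  haveI := finite_of_le (hV.trans hD.le)
  haveI := NormCent.finite_mulAut V
  have hn : autInducedBy S V ≤ Subgroup.normalizer (E.autGroup V : Set (MulAut V)) := fun w hw =>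
    mem_normalizer_of_maps_finite fun α hα =>
      conj_mem_of_amb hD hV (Subgroup.mem_sup_right hw) hα
  have h : γ ∈ ((autInducedBy S V ⊔ E.autGroup V : Subgroup (MulAut V)) : Set (MulAut V)) := by
    rw [sup_comm]; exact hγ
  rw [Subgroup.coe_mul_of_left_le_normalizer_right _ _ hn] at h
  obtain ⟨w, hw, a, ha, rfl⟩ := h
  exact ⟨w, hw, a, ha, rfl⟩

/-- At a fully normalized subgroup every `p`-group of such automorphisms is conjugate into the
induced ones. -/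
theorem amb_conj (hD : Setup F E p) {V : Subgroup Ω} (hV : E.IsFullyNormalized V)
    {X : Subgroup (MulAut V)} (hX : IsPGroup p X) (hXA : X ≤ amb S E V) :
    ∃ γ ∈ amb S E V, ∀ ξ ∈ X, γ * ξ * γ⁻¹ ∈ autInducedBy S V := by
  have hVT := hV.1
  haveI := finite_of_le (hVT.trans hD.le)
  haveI := finite_of_le hD.le
  haveI := NormCent.finite_mulAut V
  set W := autInducedBy S V
  set H := amb S E V
  have hWp : IsPGroup p W := isPGroup_autInducedBy hD.grp V
  have hWmax : ∀ Y : Subgroup (MulAut V), IsPGroup p Y → Y ≤ H → W ≤ Y → Y ≤ W := by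
    intro Y hY hYH hWY ξ hξ
    obtain ⟨w, hw, a, ha, rfl⟩ := amb_decomp hD hVT (hYH hξ)
    have haY : a ∈ Y := by
      have := Y.mul_mem (Y.inv_mem (hWY hw)) hξ
      rwa [inv_mul_cancel_left] at this
    obtain ⟨-, P, hP⟩ := (fullyNormalized_props hD.grpT hD.satE hV).2.1
    have hI : IsPGroup p (Y.subgroupOf (E.autGroup V)) :=
      hY.comap_of_injective _ (Subgroup.subtype_injective _)
    have heq := P.3 hI (hP.le.trans (Subgroup.comap_mono ((autInducedBy_mono hD.le).trans hWY)))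
    have hmem : (⟨a, ha⟩ : E.autGroup V) ∈ (autInducedBy T V).subgroupOf (E.autGroup V) := by
      rw [← hP, ← heq]; exact haY
    exact W.mul_mem hw (autInducedBy_mono hD.le hmem)
  obtain ⟨V₁, hV₁⟩ := (hWp.comap_of_injective H.subtype H.subtype_injective).exists_le_sylow
  obtain ⟨V₂, hV₂⟩ := (hX.comap_of_injective H.subtype H.subtype_injective).exists_le_sylow
  obtain ⟨η, hη⟩ := MulAction.exists_smul_eq H V₂ V₁
  refine ⟨η, η.2, fun ξ hξ => ?_⟩
  have h1 : η * (⟨ξ, hXA hξ⟩ : H) * η⁻¹ ∈ ((η • V₂ : Sylow p H) : Subgroup H) :=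
    ⟨_, hV₂ (show (⟨ξ, hXA hξ⟩ : H) ∈ X.subgroupOf H from hξ), rfl⟩
  rw [hη] at h1
  exact hWmax ((V₁ : Subgroup H).map H.subtype) (V₁.2.map _) (Subgroup.map_subtype_le _)
    (fun w hw => ⟨⟨w, Subgroup.mem_sup_right hw⟩, hV₁ hw, rfl⟩) ⟨_, h1, rfl⟩

/-- The extension by an element of the ambient group of automorphisms. -/
theorem ext_amb (hD : Setup F E p) {V : Subgroup Ω} (hrep : IsRep S E V) (hext : CanExt F E p V)
    {γ : MulAut V} (hγ : γ ∈ amb S E V) {B : Subgroup Ω} (hVB : V ≤ B)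
    (hBN : B ≤ normalizerIn S V)
    (hB : ∀ β ∈ autInducedBy B V, γ * β * γ⁻¹ ∈ autInducedBy S V) :
    ∃ f s, Gen F E p B f s ∧ (∀ v ∈ V, f v = autFun γ v) ∧ ∀ x ∈ B, f x ∈ normalizerIn S V := by
  have hVT := hrep.full.1
  have hVS := hVT.trans hD.le
  haveI := finite_of_le hVS
  obtain ⟨w, hw, a, ha, rfl⟩ := amb_decomp hD hVT hγ
  obtain ⟨r, hr, er⟩ := mem_autInducedBy.mp hw
  have hext' : B ≤ extSub S V (autFun a) := fun x hx => by
    set cx := conjAut V x (hBN hx).2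
    have h1 := hB cx (conjAut_mem_autInducedBy _ hx)
    have h2 : a * cx * a⁻¹ ∈ autInducedBy S V := by
      have := Subgroup.mul_mem _ (Subgroup.mul_mem _ (Subgroup.inv_mem _ hw) h1) hw
      rwa [show w⁻¹ * (w * a * cx * (w * a)⁻¹) * w = a * cx * a⁻¹ by group] at this
    obtain ⟨y, hy, ey⟩ := mem_autInducedBy.mp h2
    refine ⟨(hBN hx).1, (hBN hx).2, y, hy, fun v hv => ?_⟩
    have h := ey ⟨autFun a v, autFun_mem a hv⟩
    rw [← autFun_apply, autFun_mul _ _ (autFun_mem a hv), autFun_inv_apply' a hv,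
      autFun_mul _ _ hv, autFun_apply_mem cx hv, conjAut_apply] at h
    exact h
  obtain ⟨f, hf, ef⟩ := hext hrep a ha B hVB hext'
  obtain ⟨hfm, -⟩ := hf.isMap hD
  refine ⟨scF r ∘ f, r * 1, Gen.comp B S f (scF r) 1 r hf (Gen.conj S r le_rfl hr)
    (fun x hx => hfm.mem_S hx), fun v hv => ?_, fun x hx => ?_⟩
  · show r * f v * r⁻¹ = _
    rw [ef v hv, autFun_mul _ _ hv, autFun_apply_mem w (autFun_mem a hv), er]
  · have hi : img V f = V := by rw [img_congr ef, img_autFun]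
    have h1 := hfm.mem_normalizerIn hVB hx (hBN hx).2
    rw [hi] at h1
    exact (normalizerIn S V).mul_mem ((normalizerIn S V).mul_mem
      ⟨hr, mem_normalizer_of_mem_autInducedBy er⟩ h1)
      ((normalizerIn S V).inv_mem ⟨hr, mem_normalizer_of_mem_autInducedBy er⟩)

theorem reach_top (hD : Setup F E p) : Reach F E p T := by
  haveI := finite_of_le hD.le
  have hTS := hD.le
  have hfull : E.IsFullyNormalized T := ⟨le_rfl, fun Q hQ => by
    obtain ⟨f, hf, rfl⟩ := isConj_iff.mp hQ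
    rw [Subgroup.eq_of_le_of_card_ge hf.img_le hf.card_img.ge]⟩
  have hrep : IsRep S E T := ⟨hfull, fun s hs _ =>
    ⟨s, ⟨hs, hD.normalizes hs⟩, by simp⟩⟩
  obtain ⟨ho, hr⟩ := ch_spec (orb_refl (S := S) (E := E) le_rfl) hrep
  obtain ⟨s, hs, hc⟩ := id ho
  have himg : img T (scF s) = T :=
    img_eq_of_apply (isMap_conj (F := F) hTS hs) le_rfl fun x hx => hD.conjT hs hx
  rw [himg] at hc
  have hch : ch S E T = T := Subgroup.eq_of_le_of_card_ge (isConj_le hc).2 (isConj_card hc).ge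
  exact ⟨hr, ho, id, 1, Gen.id' inf_le_left, (img_id T).trans hch.symm⟩

set_option maxHeartbeats 1600000 in
/-- Reaching the representative below. -/
theorem reach_step (hD : Setup F E p) {U : Subgroup Ω} (hU : U ≤ T)
    (ih : ∀ V : Subgroup Ω, V ≤ T → Nat.card U < Nat.card V → Reach F E p V ∧ CanExt F E p V) :
    Reach F E p U := by
  haveI := finite_of_le hD.le
  haveI := finite_of_le hU
  rcases eq_or_ne U T with rfl | hne
  · exact reach_top hD
  have hUS := hU.trans hD.le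
  have hUN := le_normalizerIn hUS
  set N₀ := normalizerIn S U
  -- the best target
  set Tg : Set (Subgroup Ω) := {U' | ∃ f s, Gen F E p N₀ f s ∧ img U f = U'}
  have hTgS : ∀ U' ∈ Tg, U' ≤ T ∧ Orb S E U U' ∧ Nat.card U' = Nat.card U := by
    rintro _ ⟨f, s, hf, rfl⟩
    have hm := ((hf.isMap hD).1).mono hUN
    exact ⟨IsMap.img_le_iff.mpr fun x hx => stronglyClosed_apply hD.sc hm hx (hU hx),
      hf.orb hD (le_inf hUN hU), hm.card_img⟩
  have hfin : Tg.Finite :=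
    finite_subgroups_le.subset fun U' h => (hTgS U' h).1.trans hD.le
  obtain ⟨U', hU', hmax⟩ := Set.exists_max_image Tg (fun W => Nat.card (normalizerIn S W)) hfin
    ⟨U, id, 1, Gen.id' inf_le_left, img_id U⟩
  obtain ⟨hU'T, -, hU'c⟩ := hTgS U' hU'
  have hU'S := hU'T.trans hD.le
  have hstep : ∀ (g : Ω → Ω) (t : Ω), Gen F E p (normalizerIn S U') g t → img U' g ∈ Tg := by
    intro g t hg
    obtain ⟨f, s, hf, hfi⟩ := hU'
    obtain ⟨hfm, -⟩ := hf.isMap hD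
    refine ⟨g ∘ f, t * s, Gen.comp _ _ _ _ _ _ hf hg fun x hx =>
      hfi ▸ hfm.mem_normalizerIn hUN hx hx.2, ?_⟩
    rw [img_comp (hfm.mono hUN) (hfi.symm ▸ ((hg.isMap hD).1).mono (le_normalizerIn hU'S)), hfi]
  -- move to a representative of the normalizer
  set V := normalizerIn T U'
  have hVT : V ≤ T := inf_le_left
  have hVS := hVT.trans hD.le
  haveI := finite_of_le hVT
  have hU'V : U' < V := lt_normalizerIn hD.grpT (lt_of_le_of_ne hU'T fun e => hne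
    (Subgroup.eq_of_le_of_card_ge hU (by rw [← hU'c, e])))
  have hcardV : Nat.card U < Nat.card V := hU'c ▸ card_lt_of_lt hU'V
  obtain ⟨⟨hrepV, horbV, ω, l, hω, hωi⟩, -⟩ := ih V hVT hcardV
  obtain ⟨hωm, hl⟩ := hω.isMap hD
  have hVN := le_normalizerIn hVS
  have hN'V : normalizerIn S U' ≤ normalizerIn S V := fun x hx => by
    refine ⟨hx.1, mem_normalizer_of_maps_finite fun t ht => ⟨hD.conjT hx.1 ht.1, ?_⟩⟩
    exact Subgroup.mul_mem _ (Subgroup.mul_mem _ hx.2 ht.2) (Subgroup.inv_mem _ hx.2)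
  set Vs := ch S E V
  have hVsT : Vs ≤ T := hrepV.full.1
  have hVsS := hVsT.trans hD.le
  haveI := finite_of_le hVsT
  haveI := NormCent.finite_mulAut Vs
  have hVscard : Nat.card Vs = Nat.card V := by rw [← hωi, (hωm.mono hVN).card_img]
  have hext : CanExt F E p Vs := (ih Vs hVsT (hVscard.symm ▸ hcardV)).2
  set U₁ := img U' ω
  have hU₁Tg : U₁ ∈ Tg := hstep ω l (hω.mono hN'V)
  obtain ⟨hU₁T, horb₁, hU₁c⟩ := hTgS U₁ hU₁Tg
  have hU₁S := hU₁T.trans hD.le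
  haveI := finite_of_le hU₁T
  have hU₁Vs : U₁ ≤ Vs := hωi ▸ img_mono hU'V.le ω
  set N₁ := normalizerIn S U₁
  have hωN : ∀ x ∈ normalizerIn S U', ω x ∈ N₁ := fun x hx =>
    hωm.mem_normalizerIn ((le_normalizerIn hU'S).trans hN'V) (hN'V hx) hx.2
  have honto : ∀ y ∈ N₁, ∃ x ∈ normalizerIn S U', ω x = y := fun y hy =>
    exists_preimage_of_card_le hωm hN'V inf_le_left hωN (hmax U₁ hU₁Tg) hy
  have hN₁T : normalizerIn T U₁ = Vs := by
    refine le_antisymm (fun t ht => ?_) fun y hy => ?_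
    · obtain ⟨x, hx, rfl⟩ := honto t ⟨hD.le ht.1, ht.2⟩
      rw [← hωi]
      exact IsMap.apply_mem_img
        ⟨mem_of_apply_mem_stronglyClosed hD.sc hωm (hN'V hx) ht.1, hx.2⟩
    · obtain ⟨v, hv, rfl⟩ := (hωm.mono hVN).mem_img.mp (hωi.ge hy)
      exact ⟨stronglyClosed_apply hD.sc hωm (hVN hv) hv.1, (hωN v ⟨hD.le hv.1, hv.2⟩).2⟩
  have hN₁Vs : N₁ ≤ normalizerIn S Vs := fun x hx => by
    refine ⟨hx.1, mem_normalizer_of_maps_finite fun t ht => ?_⟩
    rw [← hN₁T] at ht ⊢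
    exact ⟨hD.conjT hx.1 ht.1,
      Subgroup.mul_mem _ (Subgroup.mul_mem _ hx.2 ht.2) (Subgroup.inv_mem _ hx.2)⟩
  have hVsN₁ : Vs ≤ N₁ := hN₁T ▸ fun t ht => ⟨hD.le ht.1, ht.2⟩
  have hcard₁ : Nat.card (normalizerIn S U') ≤ Nat.card N₁ :=
    card_le_of_isMap (hωm.mono hN'V) le_rfl inf_le_left hωN
  -- the stabilizer and its Sylow subgroup
  let Stab : Subgroup (MulAut Vs) :=
    { carrier := {γ | γ ∈ amb S E Vs ∧
        (∀ x ∈ U₁, autFun γ x ∈ U₁) ∧ ∀ x ∈ U₁, autFun γ⁻¹ x ∈ U₁}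
      one_mem' := ⟨Subgroup.one_mem _, fun x hx => by rwa [autFun_one (hU₁Vs hx)],
        fun x hx => by rwa [inv_one, autFun_one (hU₁Vs hx)]⟩
      mul_mem' := fun {α β} hα hβ => ⟨Subgroup.mul_mem _ hα.1 hβ.1,
        fun x hx => by rw [autFun_mul _ _ (hU₁Vs hx)]; exact hα.2.1 _ (hβ.2.1 x hx),
        fun x hx => by rw [mul_inv_rev, autFun_mul _ _ (hU₁Vs hx)]; exact hβ.2.2 _ (hα.2.2 x hx)⟩
      inv_mem' := fun {α} hα =>
        ⟨Subgroup.inv_mem _ hα.1, hα.2.2, by rw [inv_inv]; exact hα.2.1⟩ }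
  set B₁ := autInducedBy N₁ Vs
  have hB₁ : B₁ ≤ Stab := by
    intro β hβ
    have hmaps : ∀ γ ∈ B₁, ∀ x ∈ U₁, autFun γ x ∈ U₁ := fun γ hγ x hx => by
      obtain ⟨r, hr, er⟩ := mem_autInducedBy.mp hγ
      rw [autFun_apply_mem γ (hU₁Vs hx), er]
      exact conj_mem_of_mem_normalizer hr.2 hx
    exact ⟨Subgroup.mem_sup_right (autInducedBy_mono inf_le_left hβ), hmaps β hβ,
      hmaps _ (B₁.inv_mem hβ)⟩
  have hB₁p : IsPGroup p B₁ :=
    (isPGroup_autInducedBy hD.grp Vs).to_le (autInducedBy_mono inf_le_left)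
  have hB₁max : ∀ X : Subgroup (MulAut Vs), IsPGroup p X → X ≤ Stab → B₁ ≤ X → X ≤ B₁ := by
    intro X hX hXS hBX ξ hξ
    obtain ⟨γ, hγ, hγX⟩ := amb_conj hD hrepV.full hX fun x hx => (hXS hx).1
    obtain ⟨f, t, hf, ef, hfN⟩ := ext_amb hD hrepV hext hγ hVsN₁ hN₁Vs fun β hβ => hγX β (hBX hβ)
    set U₂ := img U₁ f
    have hcomp := Gen.comp _ _ ω f l t (hω.mono hN'V) hf hωN
    have hU₂ : U₂ ∈ Tg := by
      have := hstep _ _ hcomp
      rwa [img_comp (hωm.mono ((le_normalizerIn hU'S).trans hN'V))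
        (((hf.isMap hD).1).mono (le_normalizerIn hU₁S))] at this
    have hfm := (hf.isMap hD).1
    obtain ⟨y, hy, ey⟩ := mem_autInducedBy.mp (hγX ξ hξ)
    have hy2 : y ∈ normalizerIn S U₂ := by
      haveI := finite_of_le ((hTgS U₂ hU₂).1.trans hD.le)
      refine ⟨hy, mem_normalizer_of_maps_finite fun z hz => ?_⟩
      obtain ⟨u, hu, rfl⟩ := (hfm.mono (le_normalizerIn hU₁S)).mem_img.mp hz
      have hu' := hU₁Vs hu
      have h := ey ⟨autFun γ u, autFun_mem γ hu'⟩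
      rw [← autFun_apply, autFun_mul _ _ (autFun_mem γ hu'), autFun_inv_apply' γ hu',
        autFun_mul _ _ hu'] at h
      rw [ef u hu', ← h, ← ef _ (autFun_mem ξ hu')]
      exact IsMap.apply_mem_img ((hXS hξ).2.1 u hu)
    obtain ⟨x, hx, rfl⟩ := exists_preimage_of_card_le hfm le_rfl inf_le_left
      (fun x hx => hfm.mem_normalizerIn (le_normalizerIn hU₁S) hx hx.2)
      ((hmax U₂ hU₂).trans hcard₁) hy2
    refine mem_autInducedBy.mpr ⟨x, hx, fun v => ?_⟩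
    have h := ey ⟨autFun γ v, autFun_mem γ v.2⟩
    rw [← autFun_apply, autFun_mul _ _ (autFun_mem γ v.2), autFun_inv_apply' γ v.2,
      autFun_mul _ _ v.2] at h
    have hxv : x * (v : Ω) * x⁻¹ ∈ Vs := conj_mem_of_mem_normalizer (hN₁Vs hx).2 v.2
    rw [show ((⟨autFun γ v, autFun_mem γ v.2⟩ : Vs) : Ω) = f v from (ef v v.2).symm,
      ← hfm.map_conj hx (hVsN₁ v.2), ef _ hxv] at h
    have h' := congrArg (autFun γ⁻¹) h
    rw [autFun_inv_apply' γ (autFun_mem ξ v.2), autFun_inv_apply' γ hxv] at h'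
    rw [← autFun_apply]
    exact h'
  obtain ⟨P₁, hP₁⟩ := (hB₁p.comap_of_injective Stab.subtype Stab.subtype_injective).exists_le_sylow
  have hP₁B : ∀ v : Stab, v ∈ (P₁ : Subgroup Stab) → (v : MulAut Vs) ∈ B₁ := fun v hv =>
    hB₁max ((P₁ : Subgroup Stab).map Stab.subtype) (P₁.2.map _) (Subgroup.map_subtype_le _)
      (fun w hw => ⟨⟨w, hB₁ hw⟩, hP₁ hw, rfl⟩) ⟨v, hv, rfl⟩
  have hsyl : ∀ X : Subgroup (MulAut Vs), IsPGroup p X → X ≤ Stab →
      ∃ k ∈ Stab, ∀ ξ ∈ X, k * ξ * k⁻¹ ∈ B₁ := by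
    intro X hX hXS
    obtain ⟨P₂, hP₂⟩ := (hX.comap_of_injective Stab.subtype Stab.subtype_injective).exists_le_sylow
    obtain ⟨η, hη⟩ := MulAction.exists_smul_eq Stab P₂ P₁
    refine ⟨η, η.2, fun ξ hξ => ?_⟩
    have h1 : η * (⟨ξ, hXS hξ⟩ : Stab) * η⁻¹ ∈ ((η • P₂ : Sylow p Stab) : Subgroup Stab) :=
      ⟨_, hP₂ (show (⟨ξ, hXS hξ⟩ : Stab) ∈ X.subgroupOf Stab from hξ), rfl⟩
    rw [hη] at h1
    exact hP₁B _ h1
  -- the part inside the subsystem
  have hBE : ∀ β ∈ B₁, β ∈ E.autGroup Vs → β ∈ Inn Vs := by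
    intro β hβ hβE
    obtain ⟨t, ht, et⟩ := mem_autInducedBy.mp
      (mem_autInducedBy_sub hD hrepV.full hβE (autInducedBy_mono inf_le_left hβ))
    have ht' : t ∈ Vs := by
      rw [← hN₁T]
      refine ⟨ht, mem_normalizer_of_maps_finite fun x hx => ?_⟩
      rw [← et ⟨x, hU₁Vs hx⟩, ← autFun_apply]
      exact (hB₁ hβ).2.1 x hx
    exact ⟨⟨t, ht'⟩, MulEquiv.ext fun x => Subtype.ext (et x).symm⟩
  -- fully normalized
  have hfull₁ : E.IsFullyNormalized U₁ := by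
    obtain ⟨U₀, hU₁U₀, hU₀⟩ := exists_fullyNormalized (F := E) hU₁T
    obtain ⟨f₀, hf₀, hi₀⟩ := isConj_iff.mp hU₁U₀
    obtain ⟨-, hfa, hrec⟩ := fullyNormalized_props hD.grpT hD.satE hU₀
    obtain ⟨-, -, e, he, hei, -, heN⟩ := exists_map_normalizer hD.grpT hfa hrec hf₀ hi₀
    rw [hN₁T] at he heN
    refine full_of_card hU₀ (isConj_symm hU₁U₀) ?_
    rw [hN₁T]
    by_contra hgt
    push Not at hgt
    set N' := img Vs e
    have hN'T : N' ≤ T := he.img_le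
    haveI := finite_of_le hN'T
    haveI : Finite (normalizerIn T U₀) := finite_of_le inf_le_left
    have hN'le : N' ≤ normalizerIn T U₀ := IsMap.img_le_iff.mpr heN
    have hlt : N' < normalizerIn T U₀ := lt_of_le_of_ne hN'le fun e' => by
      have := he.card_img
      rw [show img Vs e = normalizerIn T U₀ from e'] at this
      omega
    obtain ⟨t, ht, htn⟩ := SetLike.exists_of_lt
      (lt_inf_normalizer hD.grpT hlt (inf_le_left : normalizerIn T U₀ ≤ T))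
    have htN : t ∈ normalizerIn T U₀ := ht.1
    have htn' : t ∈ Subgroup.normalizer (N' : Set Ω) := ht.2
    obtain ⟨e', he', he'i, he'l, he'r⟩ := he.exists_inv
    set β := MulAut.congr (he'.equiv he'i) (conjAut N' t htn')
    have hβE : β ∈ E.autGroup Vs :=
      congr_mem_autGroup he' he'i (autInducedBy_le hN'T (conjAut_mem_autInducedBy htn' htN.1))
    have hU₀e : ∀ z ∈ U₀, e' z ∈ U₁ := fun z hz => by
      obtain ⟨u, hu, rfl⟩ := (he.mono hU₁Vs).mem_img.mp (hei.ge hz)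
      rw [he'l u (hU₁Vs hu)]
      exact hu
    have hβU : ∀ s' : Ω, s' ∈ normalizerIn T U₀ → ∀ hs' : s' ∈ Subgroup.normalizer (N' : Set Ω),
        ∀ x ∈ U₁, autFun (MulAut.congr (he'.equiv he'i) (conjAut N' s' hs')) x ∈ U₁ := by
      intro s' hs'U hs' x hx
      have hex : e x ∈ N' := IsMap.apply_mem_img (hU₁Vs hx)
      have h := congr_equiv_spec he' he'i (conjAut N' s' hs') hex
      rw [he'l x (hU₁Vs hx), autFun_apply_mem _ hex, conjAut_apply] at h
      rw [h]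
      exact hU₀e _ (conj_mem_of_mem_normalizer hs'U.2 (hei.le (IsMap.apply_mem_img hx)))
    have hβS : β ∈ Stab := by
      refine ⟨Subgroup.mem_sup_left hβE, hβU t htN htn', ?_⟩
      have hinv : β⁻¹ = MulAut.congr (he'.equiv he'i)
          (conjAut N' t⁻¹ (Subgroup.inv_mem _ htn')) := by
        rw [← map_inv]
        refine congrArg _ (inv_eq_of_mul_eq_one_right (MulEquiv.ext fun z => Subtype.ext ?_))
        show ((conjAut N' t htn' (conjAut N' t⁻¹ _ z) : N') : Ω) = z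
        rw [conjAut_apply, conjAut_apply]
        group
      rw [hinv]
      exact hβU _ (Subgroup.inv_mem _ htN) _
    have hzp : IsPGroup p (Subgroup.zpowers β) :=
      (((isPGroup_autInducedBy hD.grpT N').map (MulAut.congr (he'.equiv he'i)).toMonoidHom)).to_le
        (Subgroup.zpowers_le.mpr ⟨_, conjAut_mem_autInducedBy htn' htN.1, rfl⟩)
    obtain ⟨k, hk, hkX⟩ := hsyl _ hzp (Subgroup.zpowers_le.mpr hβS)
    have hkE := conj_mem_of_amb hD hVsT hk.1 hβE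
    obtain ⟨v, hv⟩ := hBE _ (hkX β (Subgroup.mem_zpowers β)) hkE
    have hβI : β = MulAut.conj (k⁻¹ v) := by
      rw [show β = k⁻¹ * (k * β * k⁻¹) * k by group, ← hv]
      refine MulEquiv.ext fun z => ?_
      show k⁻¹ (v * k z * v⁻¹) = k⁻¹ v * z * (k⁻¹ v)⁻¹
      simp [map_mul, map_inv]
    set v' : Vs := k⁻¹ v
    have hev : e v' ∈ N' := IsMap.apply_mem_img v'.2
    have hc : (e v')⁻¹ * t ∈ centralizerIn T N' := by
      refine Fusion.mem_centralizerIn.mpr ⟨T.mul_mem (T.inv_mem (hN'T hev)) htN.1, fun z hz => ?_⟩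
      obtain ⟨u, hu, rfl⟩ := he.mem_img.mp hz
      have hzN : e u ∈ N' := IsMap.apply_mem_img hu
      have hut : t * e u * t⁻¹ ∈ N' := conj_mem_of_mem_normalizer htn' hzN
      have h := congr_equiv_spec he' he'i (conjAut N' t htn') hzN
      rw [he'l u hu, autFun_apply_mem _ hzN, conjAut_apply] at h
      have h3 : (v' : Ω) * u * (v' : Ω)⁻¹ = e' (t * e u * t⁻¹) := by
        rw [← h, show MulAut.congr (he'.equiv he'i) (conjAut N' t htn') = β from rfl, hβI,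
          autFun_apply_mem _ hu]
        rfl
      have h2 : e v' * e u * (e v')⁻¹ = t * e u * t⁻¹ := by
        rw [← he.map_conj v'.2 hu, h3, he'r _ hut]
      calc (e v')⁻¹ * t * e u * ((e v')⁻¹ * t)⁻¹ = (e v')⁻¹ * (t * e u * t⁻¹) * e v' := by group
        _ = e u := by rw [← h2]; group
    have hCVs : centralizerIn T Vs ≤ Vs := fun c hc' => by
      rw [← hN₁T]
      obtain ⟨hcT, hcc⟩ := Fusion.mem_centralizerIn.mp hc'
      exact ⟨hcT, mem_normalizer_of_maps_finite fun x hx => by rwa [hcc x (hU₁Vs hx)]⟩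
    obtain ⟨c, hc', ec⟩ := exists_preimage_of_card_le he hCVs inf_le_left
      (fun c hc' => he.mem_centralizerIn le_rfl (hCVs hc') hc')
      ((fullyNormalized_props hD.grpT hD.satE hrepV.full).1.2 N' (isConj_iff.mpr ⟨e, he, rfl⟩)) hc
    refine htn ?_
    rw [show t = e v' * ((e v')⁻¹ * t) by group, ← ec]
    exact N'.mul_mem hev (IsMap.apply_mem_img (hCVs hc'))
  -- the coset property
  have hcoset : ∀ s ∈ S, E.IsConj U₁ (img U₁ (scF s)) → ∃ r ∈ N₁, r⁻¹ * s ∈ T := by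
    intro s hs hconj
    obtain ⟨e, he, -, hei⟩ := exists_full_map hD hfull₁ (full_conj hD hfull₁ hs) hconj
    rw [normalizerIn_img_scF hD U₁ hs, hN₁T] at hei
    rw [hN₁T] at he
    obtain ⟨r, hr, hrs⟩ := hrepV.coset s hs (isConj_iff.mpr ⟨e, he, hei⟩)
    have hconj' : E.IsConj U₁ (img U₁ (scF r)) := by
      refine isConj_trans hconj (isConj_iff.mpr ⟨scF (r * s⁻¹), ?_, ?_⟩)
      · refine isMap_conj (hD.img_le_T hU₁T hs) ?_
        have := T.inv_mem (hD.flip hr.1 hrs)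
        rwa [mul_inv_rev, inv_inv] at this
      · rw [img_scF_scF, inv_mul_cancel_right]
    obtain ⟨e₂, he₂, he₂i, he₂N⟩ :=
      exists_full_map hD hfull₁ (full_conj hD hfull₁ hr.1) hconj'
    rw [normalizerIn_img_scF hD U₁ hr.1, hN₁T, img_eq_of_apply (isMap_conj (F := F) hVsS hr.1) le_rfl
      fun x hx => conj_mem_of_mem_normalizer hr.2 hx] at he₂N
    rw [hN₁T] at he₂
    obtain ⟨a, ha, ea⟩ := he₂.exists_aut he₂N
    set cr := conjAut Vs r hr.2
    have hmap : ∀ x ∈ U₁, autFun (cr⁻¹ * a) x ∈ U₁ := fun x hx => by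
      have hxV := hU₁Vs hx
      rw [autFun_mul _ _ hxV, ea x hxV]
      have h := he₂i.le (IsMap.apply_mem_img hx)
      rw [mem_img_scF] at h
      have h2 := autFun_inv_apply' cr (hU₁Vs h)
      rw [autFun_apply_mem cr (hU₁Vs h), conjAut_apply,
        show r * (r⁻¹ * e₂ x * r) * r⁻¹ = e₂ x by group] at h2
      rw [h2]
      exact h
    have hγS : cr⁻¹ * a ∈ Stab := by
      refine ⟨Subgroup.mul_mem _ (Subgroup.inv_mem _ (Subgroup.mem_sup_right
        (conjAut_mem_autInducedBy hr.2 hr.1))) (Subgroup.mem_sup_left ha), hmap, fun x hx => ?_⟩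
      have hm := (isMap_autFun hVsS).mpr (amb_le hD hVsT (Subgroup.mul_mem _ (Subgroup.inv_mem _
        (Subgroup.mem_sup_right (conjAut_mem_autInducedBy hr.2 hr.1))) (Subgroup.mem_sup_left ha)))
      obtain ⟨y, hy, rfl⟩ := (hm.mono hU₁Vs).mem_img.mp ((img_eq_of_apply hm hU₁Vs hmap).ge hx)
      rwa [autFun_inv_apply' _ (hU₁Vs hy)]
    set A₁ := (E.autGroup Vs).subgroupOf Stab
    haveI : A₁.Normal := ⟨fun α hα g => conj_mem_of_amb hD hVsT g.2.1 hα⟩
    have hquot : IsPGroup p (Stab ⧸ A₁) := by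
      intro x
      induction x using QuotientGroup.induction_on with
      | H g =>
        obtain ⟨w, hw, a', ha', eg⟩ := amb_decomp hD hVsT g.2.1
        obtain ⟨i, hi⟩ := isPGroup_autInducedBy hD.grp Vs ⟨w, hw⟩
        refine ⟨i, (QuotientGroup.eq_one_iff _).mpr ?_⟩
        show ((g ^ p ^ i : Stab) : MulAut Vs) ∈ E.autGroup Vs
        have hw' : w ∈ Subgroup.normalizer (E.autGroup Vs : Set (MulAut Vs)) :=
          mem_normalizer_of_maps_finite fun α hα =>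
            conj_mem_of_amb hD hVsT (Subgroup.mem_sup_right hw) hα
        obtain ⟨u, hu, eu⟩ := NormCent.mul_pow_mod
          (Subgroup.zpowers_le.mpr hw') (Subgroup.mem_zpowers w) ha' (p ^ i)
        rw [Subgroup.coe_pow, eg, eu, show w ^ p ^ i = 1 from congrArg Subtype.val hi, one_mul]
        exact hu
    obtain ⟨n, hn⟩ := (IsPGroup.iff_card.mp hquot)
    have htop := Cfsg.Lib.Transfer.sup_sylow_eq_top (show A₁.index = p ^ n from hn) P₁
    have hγ' : (⟨_, hγS⟩ : Stab) ∈ (P₁ : Subgroup Stab) ⊔ A₁ := by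
      rw [sup_comm, htop]
      exact Subgroup.mem_top _
    obtain ⟨b, hb, a', ha', eba⟩ := Subgroup.mem_sup_of_normal_right.mp hγ'
    obtain ⟨l₁, hl₁, el₁⟩ := mem_autInducedBy.mp (hP₁B b hb)
    have hl₁n := (hN₁Vs hl₁).2
    have hb' : (b : MulAut Vs) = conjAut Vs l₁ hl₁n :=
      MulEquiv.ext fun x => Subtype.ext ((el₁ x).trans (conjAut_apply hl₁n x).symm)
    have hrl : conjAut Vs (r * l₁) (Subgroup.mul_mem _ hr.2 hl₁n) ∈ E.autGroup Vs := by
      have e1 : cr * (b : MulAut Vs) = a * (a' : MulAut Vs)⁻¹ := by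
        have h := congrArg Subtype.val eba
        simp only [Subgroup.coe_mul] at h
        rw [eq_mul_inv_iff_mul_eq, mul_assoc, h]
        group
      have e2 : conjAut Vs (r * l₁) (Subgroup.mul_mem _ hr.2 hl₁n) = cr * (b : MulAut Vs) := by
        refine MulEquiv.ext fun x => Subtype.ext ?_
        rw [hb']
        show _ = ((cr (conjAut Vs l₁ hl₁n x) : Vs) : Ω)
        rw [conjAut_apply, conjAut_apply, conjAut_apply]
        group
      rw [e2, e1]
      exact Subgroup.mul_mem _ ha (Subgroup.inv_mem _ ha')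
    obtain ⟨t, ht, et⟩ := mem_autInducedBy.mp (mem_autInducedBy_sub hD hrepV.full hrl
      (conjAut_mem_autInducedBy _ (S.mul_mem hr.1 hl₁.1)))
    set c := t⁻¹ * (r * l₁) with hcdef
    have hcN : c ∈ N₁ := by
      refine ⟨S.mul_mem (S.inv_mem (hD.le ht)) (S.mul_mem hr.1 hl₁.1),
        mem_normalizer_of_maps_finite fun x hx => ?_⟩
      have h := et ⟨x, hU₁Vs hx⟩
      rw [conjAut_apply] at h
      rw [show c * x * c⁻¹ = t⁻¹ * (r * l₁ * x * (r * l₁)⁻¹) * t by simp only [c]; group, h]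
      simpa [mul_assoc] using hx
    refine ⟨c * l₁⁻¹, N₁.mul_mem hcN (N₁.inv_mem hl₁), ?_⟩
    have hr' : r = t * (c * l₁⁻¹) := by simp only [c]; group
    have h2 : (c * l₁⁻¹)⁻¹ * t * (c * l₁⁻¹) ∈ T :=
      hD.conjT' (S.mul_mem hcN.1 (S.inv_mem hl₁.1)) ht
    have := T.mul_mem h2 hrs
    rwa [hr', show (c * l₁⁻¹)⁻¹ * t * (c * l₁⁻¹) * ((t * (c * l₁⁻¹))⁻¹ * s) =
      (c * l₁⁻¹)⁻¹ * s by group] at this
  obtain ⟨horb₀, hrep₀⟩ := ch_spec horb₁ ⟨hfull₁, hcoset⟩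
  refine ⟨hrep₀, horb₀, ?_⟩
  -- finish
  set U₀ := ch S E U
  have hU₀T : U₀ ≤ T := hrep₀.full.1
  have hU₀S := hU₀T.trans hD.le
  obtain ⟨σ, hσ, hσc⟩ := hD.orb_trans (hD.orb_symm horb₀) horb₁
  obtain ⟨e, he, -, hei⟩ := exists_full_map hD (full_conj hD hrep₀.full hσ) hfull₁ hσc
  set V₀ := normalizerIn T U₀
  have hV₀T : V₀ ≤ T := inf_le_left
  have hV₀σ : normalizerIn T (img U₀ (scF σ)) = img V₀ (scF σ) := normalizerIn_img_scF hD U₀ hσ
  rw [hN₁T] at hei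
  have hV₀Vs : E.IsConj (img V₀ (scF σ)) Vs := hV₀σ ▸ isConj_iff.mpr ⟨e, he, hei⟩
  have hchVs : ch S E V₀ = Vs :=
    (hD.ch_eq ⟨σ, hσ, hV₀Vs⟩).trans (hD.ch_eq horbV).symm
  have hV₀card : Nat.card V₀ = Nat.card Vs := by rw [isConj_card hV₀Vs, card_img_scF]
  obtain ⟨⟨-, -, g, lg, hg, hgi⟩, -⟩ := ih V₀ hV₀T (by rw [hV₀card, hVscard]; exact hcardV)
  rw [hchVs] at hgi
  obtain ⟨hgm, hlg⟩ := hg.isMap hD
  have hV₀N : V₀ ≤ normalizerIn S V₀ := le_normalizerIn (hV₀T.trans hD.le)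
  have hU₀V₀ : U₀ ≤ V₀ := le_normalizerIn hU₀T
  haveI := finite_of_le hV₀T
  have hN₀V : normalizerIn S U₀ ≤ normalizerIn S V₀ := fun x hx => by
    refine ⟨hx.1, mem_normalizer_of_maps_finite fun t ht => ⟨hD.conjT hx.1 ht.1, ?_⟩⟩
    exact Subgroup.mul_mem _ (Subgroup.mul_mem _ hx.2 ht.2) (Subgroup.inv_mem _ hx.2)
  set U₂ := img U₀ g
  have hU₂Vs : U₂ ≤ Vs := hgi ▸ img_mono hU₀V₀ g
  have hU₂T : U₂ ≤ T := hU₂Vs.trans hVsT
  haveI := finite_of_le hU₂T
  have hU₂c : E.IsConj (img U₀ (scF lg)) U₂ :=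
    hg.isConj hD (le_inf (hU₀V₀.trans hV₀N) hU₀T)
  -- adjust the coset
  set τ := lg * σ⁻¹
  have hτ : τ ∈ S := S.mul_mem hlg (S.inv_mem hσ)
  have hτU : E.IsConj (img U₁ (scF τ)) U₂ := by
    have h := hD.isConjE hσc hτ
    rw [img_scF_scF, show τ * σ = lg by simp [τ]] at h
    exact isConj_trans (isConj_symm h) hU₂c
  have hτV : E.IsConj Vs (img Vs (scF τ)) := by
    have h := hD.isConjE hV₀Vs hτ
    rw [img_scF_scF, show τ * σ = lg by simp [τ]] at h
    have h2 : E.IsConj (img V₀ (scF lg)) Vs := hgi ▸ hg.isConj hD (le_inf hV₀N hV₀T)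
    exact isConj_trans (isConj_symm h2) h
  obtain ⟨r, hr, hrτ⟩ := hrepV.coset τ hτ hτV
  have hrU : E.IsConj (img U₁ (scF r)) U₂ := by
    refine isConj_trans (isConj_iff.mpr ⟨scF (τ * r⁻¹), ?_, ?_⟩) hτU
    · exact isMap_conj (hD.img_le_T hU₁T hr.1) (hD.flip hr.1 hrτ)
    · rw [img_scF_scF, inv_mul_cancel_right]
  have hfull₂ : E.IsFullyNormalized U₂ := by
    refine full_of_card (full_conj hD hrep₀.full hlg) hU₂c ?_
    rw [normalizerIn_img_scF hD U₀ hlg, card_img_scF, ← (hgm.mono hV₀N).card_img, hgi]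
    haveI : Finite (normalizerIn T U₂) := finite_of_le inf_le_left
    refine Subgroup.card_le_of_le fun y hy => ?_
    obtain ⟨x, hx, rfl⟩ := (hgm.mono hV₀N).mem_img.mp (hgi.ge hy)
    exact ⟨stronglyClosed_apply hD.sc hgm (hV₀N hx) hx.1,
      (hgm.mem_normalizerIn (hU₀V₀.trans hV₀N) (hV₀N hx) hx.2).2⟩
  obtain ⟨e₂, he₂, he₂i, he₂N⟩ := exists_full_map hD (full_conj hD hfull₁ hr.1) hfull₂ hrU
  have hVsr : img Vs (scF r) = Vs :=
    img_eq_of_apply (isMap_conj (F := F) hVsS hr.1) le_rfl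
      fun x hx => conj_mem_of_mem_normalizer hr.2 hx
  rw [normalizerIn_img_scF hD U₁ hr.1, hN₁T, hVsr] at he₂ he₂N
  have he₂mem : ∀ x ∈ Vs, e₂ x ∈ Vs := by
    have hcard : Nat.card (normalizerIn T U₂) = Nat.card Vs := by rw [← he₂N, he₂.card_img]
    haveI : Finite (normalizerIn T U₂) := finite_of_le inf_le_left
    have hle : Vs ≤ normalizerIn T U₂ := fun y hy => by
      obtain ⟨x, hx, rfl⟩ := (hgm.mono hV₀N).mem_img.mp (hgi.ge hy)
      exact ⟨stronglyClosed_apply hD.sc hgm (hV₀N hx) hx.1,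
        (hgm.mem_normalizerIn (hU₀V₀.trans hV₀N) (hV₀N hx) hx.2).2⟩
    have heq : Vs = normalizerIn T U₂ := Subgroup.eq_of_le_of_card_ge hle hcard.le
    exact fun x hx => heq.ge (he₂N.le (IsMap.apply_mem_img hx))
  obtain ⟨a, ha, ea⟩ := he₂.exists_aut (img_eq_of_apply he₂ le_rfl he₂mem)
  set γ := a * conjAut Vs r hr.2
  have hγ : γ ∈ amb S E Vs := Subgroup.mul_mem _ (Subgroup.mem_sup_left ha)
    (Subgroup.mem_sup_right (conjAut_mem_autInducedBy hr.2 hr.1))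
  have hγU : ∀ x ∈ U₁, autFun γ x ∈ U₂ := fun x hx => by
    have hxV := hU₁Vs hx
    rw [autFun_mul _ _ hxV, ea _ (autFun_mem _ hxV), autFun_apply_mem _ hxV, conjAut_apply]
    exact he₂i.le (IsMap.apply_mem_img (IsMap.apply_mem_img (f := scF r) hx))
  have hγi : ∀ x ∈ U₂, autFun γ⁻¹ x ∈ U₁ := fun x hx => by
    have hm := (isMap_autFun hVsS).mpr (amb_le hD hVsT hγ)
    have hi : img U₁ (autFun γ) = U₂ := by
      refine Subgroup.eq_of_le_of_card_ge (IsMap.img_le_iff.mpr hγU) ?_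
      rw [(hm.mono hU₁Vs).card_img, isConj_card hrU, card_img_scF]
    obtain ⟨y, hy, rfl⟩ := (hm.mono hU₁Vs).mem_img.mp (hi.ge hx)
    rwa [autFun_inv_apply' γ (hU₁Vs hy)]
  set B := img (normalizerIn S U₀) g
  have hBN : B ≤ normalizerIn S Vs := IsMap.img_le_iff.mpr fun x hx =>
    hgi ▸ hgm.mem_normalizerIn hV₀N (hN₀V hx) (hN₀V hx).2
  have hBU₂ : ∀ y ∈ B, y ∈ normalizerIn S U₂ := fun y hy => by
    obtain ⟨x, hx, rfl⟩ := (hgm.mono hN₀V).mem_img.mp hy
    exact hgm.mem_normalizerIn (hU₀V₀.trans hV₀N) (hN₀V hx) hx.2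
  set X := (autInducedBy B Vs).map (MulAut.conj γ⁻¹).toMonoidHom
  have hXp : IsPGroup p X := ((isPGroup_autInducedBy hD.grp Vs).to_le
    (autInducedBy_mono (hBN.trans inf_le_left))).map _
  have hXmaps : ∀ β ∈ autInducedBy B Vs, ∀ x ∈ U₁, autFun (γ⁻¹ * β * γ) x ∈ U₁ := fun β hβ x hx => by
    obtain ⟨y, hy, ey⟩ := mem_autInducedBy.mp hβ
    have hxV := hU₁Vs hx
    rw [autFun_mul _ _ hxV, autFun_mul _ _ (autFun_mem γ hxV),
      autFun_apply_mem β (autFun_mem γ hxV), ey]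
    exact hγi _ (conj_mem_of_mem_normalizer (hBU₂ y hy).2 (hγU x hx))
  have hXS : X ≤ Stab := by
    rintro _ ⟨β, hβ, rfl⟩
    show γ⁻¹ * β * γ⁻¹⁻¹ ∈ Stab
    rw [inv_inv]
    refine ⟨Subgroup.mul_mem _ (Subgroup.mul_mem _ (Subgroup.inv_mem _ hγ) (Subgroup.mem_sup_right
      (autInducedBy_mono (hBN.trans inf_le_left) hβ))) hγ, hXmaps β hβ, ?_⟩
    rw [show (γ⁻¹ * β * γ)⁻¹ = γ⁻¹ * β⁻¹ * γ by group]
    exact hXmaps _ (Subgroup.inv_mem _ hβ)
  obtain ⟨k, hk, hkX⟩ := hsyl X hXp hXS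
  set γ' := k * γ⁻¹
  have hVsB : Vs ≤ B := by
    rw [← hgi]
    exact img_mono (show V₀ ≤ normalizerIn S U₀ from fun x hx => ⟨hD.le hx.1, hx.2⟩) g
  obtain ⟨f, t, hf, ef, -⟩ := ext_amb hD hrepV hext (γ := γ')
    (Subgroup.mul_mem _ hk.1 (Subgroup.inv_mem _ hγ)) hVsB hBN fun β hβ => by
      have := hkX _ ⟨β, hβ, rfl⟩
      rw [show (MulAut.conj γ⁻¹).toMonoidHom β = γ⁻¹ * β * γ⁻¹⁻¹ from rfl,
        show k * (γ⁻¹ * β * γ⁻¹⁻¹) * k⁻¹ = γ' * β * γ'⁻¹ by simp only [γ']; group] at this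
      exact autInducedBy_mono inf_le_left this
  set h := f ∘ g
  have hh : Gen F E p (normalizerIn S U₀) h (t * lg) :=
    Gen.comp _ _ g f lg t (hg.mono hN₀V) hf fun x hx => IsMap.apply_mem_img hx
  obtain ⟨hhm, hL⟩ := hh.isMap hD
  have hU₀N := le_normalizerIn hU₀S
  have hhU : img U₀ h = U₁ := by
    refine Subgroup.eq_of_le_of_card_ge (IsMap.img_le_iff.mpr fun x hx => ?_) ?_
    · show f (g x) ∈ U₁
      have hgx : g x ∈ U₂ := IsMap.apply_mem_img hx
      rw [ef _ (hU₂Vs hgx), autFun_mul _ _ (hU₂Vs hgx)]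
      exact hk.2.1 _ (hγi _ hgx)
    · rw [(hhm.mono hU₀N).card_img, isConj_card hσc, card_img_scF]
  have hhN : ∀ x ∈ normalizerIn S U₀, h x ∈ N₁ := fun x hx => by
    have := hhm.mem_normalizerIn hU₀N hx hx.2
    rwa [hhU] at this
  have hV₀S' : V₀ ≤ normalizerIn S U₀ := fun x hx => ⟨hD.le hx.1, hx.2⟩
  have hhV : img V₀ h = Vs := by
    refine Subgroup.eq_of_le_of_card_ge (IsMap.img_le_iff.mpr fun x hx => ?_)
      (by rw [(hhm.mono hV₀S').card_img, hV₀card])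
    rw [← hN₁T]
    exact ⟨stronglyClosed_apply hD.sc hhm (hV₀S' hx) hx.1, (hhN x (hV₀S' hx)).2⟩
  have hhonto : ∀ y ∈ N₁, y ∈ img (normalizerIn S U₀) h := by
    intro y hy
    set L := t * lg
    have hyi : img U₁ (scF y) = U₁ := img_eq_of_apply (isMap_conj (F := F) hU₁S hy.1) le_rfl
      fun x hx => conj_mem_of_mem_normalizer hy.2 hx
    have h1 : E.IsConj (img U₀ (scF L)) U₁ := hhU ▸ hh.isConj hD (le_inf hU₀N hU₀T)
    have h2 := hD.isConjE h1 hy.1
    rw [img_scF_scF, hyi] at h2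
    have h3 := hD.isConjE (isConj_trans h1 (isConj_symm h2)) (S.inv_mem hL)
    rw [img_scF_scF, img_scF_scF, inv_mul_cancel, img_scF_one] at h3
    obtain ⟨r₀, hr₀, hr₀s⟩ :=
      hrep₀.coset (L⁻¹ * (y * L)) (S.mul_mem (S.inv_mem hL) (S.mul_mem hy.1 hL)) h3
    have hz : (h r₀)⁻¹ * y ∈ Vs := by
      rw [← hN₁T]
      refine ⟨?_, (N₁.mul_mem (N₁.inv_mem (hhN r₀ hr₀)) hy).2⟩
      have := T.mul_mem (T.inv_mem (hh.shift hD r₀ hr₀)) (hD.conjT hL hr₀s)
      rwa [show ((L * r₀ * L⁻¹)⁻¹ * h r₀)⁻¹ * (L * (r₀⁻¹ * (L⁻¹ * (y * L))) * L⁻¹) =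
        (h r₀)⁻¹ * y by group] at this
    rw [show y = h r₀ * ((h r₀)⁻¹ * y) by group]
    exact Subgroup.mul_mem _ (IsMap.apply_mem_img hr₀) (hhV.ge.trans (img_mono hV₀S' h) hz)
  obtain ⟨hi, hgh, ehi⟩ := hh.exists_inv hD
  obtain ⟨f₀, s₀, hf₀, hf₀i⟩ := hU₁Tg
  obtain ⟨hf₀m, -⟩ := hf₀.isMap hD
  have hf₀N : ∀ x ∈ N₀, f₀ x ∈ img (normalizerIn S U₀) h := fun x hx =>
    hhonto _ (by have := hf₀m.mem_normalizerIn hUN hx hx.2; rwa [hf₀i] at this)
  have hhim : IsMap F U₁ hi := (hgh.isMap hD).1.mono (hhU.ge.trans (img_mono hU₀N h))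
  refine ⟨hi ∘ f₀, _, Gen.comp _ _ f₀ hi _ _ hf₀ hgh hf₀N, ?_⟩
  rw [img_comp (hf₀m.mono hUN) (hf₀i.symm ▸ hhim), hf₀i]
  haveI := finite_of_le hU₀S
  refine Subgroup.eq_of_le_of_card_ge (IsMap.img_le_iff.mpr fun x hx => ?_) ?_
  · obtain ⟨u, hu, rfl⟩ := (hhm.mono hU₀N).mem_img.mp (hhU.ge hx)
    rwa [ehi u (hU₀N hu)]
  · rw [hhim.card_img, ← hhU, (hhm.mono hU₀N).card_img]

/-- Every subgroup of `T` reaches its representative, where automorphisms extend. -/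
theorem reach_all (hD : Setup F E p) {U : Subgroup Ω} (hU : U ≤ T) :
    Reach F E p U ∧ CanExt F E p U := by
  suffices ∀ (n : ℕ) (U : Subgroup Ω), U ≤ T → Nat.card T - Nat.card U = n →
      Reach F E p U ∧ CanExt F E p U from this _ U hU rfl
  intro n
  induction n using Nat.strong_induction_on with
  | _ n ih =>
    intro U hU hn
    haveI := finite_of_le hD.le
    have ih' : ∀ V : Subgroup Ω, V ≤ T → Nat.card U < Nat.card V →
        Reach F E p V ∧ CanExt F E p V := fun V hV hlt => by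
      have := Subgroup.card_le_of_le hV
      exact ih _ (by omega) V hV rfl
    exact ⟨reach_step hD hU ih', canExt_step hD hU ih'⟩

end Cfsg.Lib.Fusion.Product
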