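import Cfsg.Agent.Fusion.Product.Loops
import Cfsg.Agent.Fusion.Criterion.Main
import Cfsg.Agent.Fusion.CentricMeet

/-!
The product system is saturated and contains the subsystem with `p`-power index.
-/

set_option autoImplicit false
set_option linter.unusedSectionVars false
set_option linter.style.haveILetI false
set_option maxHeartbeats 400000

namespace Cfsg.Lib.Fusion.Product

open Cfsg Cfsg.FusionSystem Cfsg.Lib.Fusion Cfsg.Lib.Fusion.SmallCent

universe u

variable {Ω : Type u} [Group Ω] {S T : Subgroup Ω} {F : FusionSystem S} {E : FusionSystem T}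
  {p : ℕ} [Finite S] [Fact p.Prime]

theorem sub_le_prodSys (hD : Setup F E p) : E.IsSubsystemOf (prodSys hD) := by
  intro P φ hφ
  exact ((isMap_prodSys hD).mpr ⟨1, Gen.of_sub hD (isMap_of_mem hφ)⟩).mem_toFun'

/-- An automorphism of order prime to `p` has trivial label. -/
theorem coprime_label (hD : Setup F E p) {P : Subgroup Ω} (hP : P ≤ S) {α : MulAut P}
    (hα : α ∈ (prodSys hD).autGroup P) (hcop : (orderOf α).Coprime p) :
    Gen F E p P (autFun α) 1 := by
  haveI := finite_of_le hP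
  obtain ⟨s, hg⟩ := (isMap_prodSys hD).mp ((isMap_autFun hP).mpr hα)
  have hs := (hg.isMap hD).2
  have hpow : ∀ k : ℕ, Gen F E p P (autFun (α ^ k)) (s ^ k) := by
    intro k
    induction k with
    | zero => rw [pow_zero, pow_zero]; exact (Gen.id' hP).congr fun x hx => autFun_one hx
    | succ k ih =>
      rw [pow_succ, pow_succ]
      exact (Gen.comp P P _ _ _ _ hg ih fun x hx => autFun_mem α hx).congr
        fun x hx => autFun_mul _ _ hx
  obtain ⟨i, hi⟩ := NormCent.exists_pow_eq_one hD.grp hs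
  obtain ⟨e, he0, he1⟩ := Nat.chineseRemainder (Nat.Coprime.pow_left i hcop.symm) 0 1
  obtain ⟨c, rfl⟩ := Nat.modEq_zero_iff_dvd.mp he0
  have h := hpow (p ^ i * c)
  have hαe : α ^ (p ^ i * c) = α := by
    conv_rhs => rw [← pow_one α]
    exact pow_eq_pow_iff_modEq.mpr he1
  rwa [hαe, pow_mul, hi, one_pow] at h

theorem hyperfocal_prodSys_le (hD : Setup F E p) : (prodSys hD).hyperfocalSubgroup p ≤ T := by
  refine (Subgroup.closure_le _).mpr ?_
  rintro _ ⟨P, α, x, hP, hα, rfl⟩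
  rw [← autFun_apply]
  induction hα using Subgroup.closure_induction generalizing x with
  | mem a ha =>
    have h := (coprime_label hD hP a.2 (by rwa [Subgroup.orderOf_coe])).shift hD x x.2
    simpa using h
  | one => rw [Subgroup.coe_one, autFun_one x.2]; simp
  | mul a b _ _ iha ihb =>
    rw [Subgroup.coe_mul, autFun_mul _ _ x.2]
    have := T.mul_mem (ihb x) (iha ⟨autFun (b : MulAut P) x, autFun_mem _ x.2⟩)
    refine Eq.mp (congrArg (· ∈ T) ?_) this
    group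
  | inv a _ iha =>
    rw [Subgroup.coe_inv]
    have h := iha ⟨autFun (a : MulAut P)⁻¹ x, autFun_mem _ x.2⟩
    rw [autFun_inv_apply _ x.2] at h
    simpa using T.inv_mem h

/-- The subsystem has `p`-power index in the product. -/
theorem index_prodSys (hD : Setup F E p) : E.HasPPowerIndexIn (prodSys hD) p := by
  refine ⟨sub_le_prodSys hD, hyperfocal_prodSys_le hD, fun P hP => ?_⟩
  rw [Subgroup.map_le_iff_le_comap]
  refine (Subgroup.closure_le _).mpr fun a ha => ?_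
  show (a : MulAut P) ∈ E.autGroup P
  have h := (coprime_label hD (hP.trans hD.le) a.2 (by rwa [Subgroup.orderOf_coe])).sub hD
  rw [inf_eq_left.mpr hP] at h
  exact (isMap_autFun hP).mp (h.congr fun x _ => by simp)

/-- A conjugate with a representative as its part in `T` which is fully automized and receptive. -/
theorem exists_good_member (hD : Setup F E p) {P : Subgroup Ω} (hP : P ≤ S)
    (hc : E.IsCentric (P ⊓ T)) :
    ∃ P₃, (prodSys hD).IsConj P P₃ ∧ (prodSys hD).IsFullyAutomized p P₃ ∧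
      (prodSys hD).IsReceptive P₃ := by
  set Q := P ⊓ T with hQ
  have hQT : Q ≤ T := inf_le_right
  have hQS := hQT.trans hD.le
  haveI := finite_of_le hP
  haveI := finite_of_le hQS
  obtain ⟨hc₀, hrep, -⟩ := ch_centric hD hc
  obtain ⟨htr, htri, -⟩ := tr_spec hD hQT
  set Q₀ := ch S E Q with hQ₀
  have hQ₀T := hc₀.1
  have hQ₀S := hQ₀T.trans hD.le
  haveI := finite_of_le hQ₀S
  obtain ⟨G, _, _, ι, M, hMod⟩ := exists_mod hD hc₀ hrep.full
  haveI := hMod.norM
  have hchQ₀ : ch S E Q₀ = Q₀ := (hD.ch_eq (reach_all hD hQT).1.2.1).symm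
  have hQ₀N := le_normalizerIn (S := S) hQ₀S
  obtain ⟨hωm, -⟩ := htr.isMap hD
  have hQN : Q ≤ normalizerIn S Q := le_normalizerIn hQS
  have hPN : P ≤ normalizerIn S Q := fun x hx => ⟨hP hx, mem_normalizer_of_maps_finite
    fun q hq => ⟨P.mul_mem (P.mul_mem hx hq.1) (P.inv_mem hx), hD.conjT (hP hx) hq.2⟩⟩
  have hωP := hωm.mono hPN
  set P₂ := img P (tr hD Q)
  have hP₂S : P₂ ≤ S := hωP.img_le
  have hP₂T : P₂ ⊓ T = Q₀ := by rw [← img_inf_stronglyClosed hD.sc hωP]; exact htri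
  have hP₂N : P₂ ≤ normalizerIn S Q₀ := IsMap.img_le_iff.mpr fun x hx => by
    have h := hωm.mem_normalizerIn hQN (hPN hx) (hPN hx).2
    rwa [htri] at h
  have hQ₀P₂ : Q₀ ≤ P₂ := hP₂T ▸ inf_le_left
  -- a Sylow subgroup of the normalizer in the model
  have hNp : IsPGroup p (normalizerIn S Q₀) :=
    hD.grp.of_injective _ (Subgroup.inclusion_injective inf_le_left)
  have hRp : IsPGroup p ι.range := hNp.of_surjective _ (MonoidHom.rangeRestrict_surjective _)
  set A := sub ι P₂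
  set NA := Subgroup.normalizer (A : Set G)
  have hAp : IsPGroup p A := hRp.to_le (Subgroup.map_le_range ι _)
  obtain ⟨W, hW⟩ := (hAp.comap_of_injective NA.subtype NA.subtype_injective).exists_le_sylow
  obtain ⟨U', hU'⟩ := (W.2.map NA.subtype).exists_le_sylow
  obtain ⟨g, hg⟩ := MulAction.exists_smul_eq G U' (hRp.toSylow hMod.syl)
  have hgW : ∀ w : NA, w ∈ (W : Subgroup NA) → g * (w : G) * g⁻¹ ∈ ι.range := fun w hw => by
    have h : g * (w : G) * g⁻¹ ∈ ((g • U' : Sylow p G) : Subgroup G) :=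
      ⟨w, hU' ⟨w, hw, rfl⟩, rfl⟩
    rw [hg] at h
    exact h
  have hgA : ∀ x ∈ P₂, g * emb ι x * g⁻¹ ∈ ι.range := fun x hx =>
    hgW ⟨_, Subgroup.le_normalizer (emb_mem_sub hP₂N hx)⟩ (hW (emb_mem_sub hP₂N hx : emb ι x ∈ A))
  obtain ⟨f, r, hf, -, -, ef⟩ := hMod.gen hD hc₀ hrep.full hQ₀P₂ hP₂N hgA
  obtain ⟨hfm, -⟩ := hf.isMap hD
  set P₃ := img P₂ f
  have hP₃N : P₃ ≤ normalizerIn S Q₀ := IsMap.img_le_iff.mpr fun x hx => (ef x hx).1
  have hP₃S : P₃ ≤ S := hP₃N.trans inf_le_left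
  haveI := finite_of_le hP₃S
  have hfQ : img Q₀ f = Q₀ := img_eq_of_apply hfm hQ₀P₂ fun q hq => by
    obtain ⟨q', hq', e⟩ := hMod.stable hQ₀S g hq
    rwa [emb_inj hMod.inj (ef q (hQ₀P₂ hq)).1 (hQ₀N hq') ((ef q (hQ₀P₂ hq)).2.trans e)]
  have hP₃T : P₃ ⊓ T = Q₀ := by rw [← img_inf_stronglyClosed hD.sc hfm, hP₂T, hfQ]
  have hQ₀P₃ : Q₀ ≤ P₃ := hP₃T ▸ inf_le_left
  have hN₃ : normalizerIn S P₃ ≤ normalizerIn S Q₀ := fun x hx => ⟨hx.1,
    mem_normalizer_of_maps_finite fun q hq => by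
      rw [← hP₃T] at hq ⊢
      exact ⟨conj_mem_of_mem_normalizer hx.2 hq.1, hD.conjT hx.1 hq.2⟩⟩
  -- loops at the representative
  have hloop : ∀ {R : Subgroup Ω} {u : Ω → Ω} {s : Ω}, Gen F E p R u s → img R u = P₃ →
      E.IsCentric (R ⊓ T) ∧ ch S E (R ⊓ T) = Q₀ ∧ ∃ lam : G, ∀ x ∈ R,
        emb ι (u x) = lam * emb ι (tr hD (R ⊓ T) x) * lam⁻¹ := by
    intro R u s hu hi
    obtain ⟨hum, -⟩ := hu.isMap hD
    have hiT : img (R ⊓ T) u = Q₀ := by rw [img_inf_stronglyClosed hD.sc hum, hi, hP₃T]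
    have hch : ch S E (R ⊓ T) = Q₀ := by
      rw [hD.ch_eq (hu.orb hD le_rfl), hiT, hchQ₀]
    obtain ⟨v, hv, ev⟩ := hu.exists_inv hD
    have hRc : E.IsCentric (R ⊓ T) := by
      have hvm := (hv.isMap hD).1.mono (img_mono (inf_le_left : R ⊓ T ≤ R) u)
      rw [hiT] at hvm
      have : img Q₀ v = R ⊓ T := by
        haveI := finite_of_le (inf_le_left.trans hum.le : R ⊓ T ≤ S)
        refine Subgroup.eq_of_le_of_card_ge (IsMap.img_le_iff.mpr fun y hy => ?_) ?_
        · obtain ⟨x, hx, rfl⟩ := (hum.mono inf_le_left).mem_img.mp (hiT.ge hy)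
          rwa [ev x hx.1]
        · rw [hvm.card_img, ← hiT, (hum.mono inf_le_left).card_img]
      exact this ▸ CharSub.centricT_img hD.inv hc₀ hvm
    obtain ⟨lam, r', -, -, -, e⟩ := loop_gen hD hc₀ hrep hMod hu hRc hch
    refine ⟨hRc, hch, lam, fun x hx => ?_⟩
    have := e x hx
    rwa [hiT, ((tr_spec hD hQ₀T).2.2 hchQ₀).1] at this
  refine ⟨P₃, isConj_iff.mpr ⟨f ∘ tr hD Q, (isMap_prodSys hD).mpr
    ⟨_, Gen.comp P P₂ _ f _ r (htr.mono hPN) hf fun x hx => IsMap.apply_mem_img hx⟩,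
    img_comp hωP hfm⟩, ?_, ?_⟩
  · -- fully automized
    set A₃ := sub ι P₃
    set N₃ := Subgroup.normalizer (A₃ : Set G)
    have hA₃ : ∀ x, x ∈ A₃ ↔ g⁻¹ * x * g ∈ A := by
      intro x
      constructor
      · intro hx
        obtain ⟨y, hy, rfl⟩ := (mem_sub hP₃N).mp hx
        obtain ⟨z, hz, rfl⟩ := hfm.mem_img.mp hy
        rw [(ef z hz).2, show g⁻¹ * (g * emb ι z * g⁻¹) * g = emb ι z by group]
        exact emb_mem_sub hP₂N hz
      · intro hx
        obtain ⟨z, hz, e⟩ := (mem_sub hP₂N).mp hx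
        rw [show x = g * emb ι z * g⁻¹ by rw [e]; group, ← (ef z hz).2]
        exact emb_mem_sub hP₃N (IsMap.apply_mem_img hz)
    have hNconj : ∀ n, n ∈ N₃ ↔ g⁻¹ * n * g ∈ NA := by
      intro n
      show n ∈ Subgroup.normalizer (A₃ : Set G) ↔ g⁻¹ * n * g ∈ Subgroup.normalizer (A : Set G)
      rw [Subgroup.mem_normalizer_iff, Subgroup.mem_normalizer_iff]
      constructor
      · intro h x
        have h1 := h (g * x * g⁻¹)
        rw [hA₃, hA₃, show g⁻¹ * (g * x * g⁻¹) * g = x by group] at h1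
        rw [show g⁻¹ * n * g * x * (g⁻¹ * n * g)⁻¹ = g⁻¹ * (n * (g * x * g⁻¹) * n⁻¹) * g by group]
        exact h1
      · intro h x
        have h1 := h (g⁻¹ * x * g)
        rw [hA₃, hA₃]
        rw [show g⁻¹ * n * g * (g⁻¹ * x * g) * (g⁻¹ * n * g)⁻¹ = g⁻¹ * (n * x * n⁻¹) * g by group]
          at h1
        exact h1
    -- the Sylow subgroup of the normalizer
    set R₃ := ι.range.subgroupOf N₃
    have hR₃p : IsPGroup p R₃ := hRp.comap_of_injective _ N₃.subtype_injective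
    obtain ⟨V, hV⟩ := hR₃p.exists_le_sylow
    have hVR : (V : Subgroup N₃) = R₃ := by
      refine (Subgroup.eq_of_le_of_card_ge hV ?_).symm
      let c : N₃ →* NA := MonoidHom.mk'
        (fun n => ⟨g⁻¹ * (n : G) * g, (hNconj n).mp n.2⟩) fun a b => Subtype.ext (by
          show g⁻¹ * ((a : G) * b) * g = g⁻¹ * (a : G) * g * (g⁻¹ * (b : G) * g)
          group)
      have hcinj : Function.Injective c := fun a b e => Subtype.ext
        (mul_left_cancel (mul_right_cancel (congrArg Subtype.val e)))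
      obtain ⟨W', hW'⟩ := (V.2.map c).exists_le_sylow
      calc Nat.card (V : Subgroup N₃) = Nat.card ((V : Subgroup N₃).map c) :=
            (Subgroup.card_map_of_injective hcinj).symm
        _ ≤ Nat.card (W' : Subgroup NA) := Subgroup.card_le_of_le hW'
        _ = Nat.card (W : Subgroup NA) := by rw [W'.card_eq_multiplicity, W.card_eq_multiplicity]
        _ ≤ Nat.card R₃ := by
          refine Nat.card_le_card_of_injective (fun w => (⟨⟨g * ((w : NA) : G) * g⁻¹,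
            (hNconj _).mpr (by
              rw [show g⁻¹ * (g * ((w : NA) : G) * g⁻¹) * g = ((w : NA) : G) by group]
              exact (w : NA).2)⟩, hgW w w.2⟩ : R₃)) fun a b e => ?_
          have := congrArg (fun z : R₃ => ((z : N₃) : G)) e
          exact Subtype.ext (Subtype.ext (mul_left_cancel (mul_right_cancel this)))
    -- the action
    have hex : ∀ n : N₃, ∃ β : MulAut P₃, β ∈ (prodSys hD).autGroup P₃ ∧
        ∀ x ∈ P₃, emb ι (autFun β x) = (n : G) * emb ι x * (n : G)⁻¹ := by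
      intro n
      have hst : ∀ x ∈ P₃, ∃ y ∈ P₃, emb ι y = (n : G) * emb ι x * (n : G)⁻¹ := fun x hx =>
        (mem_sub hP₃N).mp ((Subgroup.mem_normalizer_iff.mp n.2 _).mp (emb_mem_sub hP₃N hx))
      obtain ⟨u, s, hu, -, -, eu⟩ := hMod.gen hD hc₀ hrep.full hQ₀P₃ hP₃N (g := (n : G))
        fun x hx => by
          obtain ⟨y, hy, e⟩ := hst x hx
          rw [← e]
          exact emb_mem_range (hP₃N hy)
      have huP : ∀ x ∈ P₃, u x ∈ P₃ := fun x hx => by
        obtain ⟨y, hy, e⟩ := hst x hx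
        rwa [emb_inj hMod.inj (eu x hx).1 (hP₃N hy) ((eu x hx).2.trans e.symm)]
      have hum : IsMap (prodSys hD) P₃ u := (isMap_prodSys hD).mpr ⟨s, hu⟩
      obtain ⟨β, hβ, eβ⟩ := hum.exists_aut (img_eq_of_apply hum le_rfl huP)
      exact ⟨β, hβ, fun x hx => by rw [eβ x hx, (eu x hx).2]⟩
    choose β hβ eβ using hex
    let res : N₃ →* (prodSys hD).autGroup P₃ := MonoidHom.mk' (fun n => ⟨β n, hβ n⟩) fun a b => by
      refine Subtype.ext (MulEquiv.ext fun x => Subtype.ext ?_)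
      show ((β (a * b) x : P₃) : Ω) = ((β a (β b x) : P₃) : Ω)
      rw [← autFun_apply, ← autFun_apply (β a), ← autFun_apply (β b)]
      refine emb_inj hMod.inj (hP₃N (autFun_mem _ x.2)) (hP₃N (autFun_mem _ (autFun_mem _ x.2))) ?_
      rw [eβ _ x x.2, eβ a _ (autFun_mem _ x.2), eβ b x x.2, Subgroup.coe_mul]
      group
    have hsurj : Function.Surjective res := by
      rintro ⟨α, hα⟩
      obtain ⟨s, hu⟩ := (isMap_prodSys hD).mp ((isMap_autFun hP₃S).mpr hα)
      obtain ⟨-, -, lam, hlam⟩ := hloop hu (img_autFun α)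
      rw [hP₃T, ((tr_spec hD hQ₀T).2.2 hchQ₀).1 |> fun h => (funext h : tr hD Q₀ = fun x => x)]
        at hlam
      have hn : lam ∈ N₃ := mem_normalizer_of_maps_finite fun y hy => by
        obtain ⟨x, hx, rfl⟩ := (mem_sub hP₃N).mp hy
        rw [← hlam x hx]
        exact emb_mem_sub hP₃N (autFun_mem α hx)
      refine ⟨⟨lam, hn⟩, Subtype.ext (MulEquiv.ext fun x => Subtype.ext ?_)⟩
      show ((β ⟨lam, hn⟩ x : P₃) : Ω) = ((α x : P₃) : Ω)
      rw [← autFun_apply, ← autFun_apply α]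
      refine emb_inj hMod.inj (hP₃N (autFun_mem _ x.2)) (hP₃N (autFun_mem _ x.2)) ?_
      rw [eβ _ x x.2, hlam x x.2]
    let V' := V.mapSurjective hsurj
    refine ⟨hP₃S, V', (V'.is_maximal' ((isPGroup_autInducedBy hD.grp P₃).comap_of_injective _
      (Subgroup.subtype_injective _)) ?_).symm⟩
    rintro _ ⟨n, hn, rfl⟩
    rw [SetLike.mem_coe, hVR] at hn
    obtain ⟨y, hy, e⟩ := exists_emb (show (n : G) ∈ ι.range from hn)
    refine mem_autInducedBy.mpr ⟨y, hy.1, fun x => ?_⟩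
    show ((β n x : P₃) : Ω) = _
    rw [← autFun_apply]
    refine emb_inj hMod.inj (hP₃N (autFun_mem _ x.2)) ((normalizerIn S Q₀).mul_mem
      ((normalizerIn S Q₀).mul_mem hy (hP₃N x.2)) ((normalizerIn S Q₀).inv_mem hy)) ?_
    rw [eβ n x x.2, emb_conj hy (hP₃N x.2), e]
  · -- receptive
    refine receptive_of_extend hP₃S fun R u hu hi => ?_
    obtain ⟨s, hgu⟩ := (isMap_prodSys hD).mp hu
    obtain ⟨hRc, hRch, lam, hlam⟩ := hloop hgu hi
    obtain ⟨hum, -⟩ := hgu.isMap hD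
    obtain ⟨htr₁, htri₁, -⟩ := tr_spec hD (inf_le_right : R ⊓ T ≤ T)
    rw [hRch] at htri₁
    obtain ⟨hω₁, -⟩ := htr₁.isMap hD
    set ω := tr hD (R ⊓ T)
    haveI := finite_of_le (inf_le_left.trans hum.le : R ⊓ T ≤ S)
    set X := extSub S R u
    have hXN : X ≤ normalizerIn S (R ⊓ T) := fun x hx => ⟨(mem_extSub.mp hx).1,
      mem_normalizer_of_maps_finite fun q hq =>
        ⟨conj_mem_of_mem_normalizer (mem_extSub.mp hx).2.1 hq.1,
          hD.conjT (mem_extSub.mp hx).1 hq.2⟩⟩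
    have hRX : R ≤ X := le_extSub hu
    have hQR : R ⊓ T ≤ normalizerIn S (R ⊓ T) := le_normalizerIn (inf_le_left.trans hum.le)
    have hωN : ∀ x ∈ normalizerIn S (R ⊓ T), ω x ∈ normalizerIn S Q₀ := fun x hx => by
      have h := hω₁.mem_normalizerIn hQR hx hx.2
      rwa [htri₁] at h
    set X₂ := img X ω
    have hX₂N : X₂ ≤ normalizerIn S Q₀ := IsMap.img_le_iff.mpr fun x hx => hωN x (hXN hx)
    have hQ₀X : Q₀ ≤ X₂ := htri₁ ▸ img_mono (inf_le_left.trans hRX) ω
    have huP : ∀ x ∈ R, u x ∈ P₃ := fun x hx => hi ▸ IsMap.apply_mem_img hx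
    have hrange : ∀ y ∈ X₂, lam * emb ι y * lam⁻¹ ∈ ι.range := by
      intro y hy
      obtain ⟨t, ht, rfl⟩ := (hω₁.mono hXN).mem_img.mp hy
      obtain ⟨-, htn, h, hh, eh⟩ := mem_extSub.mp ht
      have hhN : h ∈ normalizerIn S Q₀ := hN₃ ⟨hh, mem_normalizer_of_maps_finite fun z hz => by
        obtain ⟨x, hx, rfl⟩ := hum.mem_img.mp (hi.ge hz)
        rw [← eh x hx]
        exact huP _ (conj_mem_of_mem_normalizer htn hx)⟩
      obtain ⟨c, hc', ec⟩ := hMod.cent_range hD.grp hQ₀S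
        (g := (emb ι h)⁻¹ * (lam * emb ι (ω t) * lam⁻¹)) fun q hq => by
        obtain ⟨x, hx, rfl⟩ := hum.mem_img.mp (hi.ge (hQ₀P₃ hq))
        have htx : t * x * t⁻¹ ∈ R := conj_mem_of_mem_normalizer htn hx
        have hxN := hXN (hRX hx)
        have h1 : lam * (emb ι (ω t) * emb ι (ω x) * (emb ι (ω t))⁻¹) * lam⁻¹ =
            emb ι h * emb ι (u x) * (emb ι h)⁻¹ := by
          rw [← emb_conj (hωN t (hXN ht)) (hωN x hxN), ← hω₁.map_conj (hXN ht) hxN, ← hlam _ htx,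
            eh x hx, emb_conj hhN (hP₃N (huP x hx))]
        rw [hlam x hx] at h1 ⊢
        calc (emb ι h)⁻¹ * (lam * emb ι (ω t) * lam⁻¹) * (lam * emb ι (ω x) * lam⁻¹) *
              ((emb ι h)⁻¹ * (lam * emb ι (ω t) * lam⁻¹))⁻¹
            = (emb ι h)⁻¹ * (lam * (emb ι (ω t) * emb ι (ω x) * (emb ι (ω t))⁻¹) * lam⁻¹) *
                emb ι h := by group
          _ = lam * emb ι (ω x) * lam⁻¹ := by rw [h1]; group
      rw [show lam * emb ι (ω t) * lam⁻¹ =
        emb ι h * ((emb ι h)⁻¹ * (lam * emb ι (ω t) * lam⁻¹)) by group, ← ec]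
      exact ι.range.mul_mem (emb_mem_range hhN)
        (emb_mem_range (centralizerIn_le_normalizerIn Q₀ hc'))
    obtain ⟨v, t', hv, -, -, ev⟩ := hMod.gen hD hc₀ hrep.full hQ₀X hX₂N hrange
    refine ⟨v ∘ ω, (isMap_prodSys hD).mpr ⟨_, Gen.comp X X₂ ω v _ t' (htr₁.mono hXN) hv
      fun x hx => IsMap.apply_mem_img hx⟩, fun x hx => ?_⟩
    have hm : ω x ∈ X₂ := IsMap.apply_mem_img (hRX hx)
    exact emb_inj hMod.inj (ev _ hm).1 (hP₃N (huP x hx)) ((ev _ hm).2.trans (hlam x hx).symm)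

/-- A centric subgroup whose part in `T` is not centric in the subsystem. -/
theorem exists_outer_witness (hD : Setup F E p) {P : Subgroup Ω}
    (hP : (prodSys hD).IsCentric P) (hPT : ¬ E.IsCentric (P ⊓ T)) :
    ∃ P', (prodSys hD).IsConj P P' ∧ ¬ (autInducedBy S P' ⊓
      (pCore p ((prodSys hD).autGroup P')).map ((prodSys hD).autGroup P').subtype ≤ Inn P') := by
  set U := P ⊓ T with hU
  have hUT : U ≤ T := inf_le_right
  have hPS := hP.1
  have hUS := hUT.trans hD.le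
  haveI := finite_of_le hUS
  haveI := finite_of_le hD.le
  have hPN : P ≤ normalizerIn S U := fun x hx => ⟨hPS hx, mem_normalizer_of_maps_finite
    fun q hq => ⟨P.mul_mem (P.mul_mem hx hq.1) (P.inv_mem hx), hD.conjT (hPS hx) hq.2⟩⟩
  obtain ⟨⟨hrep, -, f, s, hf, hfi⟩, -⟩ := reach_all hD hUT
  obtain ⟨hfm, -⟩ := hf.isMap hD
  set U₀ := ch S E U
  set P' := img P f
  have hfP : IsMap F P f := hfm.mono hPN
  have hmapD : IsMap (prodSys hD) P f := (isMap_prodSys hD).mpr ⟨s, hf.mono hPN⟩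
  have hP'S : P' ≤ S := hfP.img_le
  haveI := finite_of_le hP'S
  have hP'T : P' ⊓ T = U₀ := by rw [← img_inf_stronglyClosed hD.sc hfP]; exact hfi
  have hU₀P : U₀ ≤ P' := hP'T ▸ inf_le_left
  have hU₀T := hrep.full.1
  haveI := finite_of_le (hU₀T.trans hD.le)
  have hC : ¬ centralizerIn T U₀ ≤ U₀ := fun h => by
    have hU₀c : E.IsCentric U₀ := centric_of_fullyCentralized hD.grpT hD.satE
      (fullyNormalized_props hD.grpT hD.satE hrep.full).1 h
    obtain ⟨k, hk, hki, -, -⟩ := (hfm.mono (le_normalizerIn hUS)).exists_inv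
    rw [hfi] at hk hki
    exact hPT (hki ▸ CharSub.centricT_img hD.inv hU₀c hk)
  set C := centralizerIn T U₀
  have hCS : C ≤ S := inf_le_left.trans hD.le
  haveI := finite_of_le hCS
  have hP'C : P' ≤ Subgroup.normalizer (C : Set Ω) := fun q hq =>
    mem_normalizer_of_maps_finite fun c hc => by
      obtain ⟨hcT, hcc⟩ := Fusion.mem_centralizerIn.mp hc
      refine Fusion.mem_centralizerIn.mpr ⟨hD.conjT (hP'S hq) hcT, fun z hz => ?_⟩
      have h1 : q⁻¹ * z * q ∈ U₀ := by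
        rw [← hP'T] at hz ⊢
        exact ⟨P'.mul_mem (P'.mul_mem (P'.inv_mem hq) hz.1) hq, hD.conjT' (hP'S hq) hz.2⟩
      calc q * c * q⁻¹ * z * (q * c * q⁻¹)⁻¹ = q * (c * (q⁻¹ * z * q) * c⁻¹) * q⁻¹ := by group
        _ = q * (q⁻¹ * z * q) * q⁻¹ := by rw [hcc _ h1]
        _ = z := by group
  have hlt : P' < P' ⊔ C := lt_of_le_of_ne le_sup_left fun h => hC fun c hc =>
    hP'T.le ⟨h.ge (Subgroup.mem_sup_right hc), (Fusion.mem_centralizerIn.mp hc).1⟩
  obtain ⟨v, hv, hvP⟩ := SetLike.exists_of_lt (lt_inf_normalizer hD.grp hlt (sup_le hP'S hCS))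
  have hv1 : v ∈ ((P' ⊔ C : Subgroup Ω) : Set Ω) := hv.1
  rw [Subgroup.coe_mul_of_left_le_normalizer_right P' C hP'C] at hv1
  obtain ⟨q, hq, y, hy, rfl⟩ := hv1
  have hyP : y ∉ P' := fun h => hvP (P'.mul_mem hq h)
  have hyn : y ∈ Subgroup.normalizer (P' : Set Ω) := by
    have := Subgroup.mul_mem _ (Subgroup.inv_mem _ (Subgroup.le_normalizer hq)) hv.2
    rwa [inv_mul_cancel_left] at this
  obtain ⟨hyT, hyc⟩ := Fusion.mem_centralizerIn.mp hy
  have hyS := hD.le hyT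
  refine ⟨P', isConj_iff.mpr ⟨f, hmapD, rfl⟩, fun hle => hyP ?_⟩
  refine mem_of_inn (hP.2 P' (isConj_iff.mpr ⟨f, hmapD, rfl⟩)) hyS hyn
    (hle ⟨conjAut_mem_autInducedBy hyn hyS, ?_⟩) hP'S
  have hstab : ∀ α ∈ (prodSys hD).autGroup P', ∀ z ∈ U₀, autFun α z ∈ U₀ := fun α hα z hz => by
    have hm : IsMap F P' (autFun α) :=
      CharSub.isMap_of_sub (prodSys_sub hD) ((isMap_autFun hP'S).mpr hα)
    rw [← hP'T] at hz ⊢
    exact ⟨autFun_mem _ hz.1, stronglyClosed_apply hD.sc hm hz.1 hz.2⟩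
  refine Criterion.le_opAut (K := Small.chainAut (prodSys hD) P' U₀ hU₀P) (fun _ h => h.1)
    (Small.isPGroup_chainAut hD.grp hU₀P hP'S) (fun α hα β hβ => Small.conj_chainAut hU₀P hP'S
      ⟨hα, hstab α hα, hstab α hα⟩ hβ)
    ⟨autInducedBy_le hP'S (conjAut_mem_autInducedBy hyn hyS), fun z hz => ?_, fun x hx => ?_⟩
  · rw [autFun_apply_mem _ (hU₀P hz), conjAut_apply]
    exact hyc z hz
  · rw [autFun_apply_mem _ hx, conjAut_apply, ← hP'T]
    refine ⟨P'.mul_mem (conj_mem_of_mem_normalizer hyn hx) (P'.inv_mem hx), ?_⟩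
    show y * x * y⁻¹ * x⁻¹ ∈ T
    rw [show y * x * y⁻¹ * x⁻¹ = y * (x * y⁻¹ * x⁻¹) by group]
    exact T.mul_mem hyT (hD.conjT (hP'S hx) (T.inv_mem hyT))

/-- The product system is saturated. -/
theorem saturated_prodSys (hD : Setup F E p) : (prodSys hD).IsSaturated p := by
  refine Criterion.saturated_of_family hD.grp (ℋ := {P | P ≤ S ∧ E.IsCentric (P ⊓ T)})
    (fun P hP Q hQ => ?_) (fun P hP => exists_good_member hD hP.1 hP.2) (fun E' hE' => ?_)
    fun P hPc hP => exists_outer_witness hD hPc fun h => hP ⟨hPc.1, h⟩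
  · obtain ⟨f, hf, rfl⟩ := isConj_iff.mp hQ
    have hfm : IsMap F P f := CharSub.isMap_of_sub (prodSys_sub hD) hf
    refine ⟨hfm.img_le, ?_⟩
    rw [← img_inf_stronglyClosed hD.sc hfm]
    exact CharSub.centricT_img hD.inv hP.2 (hfm.mono inf_le_left)
  · refine le_iff_isMap.mpr fun P f hf => ?_
    obtain ⟨s, hg⟩ := (isMap_prodSys hD).mp hf
    clear hf
    induction hg with
    | conj P s hP hs => exact isMap_conj hP hs
    | prim P γ hγ =>
      obtain ⟨φ, hφ, e⟩ := (isMap_prodSys hD).mpr ⟨1, Gen.prim P γ hγ⟩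
      exact ⟨φ, hE' P ⟨hγ.le, hγ.centric⟩ hφ, e⟩
    | comp P Q f g s t _ _ hfQ ih ih' => exact ih.comp ih' hfQ
    | weak P R f f' s s' _ hR e _ ih => exact (ih.mono hR).congr e

end Cfsg.Lib.Fusion.Product
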